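import Cfsg.Agent.Lib.Lie.Rel.Inst

/-!
# Integer certificates for the matrices of root elements

Sums of integer multiples indexed by coordinate numbers, evaluated in a field of characteristic `p`.
The mode `m` is `p` for `p = 2, 3` and `5` for larger `p`.
-/

set_option autoImplicit false

namespace CfsgLib.Known.Overgroup

open Cfsg.Lie (ChevalleyDatum)
open CfsgLib.Lie.Chev
open scoped Matrix

/-- certainly zero in characteristic of mode `m` -/
def zc (m : ℕ) (c : ℤ) : Bool := bif Nat.beq m 5 then decide (c = 0) else Nat.beq (c.natAbs % m) 0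

/-- certainly non-zero in characteristic of mode `m` -/
def uc (m : ℕ) (c : ℤ) : Bool :=
  bif Nat.beq m 5 then (Nat.ble 1 c.natAbs && Nat.ble c.natAbs 4) else !Nat.beq (c.natAbs % m) 0

/-- what the two predicates promise -/
def ModeOK (k : Type*) [Field k] (m : ℕ) : Prop :=
  (∀ c : ℤ, zc m c = true → (c : k) = 0) ∧ ∀ c : ℤ, uc m c = true → (c : k) ≠ 0

theorem modeOK_of_char (k : Type*) [Field k] (p : ℕ) [Fact p.Prime] [CharP k p] : ModeOK k (min p 5) := by
  have hdvd : ∀ c : ℤ, (c : k) = 0 ↔ p ∣ c.natAbs := fun c => by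
    rw [CharP.intCast_eq_zero_iff k p, Int.natCast_dvd]
  by_cases h5 : 5 ≤ p
  · rw [min_eq_right h5]
    refine ⟨fun c hc => ?_, fun c hc h0 => ?_⟩
    · simp [zc] at hc
      simp [hc]
    · simp [uc] at hc
      have := Nat.le_of_dvd (by omega) ((hdvd c).1 h0)
      omega
  · have hm : min p 5 = p := min_eq_left (by omega)
    have hb : Nat.beq p 5 = false := by
      rw [Bool.eq_false_iff]; intro h; have := Nat.eq_of_beq_eq_true h; omega
    rw [hm]
    refine ⟨fun c hc => ?_, fun c hc h0 => ?_⟩
    · simp only [zc, hb, cond_false, nat_beq_iff] at hc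
      exact (hdvd c).2 (Nat.dvd_of_mod_eq_zero hc)
    · simp only [uc, hb, cond_false, Bool.not_eq_true', Bool.eq_false_iff, ne_eq, nat_beq_iff] at hc
      exact hc (Nat.mod_eq_zero_of_dvd ((hdvd c).1 h0))

theorem mode_cases (p : ℕ) [hp : Fact p.Prime] : min p 5 = 2 ∨ min p 5 = 3 ∨ min p 5 = 5 := by
  have h2 := hp.out.two_le
  by_cases h : 5 ≤ p
  · simp [min_eq_right h]
  · have : p ≠ 4 := fun e => by subst e; exact absurd hp.out (by norm_num)
    omega

/-! ### Combinations -/

/-- total coefficient of a key -/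
def tot (L : List (ℕ × ℤ)) (key : ℕ) : ℤ :=
  L.foldr (fun q a => bif Nat.beq q.1 key then q.2 + a else a) 0

/-- `L` is a unit multiple of `tgt` modulo the known keys -/
def chkComb (m : ℕ) (known : ℕ → Bool) (L : List (ℕ × ℤ)) (tgt : ℕ) : Bool :=
  uc m (tot L tgt) && L.all fun q => Nat.beq q.1 tgt || known q.1 || zc m (tot L q.1)

theorem tot_cons (q : ℕ × ℤ) (L : List (ℕ × ℤ)) (key : ℕ) :
    tot (q :: L) key = (if q.1 = key then q.2 else 0) + tot L key := by
  show (bif Nat.beq q.1 key then q.2 + tot L key else tot L key) = _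
  by_cases h : q.1 = key
  · rw [if_pos h, nat_beq_iff.2 h, cond_true]
  · rw [if_neg h, show Nat.beq q.1 key = false from Bool.eq_false_iff.2 fun e => h (nat_beq_iff.1 e), cond_false,
      zero_add]

theorem sum_eq_sum_tot {k M : Type*} [Field k] [AddCommGroup M] [Module k M] (g : ℕ → M) :
    ∀ (L : List (ℕ × ℤ)) (S : Finset ℕ), (∀ q ∈ L, q.1 ∈ S) →
      (L.map fun q => (q.2 : k) • g q.1).sum = ∑ key ∈ S, (tot L key : k) • g key
  | [], S, _ => by simp [tot]
  | q :: L, S, h => by
    have e : ∀ key, (tot (q :: L) key : k) • g key =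
        (if q.1 = key then (q.2 : k) • g key else 0) + (tot L key : k) • g key := fun key => by
      rw [tot_cons, Int.cast_add, add_smul]
      split_ifs <;> simp
    rw [List.map_cons, List.sum_cons, sum_eq_sum_tot g L S (fun x hx => h x (List.mem_cons_of_mem _ hx)),
      Finset.sum_congr rfl (fun key _ => e key), Finset.sum_add_distrib, Finset.sum_ite_eq,
      if_pos (h q List.mem_cons_self)]

theorem chkComb_spec {k M : Type*} [Field k] [AddCommGroup M] [Module k M] {m : ℕ} (hm : ModeOK k m)
    {known : ℕ → Bool} {L : List (ℕ × ℤ)} {tgt : ℕ} (h : chkComb m known L tgt = true) (g : ℕ → M)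
    (hk : ∀ j, known j = true → g j = 0) (h0 : (L.map fun q => (q.2 : k) • g q.1).sum = 0) : g tgt = 0 := by
  classical
  simp only [chkComb, Bool.and_eq_true, List.all_eq_true, Bool.or_eq_true, nat_beq_iff] at h
  rw [sum_eq_sum_tot (k := k) g L (insert tgt (L.map Prod.fst).toFinset) (fun q hq => by
    simp only [Finset.mem_insert, List.mem_toFinset, List.mem_map]; exact Or.inr ⟨q, hq, rfl⟩)] at h0
  rw [Finset.sum_eq_single tgt] at h0
  · exact (smul_eq_zero.1 h0).resolve_left (hm.2 _ h.1)
  · intro key hkey hne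
    simp only [Finset.mem_insert, List.mem_toFinset, List.mem_map] at hkey
    obtain ⟨q, hq, rfl⟩ := hkey.resolve_left hne
    rcases h.2 q hq with (e | e) | e
    · exact absurd e hne
    · rw [hk _ e, smul_zero]
    · rw [hm.1 _ e, zero_smul]
  · intro h'; exact absurd (Finset.mem_insert_self _ _) h'

/-! ### Sparse matrices with integer entries -/

section
variable {D : ChevalleyDatum} {k : Type*} [Field k]

/-- the matrix of a list of `(row, column, coefficient)` -/
def tm (D : ChevalleyDatum) (k : Type*) [Field k] (L : List (ℕ × ℕ × ℤ)) : Matrix D.Idx D.Idx k :=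
  Matrix.of fun a b => (L.map fun e => if e.1 = code D a ∧ e.2.1 = code D b then (e.2.2 : k) else 0).sum

/-- the entries of `x_r(1) - 1` -/
def e1 (D : ChevalleyDatum) (r : ℕ) : List (ℕ × ℕ × ℤ) :=
  (entries D r).map fun e => (e.2.1, e.2.2.1, e.2.2.2)

/-- the product of two lists of entries -/
def tmul (L L' : List (ℕ × ℕ × ℤ)) : List (ℕ × ℕ × ℤ) :=
  L.flatMap fun e => (L'.filter fun f => Nat.beq f.1 e.2.1).map fun f => (e.1, f.2.1, e.2.2 * f.2.2)

/-- the coordinate vectors, by number -/
def bv (D : ChevalleyDatum) (k : Type*) [Field k] (j : ℕ) : D.Idx → k := fun a => if code D a = j then 1 else 0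

/-- the coordinate of a vector, by number -/
def coord (v : D.Idx → k) (j : ℕ) : k := ∑ a, if code D a = j then v a else 0

theorem coord_code (v : D.Idx → k) (a : D.Idx) : coord v (code D a) = v a := by
  rw [coord, Finset.sum_eq_single a]
  · rw [if_pos rfl]
  · intro b _ hb; rw [if_neg (fun e => hb (code_injective D e))]
  · simp

theorem bv_code (a : D.Idx) : bv D k (code D a) = Pi.single a 1 := by
  funext b
  by_cases h : b = a
  · subst h; simp [bv]
  · rw [Pi.single_eq_of_ne h]; simp only [bv]; rw [if_neg (fun e => h (code_injective D e))]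

theorem tm_append (L L' : List (ℕ × ℕ × ℤ)) : tm D k (L ++ L') = tm D k L + tm D k L' := by
  ext a b; simp [tm]

theorem tm_cons (e : ℕ × ℕ × ℤ) (L : List (ℕ × ℕ × ℤ)) : tm D k (e :: L) = tm D k [e] + tm D k L :=
  tm_append [e] L

theorem tm_nil : tm D k [] = 0 := by ext a b; simp [tm]

variable {X : Aux} (C : Cert D X)
include C

theorem tm_e1 {r : ℕ} (hr : r < D.nroots) : tm D k (e1 D r) = D.x k r 1 - 1 := by
  rw [xMat_eq D hr (C.neg_ne hr) (C.key_ne hr), add_sub_cancel_left]
  ext a b
  simp [tm, e1, matOf, List.map_map, Function.comp_def]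

theorem e1_col_lt {r : ℕ} (hr : r < D.nroots) : ∀ e ∈ e1 D r, e.2.1 < D.rank + D.nroots := by
  intro e he
  obtain ⟨x, hx, rfl⟩ := List.mem_map.1 he
  exact C.entries_col_lt hr x hx

omit C in
theorem tm_tmul {L : List (ℕ × ℕ × ℤ)} (hL : ∀ e ∈ L, e.2.1 < D.rank + D.nroots) (L' : List (ℕ × ℕ × ℤ)) :
    tm D k (tmul L L') = tm D k L * tm D k L' := by
  induction L with
  | nil => simp [tmul, tm_nil]
  | cons e L ih =>
    rw [show tmul (e :: L) L' = ((L'.filter fun f => Nat.beq f.1 e.2.1).map fun f => (e.1, f.2.1, e.2.2 * f.2.2)) ++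
      tmul L L' from List.flatMap_cons, tm_append, ih (fun x hx => hL x (List.mem_cons_of_mem _ hx)),
      tm_cons e L, add_mul]
    congr 1
    obtain ⟨x0, hx0⟩ := exists_code D (hL e List.mem_cons_self)
    ext a b
    rw [Matrix.mul_apply, Finset.sum_eq_single x0]
    · by_cases ha : e.1 = code D a
      · simp only [tm, Matrix.of_apply, List.map_map, List.map_cons, List.map_nil, List.sum_cons, List.sum_nil,
          add_zero, hx0, ha, and_self, if_true, Function.comp_def, true_and]
        rw [list_sum_filter, ← List.sum_map_mul_left]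
        congr 1
        refine List.map_congr_left fun f _ => ?_
        by_cases hf : f.1 = e.2.1
        · rw [nat_beq_iff.2 hf, cond_true]
          by_cases hb : f.2.1 = code D b
          · simp [hf, hb, Int.cast_mul]
          · simp [hf, hb]
        · rw [show Nat.beq f.1 e.2.1 = false from Bool.eq_false_iff.2 fun h => hf (nat_beq_iff.1 h), cond_false]
          simp [hf]
      · simp [tm, List.map_map, Function.comp_def, ha]
    · intro x _ hx
      have : ¬ e.2.1 = code D x := fun h => hx (code_injective D (hx0.trans h).symm)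
      simp [tm, this]
    · simp

omit C in
/-- rows of a sparse matrix applied to a vector -/
theorem tm_mulVec_apply {L : List (ℕ × ℕ × ℤ)} (v : D.Idx → k) (a : D.Idx) :
    (tm D k L *ᵥ v) a =
      (((L.filter fun e => Nat.beq e.1 (code D a)).map fun e => (e.2.1, e.2.2)).map fun q : ℕ × ℤ =>
        (q.2 : k) • coord v q.1).sum := by
  induction L with
  | nil => simp [tm_nil]
  | cons e L ih =>
    rw [tm_cons, Matrix.add_mulVec, Pi.add_apply, ih, List.filter_cons]
    have h1 : (tm D k [e] *ᵥ v) a = if e.1 = code D a then (e.2.2 : k) * coord v e.2.1 else 0 := by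
      simp only [Matrix.mulVec, dotProduct, tm, Matrix.of_apply, List.map_cons, List.map_nil, List.sum_cons,
        List.sum_nil, add_zero]
      by_cases ha : e.1 = code D a
      · rw [if_pos ha, coord, Finset.mul_sum]
        refine Finset.sum_congr rfl fun x _ => ?_
        by_cases hx : e.2.1 = code D x
        · simp [ha, hx]
        · simp [hx, Ne.symm hx]
      · simp [ha]
    rw [h1]
    by_cases ha : e.1 = code D a
    · rw [if_pos ha, if_pos (nat_beq_iff.2 ha)]; simp
    · rw [if_neg ha, if_neg (by rw [nat_beq_iff]; exact ha), zero_add]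

omit C in
/-- columns of a sparse matrix -/
theorem tm_mulVec_bv {L : List (ℕ × ℕ × ℤ)} {j : ℕ} (hj : j < D.rank + D.nroots) :
    tm D k L *ᵥ bv D k j =
      ((L.filter fun e => Nat.beq e.2.1 j).map fun e => (e.2.2 : k) • bv D k e.1).sum := by
  obtain ⟨x0, rfl⟩ := exists_code D hj
  induction L with
  | nil => simp [tm_nil]
  | cons e L ih =>
    rw [tm_cons, Matrix.add_mulVec, ih, List.filter_cons]
    have h1 : tm D k [e] *ᵥ bv D k (code D x0) = if e.2.1 = code D x0 then (e.2.2 : k) • bv D k e.1 else 0 := by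
      rw [bv_code, Matrix.mulVec_single_one]
      funext a
      simp only [Matrix.col_apply, tm, Matrix.of_apply, List.map_cons, List.map_nil, List.sum_cons,
        List.sum_nil, add_zero]
      by_cases hx : e.2.1 = code D x0
      · simp [hx, bv, eq_comm]
      · simp [hx]
    rw [h1]
    by_cases ha : e.2.1 = code D x0
    · rw [if_pos ha, if_pos (nat_beq_iff.2 ha)]; simp
    · rw [if_neg ha, if_neg (by rw [nat_beq_iff]; exact ha), zero_add]

end

end CfsgLib.Known.Overgroup
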