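import Cfsg.Agent.Lib.Known.Overgroup.Kill
import Cfsg.Agent.Lib.Lie.Chev.All

/-!
# Certificates: generated by a search program, checked by kernel reduction
-/

set_option autoImplicit false
set_option maxHeartbeats 1000000

namespace CfsgLib.Known.Overgroup

open Cfsg.Lie

def killG2_2 : List (ℕ × List (ℕ × List (List ℕ × ℕ × ℕ × ℤ))) := [(7, []), (9, [(3, [([10], 0, 13, 1)]), (6, [([10], 6, 8, 1)]), (10, [([10], 10, 8, 1)])]), (8, [(7, [([11], 7, 1, 1)]), (9, [([11], 9, 1, 1)]), (11, [([10], 11, 8, 1), ([11], 6, 3, 1)])]), (6, [(12, [([8], 12, 9, 1)])])]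
def derG2_2 : List (ℕ × ℕ × ℕ) := [(6, 10, 11), (7, 8, 10)]
theorem chkKillG2_2 : chkKill chevG2 2 derG2_2 killG2_2 = true := by decide +kernel

def killG2_3 : List (ℕ × List (ℕ × List (List ℕ × ℕ × ℕ × ℤ))) := [(6, []), (7, []), (8, []), (10, [])]
def derG2_3 : List (ℕ × ℕ × ℕ) := [(6, 10, 11), (7, 8, 9)]
theorem chkKillG2_3 : chkKill chevG2 3 derG2_3 killG2_3 = true := by decide +kernel

def killG2_5 : List (ℕ × List (ℕ × List (List ℕ × ℕ × ℕ × ℤ))) := [(6, []), (7, []), (8, []), (9, []), (10, []), (11, [])]
def derG2_5 : List (ℕ × ℕ × ℕ) := []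
theorem chkKillG2_5 : chkKill chevG2 5 derG2_5 killG2_5 = true := by decide +kernel

def killB2_2 : List (ℕ × List (ℕ × List (List ℕ × ℕ × ℕ × ℤ))) := [(4, []), (5, [(6, [([6], 6, 5, 1), ([7], 6, 3, 1), ([7], 0, 5, 1)])])]
theorem chkKillGoB2_2 : chkKillGo chevB2 2 killB2_2 (2 ^ 6 ||| 2 ^ 7) = true := by decide +kernel
theorem chkKillB2_2_seven : chkKillRoot chevB2 2 (fun w => decide (w = [6, 7])) 7 [(2, [([6, 7], 1, 9, 1)])] = true := by decide +kernel

def killB2_3 : List (ℕ × List (ℕ × List (List ℕ × ℕ × ℕ × ℤ))) := [(4, []), (5, [(6, [([7], 6, 0, 1)])])]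
def derB2_3 : List (ℕ × ℕ × ℕ) := [(5, 6, 7), (4, 5, 6)]
theorem chkKillB2_3 : chkKill chevB2 3 derB2_3 killB2_3 = true := by decide +kernel

def killB2_5 : List (ℕ × List (ℕ × List (List ℕ × ℕ × ℕ × ℤ))) := [(4, []), (5, []), (6, []), (7, [])]
def derB2_5 : List (ℕ × ℕ × ℕ) := []
theorem chkKillB2_5 : chkKill chevB2 5 derB2_5 killB2_5 = true := by decide +kernel

def killD4_2 : List (ℕ × List (ℕ × List (List ℕ × ℕ × ℕ × ℤ))) := [(12, []), (13, []), (14, [(26, [([15], 26, 25, 1)])]), (18, [])]
def derD4_2 : List (ℕ × ℕ × ℕ) := [(12, 14, 15), (12, 16, 17), (12, 19, 20), (12, 21, 22), (13, 14, 16), (13, 19, 21), (14, 18, 19), (14, 22, 23)]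
theorem chkKillD4_2 : chkKill chevD4 2 derD4_2 killD4_2 = true := by decide +kernel

def killD4_3 : List (ℕ × List (ℕ × List (List ℕ × ℕ × ℕ × ℤ))) := [(12, []), (13, []), (14, []), (18, [])]
def derD4_3 : List (ℕ × ℕ × ℕ) := [(12, 14, 15), (12, 16, 17), (12, 19, 20), (12, 21, 22), (13, 14, 16), (13, 19, 21), (14, 18, 19), (14, 22, 23)]
theorem chkKillD4_3 : chkKill chevD4 3 derD4_3 killD4_3 = true := by decide +kernel

def killD4_5 : List (ℕ × List (ℕ × List (List ℕ × ℕ × ℕ × ℤ))) := [(12, []), (13, []), (14, []), (15, []), (16, []), (17, []), (18, []), (19, []), (20, []), (21, []), (22, []), (23, [])]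
def derD4_5 : List (ℕ × ℕ × ℕ) := []
theorem chkKillD4_5 : chkKill chevD4 5 derD4_5 killD4_5 = true := by decide +kernel

def killF4_2 : List (ℕ × List (ℕ × List (List ℕ × ℕ × ℕ × ℤ))) := [(24, [(50, [([26], 50, 49, 1)])]), (25, []), (27, []), (28, []), (30, []), (33, [])]
def derF4_2 : List (ℕ × ℕ × ℕ) := [(24, 25, 26), (24, 30, 31), (24, 41, 42), (24, 46, 47), (25, 31, 32), (25, 38, 39), (25, 42, 43), (25, 45, 46), (26, 27, 29), (26, 34, 36), (27, 33, 34), (27, 35, 37), (27, 36, 38), (27, 39, 40), (28, 33, 35), (28, 42, 44), (30, 33, 41), (30, 42, 45)]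
theorem chkKillF4_2 : chkKill chevF4 2 derF4_2 killF4_2 = true := by decide +kernel

def killF4_3 : List (ℕ × List (ℕ × List (List ℕ × ℕ × ℕ × ℤ))) := [(24, []), (25, []), (27, []), (33, [])]
def derF4_3 : List (ℕ × ℕ × ℕ) := [(24, 25, 26), (24, 30, 31), (24, 41, 42), (24, 46, 47), (25, 31, 32), (25, 38, 39), (25, 42, 43), (25, 45, 46), (26, 27, 29), (26, 34, 36), (27, 28, 30), (27, 33, 34), (27, 35, 37), (27, 36, 38), (27, 39, 40), (27, 44, 45), (28, 33, 35), (28, 42, 44), (30, 33, 41), (25, 27, 28)]
theorem chkKillF4_3 : chkKill chevF4 3 derF4_3 killF4_3 = true := by decide +kernel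

def killF4_5 : List (ℕ × List (ℕ × List (List ℕ × ℕ × ℕ × ℤ))) := [(24, []), (25, []), (26, []), (27, []), (28, []), (29, []), (30, []), (31, []), (32, []), (33, []), (34, []), (35, []), (36, []), (37, []), (38, []), (39, []), (40, []), (41, []), (42, []), (43, []), (44, []), (45, []), (46, []), (47, [])]
def derF4_5 : List (ℕ × ℕ × ℕ) := []
theorem chkKillF4_5 : chkKill chevF4 5 derF4_5 killF4_5 = true := by decide +kernel

def killE6_2 : List (ℕ × List (ℕ × List (List ℕ × ℕ × ℕ × ℤ))) := [(36, []), (37, []), (39, []), (42, []), (46, [(76, [([47], 76, 75, 1)])]), (56, [])]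
def derE6_2 : List (ℕ × ℕ × ℕ) := [(36, 37, 38), (36, 40, 41), (36, 44, 45), (36, 48, 49), (36, 51, 52), (36, 53, 54), (36, 59, 60), (36, 62, 63), (36, 64, 65), (36, 67, 68), (37, 39, 40), (37, 43, 44), (37, 47, 48), (37, 50, 51), (37, 54, 55), (37, 58, 59), (37, 61, 62), (37, 65, 66), (37, 68, 69), (39, 42, 43), (39, 46, 47), (39, 51, 53), (39, 57, 58), (39, 62, 64), (39, 69, 70), (42, 47, 50), (42, 56, 57), (42, 64, 67), (46, 58, 61), (46, 70, 71)]
theorem chkKillE6_2 : chkKill chevE6 2 derE6_2 killE6_2 = true := by decide +kernel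

def killE6_3 : List (ℕ × List (ℕ × List (List ℕ × ℕ × ℕ × ℤ))) := [(36, []), (37, []), (39, []), (42, []), (46, []), (56, [])]
def derE6_3 : List (ℕ × ℕ × ℕ) := [(36, 37, 38), (36, 40, 41), (36, 44, 45), (36, 48, 49), (36, 51, 52), (36, 53, 54), (36, 59, 60), (36, 62, 63), (36, 64, 65), (36, 67, 68), (37, 39, 40), (37, 43, 44), (37, 47, 48), (37, 50, 51), (37, 54, 55), (37, 58, 59), (37, 61, 62), (37, 65, 66), (37, 68, 69), (39, 42, 43), (39, 46, 47), (39, 51, 53), (39, 57, 58), (39, 62, 64), (39, 69, 70), (42, 47, 50), (42, 56, 57), (42, 64, 67), (46, 58, 61), (46, 70, 71)]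
theorem chkKillE6_3 : chkKill chevE6 3 derE6_3 killE6_3 = true := by decide +kernel

def killE6_5 : List (ℕ × List (ℕ × List (List ℕ × ℕ × ℕ × ℤ))) := [(36, []), (37, []), (38, []), (39, []), (40, []), (41, []), (42, []), (43, []), (44, []), (45, []), (46, []), (47, []), (48, []), (49, []), (50, []), (51, []), (52, []), (53, []), (54, []), (55, []), (56, []), (57, []), (58, []), (59, []), (60, []), (61, []), (62, []), (63, []), (64, []), (65, []), (66, []), (67, []), (68, []), (69, []), (70, []), (71, [])]
def derE6_5 : List (ℕ × ℕ × ℕ) := []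
theorem chkKillE6_5 : chkKill chevE6 5 derE6_5 killE6_5 = true := by decide +kernel

def killE7_2 : List (ℕ × List (ℕ × List (List ℕ × ℕ × ℕ × ℤ))) := [(63, []), (64, []), (66, []), (69, []), (73, []), (78, []), (93, [(131, [([94], 131, 130, 1)])])]
def derE7_2 : List (ℕ × ℕ × ℕ) := [(63, 64, 65), (63, 67, 68), (63, 71, 72), (63, 76, 77), (63, 81, 82), (63, 85, 86), (63, 88, 89), (63, 90, 91), (63, 97, 98), (63, 101, 102), (63, 104, 105), (63, 106, 107), (63, 110, 111), (63, 112, 113), (63, 115, 116), (63, 119, 120), (64, 66, 67), (64, 70, 71), (64, 75, 76), (64, 80, 81), (64, 84, 85), (64, 87, 88), (64, 91, 92), (64, 96, 97), (64, 100, 101), (64, 103, 104), (64, 107, 108), (64, 109, 110), (64, 113, 114), (64, 116, 117), (64, 120, 121), (66, 69, 70), (66, 74, 75), (66, 79, 80), (66, 83, 84), (66, 88, 90), (66, 95, 96), (66, 99, 100), (66, 104, 106), (66, 110, 112), (66, 117, 118), (66, 121, 122), (69, 73, 74), (69, 78, 79), (69, 84, 87), (69, 94, 95), (69, 100, 103), (69, 112, 115), (69, 122, 123), (73, 79, 83), (73, 93,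 94), (73, 103, 109), (73, 123, 124), (78, 95, 99), (78, 115, 119), (93, 124, 125)]
theorem chkKillE7_2 : chkKill chevE7 2 derE7_2 killE7_2 = true := by decide +kernel

def killE7_3 : List (ℕ × List (ℕ × List (List ℕ × ℕ × ℕ × ℤ))) := [(63, []), (64, []), (66, []), (69, []), (73, []), (78, []), (93, [])]
def derE7_3 : List (ℕ × ℕ × ℕ) := [(63, 64, 65), (63, 67, 68), (63, 71, 72), (63, 76, 77), (63, 81, 82), (63, 85, 86), (63, 88, 89), (63, 90, 91), (63, 97, 98), (63, 101, 102), (63, 104, 105), (63, 106, 107), (63, 110, 111), (63, 112, 113), (63, 115, 116), (63, 119, 120), (64, 66, 67), (64, 70, 71), (64, 75, 76), (64, 80, 81), (64, 84, 85), (64, 87, 88), (64, 91, 92), (64, 96, 97), (64, 100, 101), (64, 103, 104), (64, 107, 108), (64, 109, 110), (64, 113, 114), (64, 116, 117), (64, 120, 121), (66, 69, 70), (66, 74, 75), (66, 79, 80), (66, 83, 84), (66, 88, 90), (66, 95, 96), (66, 99, 100), (66, 104, 106), (66, 110, 112), (66, 117, 118), (66, 121, 122), (69, 73, 74), (69, 78, 79), (69, 84, 87), (69, 94, 95), (69, 100, 103),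 (69, 112, 115), (69, 122, 123), (73, 79, 83), (73, 93, 94), (73, 103, 109), (73, 123, 124), (78, 95, 99), (78, 115, 119), (93, 124, 125)]
theorem chkKillE7_3 : chkKill chevE7 3 derE7_3 killE7_3 = true := by decide +kernel

def killE7_5 : List (ℕ × List (ℕ × List (List ℕ × ℕ × ℕ × ℤ))) := [(63, []), (64, []), (65, []), (66, []), (67, []), (68, []), (69, []), (70, []), (71, []), (72, []), (73, []), (74, []), (75, []), (76, []), (77, []), (78, []), (79, []), (80, []), (81, []), (82, []), (83, []), (84, []), (85, []), (86, []), (87, []), (88, []), (89, []), (90, []), (91, []), (92, []), (93, []), (94, []), (95, []), (96, []), (97, []), (98, []), (99, []), (100, []), (101, []), (102, []), (103, []), (104, []), (105, []), (106, []), (107, []), (108, []), (109, []), (110, []), (111, []), (112, []), (113, []), (114, []), (115, []), (116, []), (117, []), (118, []), (119, []), (120, []), (121, []), (122, []), (123, []), (124, []), (125, [])]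
def derE7_5 : List (ℕ × ℕ × ℕ) := []
theorem chkKillE7_5 : chkKill chevE7 5 derE7_5 killE7_5 = true := by decide +kernel

def killE8_2 : List (ℕ × List (ℕ × List (List ℕ × ℕ × ℕ × ℤ))) := [(120, [(246, [([122], 246, 245, 1)])]), (121, []), (123, []), (126, []), (130, []), (135, []), (141, []), (162, [])]
def derE8_2 : List (ℕ × ℕ × ℕ) := [(120, 121, 122), (120, 124, 125), (120, 128, 129), (120, 133, 134), (120, 139, 140), (120, 145, 146), (120, 150, 151), (120, 154, 155), (120, 157, 158), (120, 159, 160), (120, 167, 168), (120, 172, 173), (120, 176, 177), (120, 179, 180), (120, 181, 182), (120, 186, 187), (120, 189, 190), (120, 191, 192), (120, 195, 196), (120, 197, 198), (120, 200, 201), (120, 205, 206), (120, 207, 208), (120, 210, 211), (120, 214, 215), (120, 219, 220), (120, 226, 227), (120, 238, 239), (121, 123, 124), (121, 127, 128), (121, 132, 133), (121, 138, 139), (121, 144, 145), (121, 149, 150), (121, 153, 154), (121, 156, 157), (121, 160, 161), (121, 166, 167), (121, 171, 172), (121, 175, 176), (121, 178, 179),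 (121, 182, 183), (121, 185, 186), (121, 188, 189), (121, 192, 193), (121, 194, 195), (121, 198, 199), (121, 201, 202), (121, 204, 205), (121, 208, 209), (121, 211, 212), (121, 215, 216), (121, 220, 221), (121, 227, 228), (121, 237, 238), (123, 126, 127), (123, 131, 132), (123, 137, 138), (123, 143, 144), (123, 148, 149), (123, 152, 153), (123, 157, 159), (123, 165, 166), (123, 170, 171), (123, 174, 175), (123, 179, 181), (123, 184, 185), (123, 189, 191), (123, 195, 197), (123, 202, 203), (123, 205, 207), (123, 212, 213), (123, 216, 217), (123, 221, 222), (123, 228, 229), (123, 236, 237), (126, 130, 131), (126, 136, 137), (126, 142, 143), (126, 147, 148), (126, 153, 156), (126, 164, 165), (126, 169, 170), (126, 175, 178), (126, 185, 188), (126, 197, 200), (126, 207, 210), (126, 217, 218), (126, 222, 223), (126, 229, 230), (126, 235, 236), (130, 135, 136), (130, 141, 142), (130, 148, 152), (130, 163, 164), (130, 170, 174), (130, 188, 194), (130, 210, 214), (130, 223, 224), (130, 230, 231), (130, 234, 235), (135, 142, 147),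 (135, 162, 163), (135, 174, 184), (135, 214, 219), (135, 231, 232), (135, 233, 234), (141, 164, 169), (141, 194, 204), (141, 224, 225), (141, 231, 233), (162, 219, 226)]
theorem chkKillE8_2 : chkKill chevE8 2 derE8_2 killE8_2 = true := by decide +kernel

def killE8_3 : List (ℕ × List (ℕ × List (List ℕ × ℕ × ℕ × ℤ))) := [(120, []), (121, []), (123, []), (126, []), (130, []), (135, []), (141, []), (162, [])]
def derE8_3 : List (ℕ × ℕ × ℕ) := [(120, 121, 122), (120, 124, 125), (120, 128, 129), (120, 133, 134), (120, 139, 140), (120, 145, 146), (120, 150, 151), (120, 154, 155), (120, 157, 158), (120, 159, 160), (120, 167, 168), (120, 172, 173), (120, 176, 177), (120, 179, 180), (120, 181, 182), (120, 186, 187), (120, 189, 190), (120, 191, 192), (120, 195, 196), (120, 197, 198), (120, 200, 201), (120, 205, 206), (120, 207, 208), (120, 210, 211), (120, 214, 215), (120, 219, 220), (120, 226, 227), (120, 238, 239), (121, 123, 124), (121, 127, 128), (121, 132, 133), (121, 138, 139), (121, 144, 145), (121, 149, 150), (121, 153,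 154), (121, 156, 157), (121, 160, 161), (121, 166, 167), (121, 171, 172), (121, 175, 176), (121, 178, 179), (121, 182, 183), (121, 185, 186), (121, 188, 189), (121, 192, 193), (121, 194, 195), (121, 198, 199), (121, 201, 202), (121, 204, 205), (121, 208, 209), (121, 211, 212), (121, 215, 216), (121, 220, 221), (121, 227, 228), (121, 237, 238), (123, 126, 127), (123, 131, 132), (123, 137, 138), (123, 143, 144), (123, 148, 149), (123, 152, 153), (123, 157, 159), (123, 165, 166), (123, 170, 171), (123, 174, 175), (123, 179, 181), (123, 184, 185), (123, 189, 191), (123, 195, 197), (123, 202, 203), (123, 205, 207), (123, 212, 213), (123, 216, 217), (123, 221, 222), (123, 228, 229), (123, 236, 237), (126, 130, 131), (126, 136, 137), (126, 142, 143), (126, 147, 148), (126, 153, 156), (126, 164, 165), (126, 169, 170), (126, 175, 178), (126, 185, 188), (126, 197, 200), (126, 207, 210), (126, 217, 218), (126, 222, 223), (126, 229, 230), (126, 235, 236), (130, 135, 136), (130, 141, 142), (130, 148, 152), (130, 163, 164), (130, 170,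 174), (130, 188, 194), (130, 210, 214), (130, 223, 224), (130, 230, 231), (130, 234, 235), (135, 142, 147), (135, 162, 163), (135, 174, 184), (135, 214, 219), (135, 231, 232), (135, 233, 234), (141, 164, 169), (141, 194, 204), (141, 224, 225), (141, 231, 233), (162, 219, 226)]
theorem chkKillE8_3 : chkKill chevE8 3 derE8_3 killE8_3 = true := by decide +kernel

def killE8_5 : List (ℕ × List (ℕ × List (List ℕ × ℕ × ℕ × ℤ))) := [(120, []), (121, []), (122, []), (123, []), (124, []), (125, []), (126, []), (127, []), (128, []), (129, []), (130, []), (131, []), (132, []), (133, []), (134, []), (135, []), (136, []), (137, []), (138, []), (139, []), (140, []), (141, []), (142, []), (143, []), (144, []), (145, []), (146, []), (147, []), (148, []), (149, []), (150, []), (151, []), (152, []), (153, []), (154, []), (155, []), (156, []), (157, []), (158, []), (159, []), (160, []), (161, []), (162, []), (163, []), (164, []), (165, []), (166, []), (167, []), (168, []), (169, []), (170, []), (171, []), (172, []), (173, []), (174, []),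 (175, []), (176, []), (177, []), (178, []), (179, []), (180, []), (181, []), (182, []), (183, []), (184, []), (185, []), (186, []), (187, []), (188, []), (189, []), (190, []), (191, []), (192, []), (193, []), (194, []), (195, []), (196, []), (197, []), (198, []), (199, []), (200, []), (201, []), (202, []), (203, []), (204, []), (205, []), (206, []), (207, []), (208, []), (209, []), (210, []), (211, []), (212, []), (213, []), (214, []), (215, []), (216, []), (217, []), (218, []), (219, []), (220, []), (221, []), (222, []), (223, []), (224, []), (225, []), (226, []), (227, []), (228, []), (229, []), (230, []), (231, []), (232, []), (233, []), (234, []), (235, []), (236, []), (237, []), (238, []), (239, [])]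
def derE8_5 : List (ℕ × ℕ × ℕ) := []
theorem chkKillE8_5 : chkKill chevE8 5 derE8_5 killE8_5 = true := by decide +kernel

end CfsgLib.Known.Overgroup
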