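import Mathlib

/-!
# Finite subfields and power sums
-/

set_option autoImplicit false

namespace CfsgLib.Known.Overgroup

open Polynomial

variable {k : Type*} [Field k]

/-- a finite subset with `0, 1`, closed under the ring operations, is a subfield -/
theorem exists_subfield (A : Set k) (hfin : A.Finite) (h1 : (1 : k) ∈ A) (hadd : ∀ x ∈ A, ∀ y ∈ A, x + y ∈ A)
    (hneg : ∀ x ∈ A, -x ∈ A) (hmul : ∀ x ∈ A, ∀ y ∈ A, x * y ∈ A) :
    ∃ K : Subfield k, (K : Set k) = A := by
  have h0 : (0 : k) ∈ A := by simpa using hadd 1 h1 _ (hneg 1 h1)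
  refine ⟨{ carrier := A, zero_mem' := h0, one_mem' := h1, add_mem' := fun hx hy => hadd _ hx _ hy,
            neg_mem' := fun hx => hneg _ hx, mul_mem' := fun hx hy => hmul _ hx _ hy, inv_mem' := ?_ }, rfl⟩
  intro x hx
  by_cases hx0 : x = 0
  · simpa [hx0] using h0
  · have : Finite A := hfin
    have hbij : Function.Bijective (fun y : A => (⟨x * y, hmul x hx y y.2⟩ : A)) :=
      Finite.injective_iff_bijective.1 fun a b h => Subtype.ext (mul_left_cancel₀ hx0 (congrArg Subtype.val h))
    obtain ⟨y, hy⟩ := hbij.2 ⟨1, h1⟩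
    rw [inv_eq_of_mul_eq_one_right (congrArg Subtype.val hy : x * (y : k) = 1)]
    exact y.2

/-- a finite subfield has prime power order and is the fixed field of a power of Frobenius -/
theorem exists_frob (p : ℕ) [Fact p.Prime] [CharP k p] (K : Subfield k) [Finite K] :
    ∃ f : ℕ, 1 ≤ f ∧ Nat.card K = p ^ f ∧ ∀ x : k, x ^ p ^ f = x ↔ x ∈ K := by
  classical
  have := Fintype.ofFinite K
  have : CharP K p := (K.subtype).charP K.subtype.injective p
  obtain ⟨f, _, hf⟩ := FiniteField.card K p
  refine ⟨f, f.2, by rw [Nat.card_eq_fintype_card, hf], fun x => ⟨fun hx => ?_, fun hx => ?_⟩⟩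
  · have hne : (X ^ p ^ (f : ℕ) - X : k[X]) ≠ 0 :=
      FiniteField.X_pow_card_sub_X_ne_zero k (Nat.one_lt_pow f.2.ne' (Fact.out : p.Prime).one_lt)
    have hsub : (Finset.univ.image fun y : K => (y : k)) ⊆ (X ^ p ^ (f : ℕ) - X : k[X]).roots.toFinset := by
      intro z hz
      obtain ⟨y, _, rfl⟩ := Finset.mem_image.1 hz
      rw [Multiset.mem_toFinset, mem_roots hne, IsRoot, eval_sub, eval_pow, eval_X, sub_eq_zero, ← hf]
      exact congrArg Subtype.val (FiniteField.pow_card y)
    have hcard : (X ^ p ^ (f : ℕ) - X : k[X]).roots.toFinset.card ≤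
        (Finset.univ.image fun y : K => (y : k)).card := by
      rw [Finset.card_image_of_injective _ Subtype.val_injective, Finset.card_univ, hf]
      exact (Multiset.toFinset_card_le _).trans ((card_roots' _).trans
        (FiniteField.X_pow_card_sub_X_natDegree_eq k (Nat.one_lt_pow f.2.ne' (Fact.out : p.Prime).one_lt)).le)
    have heq := Finset.eq_of_subset_of_card_le hsub hcard
    have : x ∈ (X ^ p ^ (f : ℕ) - X : k[X]).roots.toFinset := by
      rw [Multiset.mem_toFinset, mem_roots hne, IsRoot, eval_sub, eval_pow, eval_X, hx, sub_self]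
    rw [← heq] at this
    obtain ⟨y, _, rfl⟩ := Finset.mem_image.1 this
    exact y.2
  · have := congrArg Subtype.val (FiniteField.pow_card (⟨x, hx⟩ : K))
    rw [hf] at this
    exact this

/-- fixed points of a power map, with the number they are known to have -/
theorem card_pow_fixed [IsAlgClosed k] (p : ℕ) [Fact p.Prime] [CharP k p] {a : ℕ} (ha : 1 ≤ a) :
    Nat.card {x : k // x ^ p ^ a = x} = p ^ a := by
  classical
  have hlt : 1 < p ^ a := Nat.one_lt_pow (by omega) (Fact.out : p.Prime).one_lt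
  have hne : (X ^ p ^ a - X : k[X]) ≠ 0 := FiniteField.X_pow_card_sub_X_ne_zero k hlt
  have hnd : (X ^ p ^ a - X : k[X]).roots.Nodup :=
    nodup_roots (galois_poly_separable p _ (dvd_pow_self p (by omega)))
  have hcard : (X ^ p ^ a - X : k[X]).roots.card = p ^ a := by
    rw [IsAlgClosed.card_roots_eq_natDegree, FiniteField.X_pow_card_sub_X_natDegree_eq k hlt]
  refine (Nat.card_congr (Equiv.subtypeEquivRight
    (q := fun x => x ∈ (X ^ p ^ a - X : k[X]).roots.toFinset) fun x => ?_)).trans
    ((Nat.card_eq_finsetCard _).trans ((Multiset.toFinset_card_of_nodup hnd).trans hcard))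
  rw [Multiset.mem_toFinset, mem_roots hne, IsRoot, eval_sub, eval_pow, eval_X, sub_eq_zero]

/-- `X^q - X` divides `X^(q^r) - X` -/
theorem dvd_X_pow_sub_X (p a r : ℕ) : (X ^ p ^ a - X : k[X]) ∣ X ^ (p ^ a) ^ r - X := by
  induction r with
  | zero => simp
  | succ r ih =>
    have h1 : (X ^ p ^ a - X : k[X]) ∣ (X ^ (p ^ a) ^ r) ^ p ^ a - X ^ p ^ a :=
      ih.trans (sub_dvd_pow_sub_pow _ _ _)
    have h2 := dvd_add h1 (dvd_refl (X ^ p ^ a - X : k[X]))
    rwa [sub_add_sub_cancel, ← pow_mul, ← pow_succ] at h2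

/-- the same in a finite field whose order is a power of `q` -/
theorem card_pow_fixed_finite [Fintype k] (p : ℕ) [Fact p.Prime] [CharP k p] {a r : ℕ} (ha : 1 ≤ a)
    (hk : Fintype.card k = (p ^ a) ^ r) : Nat.card {x : k // x ^ p ^ a = x} = p ^ a := by
  classical
  have hlt : 1 < p ^ a := Nat.one_lt_pow (by omega) (Fact.out : p.Prime).one_lt
  have hne : (X ^ p ^ a - X : k[X]) ≠ 0 := FiniteField.X_pow_card_sub_X_ne_zero k hlt
  have hnd : (X ^ p ^ a - X : k[X]).roots.Nodup :=
    nodup_roots (galois_poly_separable p _ (dvd_pow_self p (by omega)))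
  have hs : (X ^ p ^ a - X : k[X]).Splits := by
    refine (FiniteField.isSplittingField_sub k k).splits'.of_dvd ?_ ?_
    · exact Polynomial.map_ne_zero (FiniteField.X_pow_card_sub_X_ne_zero k Fintype.one_lt_card)
    · rw [hk, Algebra.algebraMap_self, Polynomial.map_id]
      exact dvd_X_pow_sub_X p a r
  have hcard : (X ^ p ^ a - X : k[X]).roots.card = p ^ a := by
    rw [← hs.natDegree_eq_card_roots, FiniteField.X_pow_card_sub_X_natDegree_eq k hlt]
  refine (Nat.card_congr (Equiv.subtypeEquivRight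
    (q := fun x => x ∈ (X ^ p ^ a - X : k[X]).roots.toFinset) fun x => ?_)).trans
    ((Nat.card_eq_finsetCard _).trans ((Multiset.toFinset_card_of_nodup hnd).trans hcard))
  rw [Multiset.mem_toFinset, mem_roots hne, IsRoot, eval_sub, eval_pow, eval_X, sub_eq_zero]

/-- order of a subfield as a power of a smaller one -/
theorem card_eq_pow (p : ℕ) [Fact p.Prime] [CharP k p] {a : ℕ} (ha : 1 ≤ a)
    (hq : Nat.card {x : k // x ^ p ^ a = x} = p ^ a) (K : Subfield k) [Finite K]
    (hsub : ∀ x : k, x ^ p ^ a = x → x ∈ K) : ∃ r : ℕ, 1 ≤ r ∧ Nat.card K = (p ^ a) ^ r := by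
  classical
  have := Fintype.ofFinite K
  have h0 : (0 : k) ^ p ^ a = 0 := zero_pow (pow_ne_zero _ (Fact.out : p.Prime).ne_zero)
  let Q : Subfield K :=
    { carrier := {x | (x : k) ^ p ^ a = x}
      zero_mem' := h0
      one_mem' := one_pow _
      add_mem' := fun {x y} hx hy => show ((x : k) + y) ^ p ^ a = _ by rw [add_pow_char_pow, hx, hy]; rfl
      neg_mem' := fun {x} hx => show (-(x : k)) ^ p ^ a = _ by
        have h := add_pow_char_pow (x : k) (-(x : k)) (p := p) (n := a)
        rw [add_neg_cancel, h0, hx] at h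
        exact (eq_neg_of_add_eq_zero_right h.symm).trans rfl
      mul_mem' := fun {x y} hx hy => show ((x : k) * y) ^ p ^ a = _ by rw [mul_pow, hx, hy]; rfl
      inv_mem' := fun x hx => show ((x⁻¹ : K) : k) ^ p ^ a = _ by
        rw [Subfield.coe_inv, inv_pow, hx] }
  have hQ : Nat.card Q = p ^ a := by
    rw [← hq]
    exact Nat.card_congr ⟨fun x => ⟨(x.1 : k), x.2⟩, fun x => ⟨⟨x.1, hsub _ x.2⟩, x.2⟩, fun _ => rfl, fun _ => rfl⟩
  refine ⟨Module.finrank Q K, Module.finrank_pos, ?_⟩
  rw [Module.natCard_eq_pow_finrank (K := Q) (V := K), hQ]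

/-- `Σ_{i<n} i^j` for small `j`, in closed form -/
theorem two_sum_pow_one (n : ℕ) : (2 : k) * ∑ i ∈ Finset.range n, (i : k) ^ 1 = n * (n - 1) := by
  induction n with
  | zero => simp
  | succ n ih => rw [Finset.sum_range_succ, mul_add, ih]; push_cast; ring

theorem six_sum_pow_two (n : ℕ) :
    (6 : k) * ∑ i ∈ Finset.range n, (i : k) ^ 2 = n * (n - 1) * (2 * n - 1) := by
  induction n with
  | zero => simp
  | succ n ih => rw [Finset.sum_range_succ, mul_add, ih]; push_cast; ring

theorem four_sum_pow_three (n : ℕ) :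
    (4 : k) * ∑ i ∈ Finset.range n, (i : k) ^ 3 = (n * (n - 1)) ^ 2 := by
  induction n with
  | zero => simp
  | succ n ih => rw [Finset.sum_range_succ, mul_add, ih]; push_cast; ring

/-- exponents whose power sum over the prime field vanishes -/
def goodExp (m j : ℕ) : Bool :=
  (Nat.beq m 5 && Nat.ble 1 j && Nat.ble j 3) || (Nat.beq m 3 && (Nat.beq j 1 || Nat.beq j 3))

theorem sum_pow_eq_zero (p : ℕ) [Fact p.Prime] [CharP k p] {j : ℕ} (h : goodExp (min p 5) j = true) :
    ∑ i ∈ Finset.range p, (i : k) ^ j = 0 := by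
  have hp := (Fact.out : p.Prime)
  have hp0 : (p : k) = 0 := CharP.cast_eq_zero k p
  simp only [goodExp, Bool.or_eq_true, Bool.and_eq_true] at h
  have hnz : ∀ n : ℕ, 0 < n → (∀ q, q.Prime → q ∣ n → q < p) → (n : k) ≠ 0 := fun n _ hn h0 =>
    (hn p hp ((CharP.cast_eq_zero_iff k p n).1 h0)).false
  rcases h with ⟨⟨h5, h1⟩, h3⟩ | ⟨h3, hj⟩
  · have h5' : 5 ≤ p := by have := Nat.eq_of_beq_eq_true h5; omega
    have h1' := Nat.le_of_ble_eq_true h1
    have h3' := Nat.le_of_ble_eq_true h3
    have hd : ∀ n : ℕ, 0 < n → n ≤ 6 → n ≠ 5 → n ≠ p → (n : k) ≠ 0 := fun n hn hn6 _ hnp h0 => by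
      have h' := (CharP.cast_eq_zero_iff k p n).1 h0
      have := Nat.le_of_dvd hn h'
      have : p = 5 ∨ p = 6 := by omega
      rcases this with rfl | rfl
      · obtain ⟨c, rfl⟩ := h'; omega
      · exact absurd hp (by norm_num)
    obtain rfl | rfl | rfl : j = 1 ∨ j = 2 ∨ j = 3 := by omega
    · have := two_sum_pow_one (k := k) p
      rw [hp0, zero_mul] at this
      exact (mul_eq_zero.1 this).resolve_left (by exact_mod_cast hd 2 (by omega) (by omega) (by omega) (by omega))
    · have := six_sum_pow_two (k := k) p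
      rw [hp0, zero_mul, zero_mul] at this
      exact (mul_eq_zero.1 this).resolve_left (by exact_mod_cast hd 6 (by omega) (by omega) (by omega) (fun e => by subst e; exact absurd hp (by norm_num)))
    · have := four_sum_pow_three (k := k) p
      rw [hp0, zero_mul, zero_pow (by norm_num)] at this
      exact (mul_eq_zero.1 this).resolve_left (by exact_mod_cast hd 4 (by omega) (by omega) (by omega) (by omega))
  · have h' : p = 3 := by have := Nat.eq_of_beq_eq_true h3; omega
    subst h'
    have h30 : (3 : k) = 0 := by exact_mod_cast hp0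
    simp only [Finset.sum_range_succ, Finset.sum_range_zero, Nat.cast_zero, Nat.cast_one, Nat.cast_ofNat]
    rcases hj with e | e <;> rw [Nat.eq_of_beq_eq_true e]
    · linear_combination h30
    · linear_combination 3 * h30

end CfsgLib.Known.Overgroup
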