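import Cfsg.Agent.Lib.Known.Overgroup.Setup
import Cfsg.Agent.Lib.Known.Overgroup.Field

/-!
# The parameters of the root elements in a group containing `G(p)`
-/

set_option autoImplicit false

namespace CfsgLib.Known.Overgroup

open Cfsg.Lie (ChevalleyDatum)
open CfsgLib.Lie.Chev
open scoped Matrix

/-- a group containing all `x_r(1)` -/
def HasOnes {D : ChevalleyDatum} {X : Aux} (C : Cert D X) {k : Type*} [Field k] (H : Subgroup ↥(D.group k)) :
    Prop :=
  ∀ r, r < D.nroots → (chevRel C k).xe r 1 ∈ H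

/-- orbit certificate: each step reflects a known root -/
def chkOrbGo (D : ChevalleyDatum) (X : Aux) : List (ℕ × ℕ) → ℕ → Bool
  | [], _ => true
  | (r, i) :: L, M =>
    Nat.blt r D.nroots && Nat.blt i D.rank && M.testBit r && chkOrbGo D X L (M ||| 2 ^ X.w i r)

/-- the orbit reached -/
def orbMask (X : Aux) : List (ℕ × ℕ) → ℕ → ℕ
  | [], M => M
  | (r, i) :: L, M => orbMask X L (M ||| 2 ^ X.w i r)

variable {D : ChevalleyDatum} {X : Aux} (C : Cert D X) {k : Type*} [Field k] {H : Subgroup ↥(D.group k)}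
  (h1 : HasOnes C H)
include C

/-- the parameters at a root -/
def par (H : Subgroup ↥(D.group k)) (r : ℕ) : Set k := {t | (chevRel C k).xe r t ∈ H}

theorem par_zero (r : ℕ) : (0 : k) ∈ par C H r := by
  show (chevRel C k).xe r 0 ∈ H
  rw [(chevRel C k).xe_zero]; exact one_mem _

theorem par_add {r : ℕ} {s t : k} (hs : s ∈ par C H r) (ht : t ∈ par C H r) : s + t ∈ par C H r := by
  show (chevRel C k).xe r (s + t) ∈ H
  rw [← (chevRel C k).xe_add']; exact mul_mem hs ht

theorem par_neg {r : ℕ} {t : k} (ht : t ∈ par C H r) : -t ∈ par C H r := by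
  show (chevRel C k).xe r (-t) ∈ H
  rw [(chevRel C k).xe_neg]; exact inv_mem ht

theorem par_zsmul {r : ℕ} {t : k} (ht : t ∈ par C H r) (d : ℤ) : (d : k) * t ∈ par C H r := by
  induction d using Int.induction_on with
  | zero => rw [Int.cast_zero, zero_mul]; exact par_zero C r
  | succ n ih => rw [Int.cast_add, Int.cast_one, add_mul, one_mul]; exact par_add C ih ht
  | pred n ih =>
    rw [Int.cast_sub, Int.cast_one, sub_mul, one_mul, sub_eq_add_neg]; exact par_add C ih (par_neg C ht)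

/-- unit integer factors can be dropped -/
theorem par_of_unit (p : ℕ) [Fact p.Prime] [CharP k p] {r : ℕ} {c : ℤ} (hc : (c : k) ≠ 0) {t : k}
    (ht : (c : k) * t ∈ par C H r) : t ∈ par C H r := by
  have hz : (c : ZMod p) ≠ 0 := fun e => hc (by
    rw [← map_intCast (ZMod.castHom dvd_rfl k), e, map_zero])
  have h2 : (((c : ZMod p)⁻¹.val : ℤ) : k) * (c : k) = 1 := by
    have e : ((((c : ZMod p)⁻¹.val : ℤ)) : ZMod p) * (c : ZMod p) = 1 := by
      rw [Int.cast_natCast, ZMod.natCast_zmod_val, inv_mul_cancel₀ hz]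
    have := congrArg (ZMod.castHom (dvd_refl p) k) e
    rwa [map_mul, map_one, map_intCast, map_intCast] at this
  have := par_zsmul C ht ((c : ZMod p)⁻¹.val : ℤ)
  rwa [← mul_assoc, h2, one_mul] at this

theorem par_finite [Finite H] {r : ℕ} (hr : r < D.nroots) : (par C H r).Finite := by
  refine Set.finite_coe_iff.1 (Finite.of_injective (fun t : par C H r => (⟨_, t.2⟩ : H)) fun a b h => ?_)
  exact Subtype.ext ((chevRel C k).xe_inj_param (r := ⟨r, hr⟩) (congrArg Subtype.val h))

theorem wordProd_mem {r s : ℕ} (hr : r < D.nroots) (hs : s < D.nroots) (hne : s ≠ r) (hneg : s ≠ D.neg r)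
    {t u : k} (ht : t ∈ par C H r) (hu : u ∈ par C H s) :
    ((D.commWord k r s t u).map fun q => (chevRel C k).xe q.1 q.2).prod ∈ H := by
  have hW := (chevRel C k).xe_comm r s t u hr hs hne hneg
  have e : ((D.commWord k r s t u).map fun q => (chevRel C k).xe q.1 q.2).prod =
      ((chevRel C k).xe s u)⁻¹ * ((chevRel C k).xe r t)⁻¹ * (chevRel C k).xe s u * (chevRel C k).xe r t := by
    rw [mul_assoc _ ((chevRel C k).xe s u), hW]; group
  rw [e]
  exact mul_mem (mul_mem (mul_mem (inv_mem hu) (inv_mem ht)) hu) ht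

/-- a single commutator term -/
theorem par_of_single {r s u : ℕ} {c : ℤ} (hr : r < D.nroots) (hs : s < D.nroots) (hne : s ≠ r)
    (hneg : s ≠ D.neg r) (hterms : D.commTerms r s = [(u, c, 1, 1)]) (p : ℕ) [Fact p.Prime] [CharP k p]
    (hc : (c : k) ≠ 0) {t t' : k} (ht : t ∈ par C H r) (ht' : t' ∈ par C H s) : t * t' ∈ par C H u := by
  have h := wordProd_mem C hr hs hne hneg (par_neg C ht) ht'
  simp only [ChevalleyDatum.commWord, hterms, List.map_cons, List.map_nil, List.prod_cons, List.prod_nil, mul_one,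
    pow_one, neg_neg] at h
  refine par_of_unit C p hc ?_
  rw [← mul_assoc]
  exact h

include h1

theorem one_mem_par {r : ℕ} (hr : r < D.nroots) : (1 : k) ∈ par C H r := h1 r hr

theorem ne_mem (i : Fin D.rank) : (chevRel C k).ne (D.simple i) 1 ∈ H := by
  have hn := C.neg_lt (C.simple_lt i.2)
  refine mul_mem (mul_mem (h1 _ (C.simple_lt i.2)) ?_) (h1 _ (C.simple_lt i.2))
  show (-(1 : k)⁻¹) ∈ par C H (D.neg (D.simple i))
  rw [inv_one]
  exact par_neg C (h1 _ hn)

theorem conj_ne_xe (i : Fin D.rank) (r : ℕ) (hr : r < D.nroots) (t : k) :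
    (chevRel C k).ne (D.simple i) 1 * (chevRel C k).xe r t * ((chevRel C k).ne (D.simple i) 1)⁻¹ =
      (chevRel C k).xe (X.w i r) ((X.eta i r : k) * t) := by
  have := (chevRel C k).nconj i r 1 t i.2 hr one_ne_zero
  rw [one_zpow, mul_one] at this
  rw [mul_inv_eq_iff_eq_mul]
  exact this

theorem par_w_le {i r : ℕ} (hi : i < D.rank) (hr : r < D.nroots) : par C H r ⊆ par C H (X.w i r) := by
  intro t ht
  have h := mul_mem (mul_mem (ne_mem C h1 ⟨i, hi⟩) ht) (inv_mem (ne_mem C h1 ⟨i, hi⟩))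
  rw [conj_ne_xe C h1 ⟨i, hi⟩ r hr t] at h
  have h' : (X.eta i r : k) * t ∈ par C H (X.w i r) := h
  have := par_zsmul C h' (X.eta i r)
  rwa [← mul_assoc, X.eta_sq_cast, one_mul] at this

theorem par_w {i r : ℕ} (hi : i < D.rank) (hr : r < D.nroots) : par C H (X.w i r) = par C H r :=
  Set.Subset.antisymm (fun t ht => by
    have := par_w_le C h1 hi (C.w_lt hi hr) ht
    rwa [C.w_w hi hr] at this) (par_w_le C h1 hi hr)

theorem orb_spec : ∀ (L : List (ℕ × ℕ)) (M : ℕ) (rep : ℕ), chkOrbGo D X L M = true →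
    (∀ r, M.testBit r = true → par C H r = par C H rep) →
    ∀ r, (orbMask X L M).testBit r = true → par C H r = par C H rep
  | [], _, _, _, hM => hM
  | (a, i) :: L, M, rep, h, hM => by
    simp only [chkOrbGo, Bool.and_eq_true, nat_blt_iff] at h
    obtain ⟨⟨⟨ha, hi⟩, hMa⟩, hrest⟩ := h
    refine orb_spec L _ rep hrest fun r hr => ?_
    rw [Nat.testBit_or, Bool.or_eq_true, Nat.testBit_two_pow, decide_eq_true_iff] at hr
    rcases hr with h' | rfl
    · exact hM r h'
    · rw [par_w C h1 hi ha, hM a hMa]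

theorem orbit {L : List (ℕ × ℕ)} {rep : ℕ} (h : chkOrbGo D X L (2 ^ rep) = true) {r : ℕ}
    (hr : (orbMask X L (2 ^ rep)).testBit r = true) : par C H r = par C H rep :=
  orb_spec C h1 L _ rep h (fun j hj => by
    rw [Nat.testBit_two_pow, decide_eq_true_iff] at hj; rw [← hj]) r hr

/-- all parameter sets equal and closed under products give a subfield -/
theorem exists_field [Finite H] {rep : ℕ} (hrep : rep < D.nroots) (hall : ∀ r, r < D.nroots → par C H r = par C H rep)
    (hmul : ∀ s ∈ par C H rep, ∀ t ∈ par C H rep, s * t ∈ par C H rep) :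
    ∃ K : Subfield k, Finite K ∧ ∀ r, r < D.nroots → ∀ t, (chevRel C k).xe r t ∈ H ↔ t ∈ K := by
  obtain ⟨K, hK⟩ := exists_subfield (par C H rep) (par_finite C hrep) (h1 rep hrep) (fun _ hx _ hy => par_add C hx hy)
    (fun _ hx => par_neg C hx) hmul
  refine ⟨K, Set.finite_coe_iff.2 (show (K : Set k).Finite from hK ▸ par_finite C hrep), fun r hr t => ?_⟩
  show t ∈ par C H r ↔ t ∈ (K : Set k)
  rw [hK, hall r hr]

omit h1 C in
/-- a subfield whose squares lie in a subset containing `1` and closed under sums is that subset -/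
theorem eq_of_sq (p : ℕ) [Fact p.Prime] [CharP k p] {A B : Set k} (hB : B.Finite) (hAB : A ⊆ B)
    (h1A : (1 : k) ∈ A) (haddB : ∀ x ∈ B, ∀ y ∈ B, x + y ∈ B)
    (hdiv : p ≠ 2 → ∀ x : k, (2 : k) * x ∈ A → x ∈ A) (hsub : ∀ x ∈ A, ∀ y ∈ A, x - y ∈ A)
    (hsq : ∀ s ∈ B, s ^ 2 ∈ A) : A = B := by
  refine Set.Subset.antisymm hAB fun t ht => ?_
  by_cases hp : p = 2
  · subst hp
    have : Finite B := hB
    have hbij : Function.Bijective (fun s : B => (⟨(s : k) ^ 2, hAB (hsq s s.2)⟩ : B)) :=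
      Finite.injective_iff_bijective.1 fun a b h => Subtype.ext (by
        have := congrArg Subtype.val h
        have h0 : ((a : k) - b) ^ 2 = 0 := by
          rw [sub_pow_char, show (a : k) ^ 2 = (b : k) ^ 2 from this, sub_self]
        exact sub_eq_zero.1 (pow_eq_zero_iff two_ne_zero |>.1 h0))
    obtain ⟨s, hs⟩ := hbij.2 ⟨t, ht⟩
    have e : (s : k) ^ 2 = t := congrArg Subtype.val hs
    rw [← e]; exact hsq s s.2
  · refine hdiv hp t ?_
    have := hsub _ (hsub _ (hsq _ (haddB t ht 1 (hAB h1A))) _ (hsq t ht)) _ h1A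
    convert this using 1; ring

end CfsgLib.Known.Overgroup
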