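import Cfsg.Agent.Lib.Known.Overgroup.Descent
import Cfsg.Agent.Lib.Known.Overgroup.Params
import Cfsg.Agent.Lib.Lie.Chev.All

/-!
# Certificates: generated by a search program, checked by kernel reduction
-/

set_option autoImplicit false
set_option maxHeartbeats 1000000

namespace CfsgLib.Known.Overgroup

open Cfsg.Lie
open CfsgLib.Lie.Chev

def orbG2_1 : List (ℕ × ℕ) := [(11, 1), (10, 0), (6, 1), (5, 0), (1, 1)]
theorem chkOrbG2_1 : chkOrbGo chevG2 auxG2 orbG2_1 (2 ^ 11) = true := by decide +kernel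
def orbG2_2 : List (ℕ × ℕ) := [(9, 0), (8, 1), (7, 0), (4, 1), (3, 0)]
theorem chkOrbG2_2 : chkOrbGo chevG2 auxG2 orbG2_2 (2 ^ 9) = true := by decide +kernel
theorem coverG2 : ((List.range chevG2.nroots).all fun r => (orbMask auxG2 orbG2_1 (2 ^ 11)).testBit r || (orbMask auxG2 orbG2_2 (2 ^ 9)).testBit r) = true := by decide +kernel
theorem keyInjG2 : chkKeyInj chevG2 auxG2 = true := by decide +kernel
def descG2_2 : List (ℕ × ℕ × ℕ) := [(6, 7, 8), (7, 6, 8), (8, 9, 11), (9, 7, 10), (10, 6, 11)]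
theorem chkDescG2_2 : chkDesc chevG2 2 [11] descG2_2 = true := by decide +kernel
def descG2_3 : List (ℕ × ℕ × ℕ) := [(6, 7, 8), (7, 6, 8), (8, 7, 9), (10, 6, 11)]
theorem chkDescG2_3 : chkDesc chevG2 3 [9, 11] descG2_3 = true := by decide +kernel
def descG2_5 : List (ℕ × ℕ × ℕ) := [(6, 7, 8), (7, 6, 8), (8, 7, 9), (9, 7, 10), (10, 6, 11)]
theorem chkDescG2_5 : chkDesc chevG2 5 [11] descG2_5 = true := by decide +kernel

def orbB2_1 : List (ℕ × ℕ) := [(7, 0), (4, 1), (3, 0)]
theorem chkOrbB2_1 : chkOrbGo chevB2 auxB2 orbB2_1 (2 ^ 7) = true := by decide +kernel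
def orbB2_2 : List (ℕ × ℕ) := [(6, 1), (5, 0), (2, 1)]
theorem chkOrbB2_2 : chkOrbGo chevB2 auxB2 orbB2_2 (2 ^ 6) = true := by decide +kernel
theorem coverB2 : ((List.range chevB2.nroots).all fun r => (orbMask auxB2 orbB2_1 (2 ^ 7)).testBit r || (orbMask auxB2 orbB2_2 (2 ^ 6)).testBit r) = true := by decide +kernel
theorem keyInjB2 : chkKeyInj chevB2 auxB2 = true := by decide +kernel
def descB2_2 : List (ℕ × ℕ × ℕ) := [(4, 5, 6), (5, 4, 6)]
theorem chkDescB2_2 : chkDesc chevB2 2 [6, 7] descB2_2 = true := by decide +kernel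
def descB2_3 : List (ℕ × ℕ × ℕ) := [(4, 5, 6), (5, 4, 6), (6, 5, 7)]
theorem chkDescB2_3 : chkDesc chevB2 3 [7] descB2_3 = true := by decide +kernel
def descB2_5 : List (ℕ × ℕ × ℕ) := [(4, 5, 6), (5, 4, 6), (6, 5, 7)]
theorem chkDescB2_5 : chkDesc chevB2 5 [7] descB2_5 = true := by decide +kernel

def orbD4_1 : List (ℕ × ℕ) := [(23, 1), (22, 0), (22, 2), (22, 3), (17, 2), (17, 3), (20, 3), (15, 1), (15, 3), (16, 1), (19, 1), (12, 3), (14, 1), (13, 2), (18, 0), (11, 1), (9, 0), (9, 2), (8, 0), (8, 2), (4, 2), (3, 2), (1, 1)]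
theorem chkOrbD4_1 : chkOrbGo chevD4 auxD4 orbD4_1 (2 ^ 23) = true := by decide +kernel
theorem coverD4 : ((List.range chevD4.nroots).all fun r => (orbMask auxD4 orbD4_1 (2 ^ 23)).testBit r) = true := by decide +kernel
theorem keyInjD4 : chkKeyInj chevD4 auxD4 = true := by decide +kernel
def descD4_2 : List (ℕ × ℕ × ℕ) := [(12, 14, 15), (13, 14, 16), (14, 12, 15), (15, 13, 17), (16, 12, 17), (17, 18, 22), (18, 14, 19), (19, 12, 20), (20, 13, 22), (21, 12, 22), (22, 14, 23)]
theorem chkDescD4_2 : chkDesc chevD4 2 [23] descD4_2 = true := by decide +kernel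
def descD4_3 : List (ℕ × ℕ × ℕ) := [(12, 14, 15), (13, 14, 16), (14, 12, 15), (15, 13, 17), (16, 12, 17), (17, 18, 22), (18, 14, 19), (19, 12, 20), (20, 13, 22), (21, 12, 22), (22, 14, 23)]
theorem chkDescD4_3 : chkDesc chevD4 3 [23] descD4_3 = true := by decide +kernel
def descD4_5 : List (ℕ × ℕ × ℕ) := [(12, 14, 15), (13, 14, 16), (14, 12, 15), (15, 13, 17), (16, 12, 17), (17, 18, 22), (18, 14, 19), (19, 12, 20), (20, 13, 22), (21, 12, 22), (22, 14, 23)]
theorem chkDescD4_5 : chkDesc chevD4 5 [23] descD4_5 = true := by decide +kernel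

def orbF4_1 : List (ℕ × ℕ) := [(47, 3), (46, 2), (45, 1), (43, 0), (43, 2), (32, 2), (42, 3), (31, 1), (31, 3), (26, 2), (26, 3), (24, 3), (25, 2), (23, 2), (22, 1), (21, 1), (17, 0), (16, 0), (16, 2), (5, 2), (4, 1), (2, 2), (1, 3)]
theorem chkOrbF4_1 : chkOrbGo chevF4 auxF4 orbF4_1 (2 ^ 47) = true := by decide +kernel
def orbF4_2 : List (ℕ × ℕ) := [(44, 0), (40, 1), (39, 2), (38, 1), (38, 3), (36, 0), (36, 3), (29, 3), (35, 2), (28, 2), (34, 1), (27, 1), (33, 0), (20, 0), (20, 2), (13, 2), (19, 3), (12, 1), (12, 3), (10, 3), (9, 2), (8, 1), (7, 0)]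
theorem chkOrbF4_2 : chkOrbGo chevF4 auxF4 orbF4_2 (2 ^ 44) = true := by decide +kernel
theorem coverF4 : ((List.range chevF4.nroots).all fun r => (orbMask auxF4 orbF4_1 (2 ^ 47)).testBit r || (orbMask auxF4 orbF4_2 (2 ^ 44)).testBit r) = true := by decide +kernel
theorem keyInjF4 : chkKeyInj chevF4 auxF4 = true := by decide +kernel
def descF4_2 : List (ℕ × ℕ × ℕ) := [(24, 25, 26), (25, 24, 26), (26, 27, 29), (27, 25, 28), (28, 24, 29), (29, 33, 36), (30, 24, 31), (31, 25, 32), (32, 33, 39), (33, 27, 34), (34, 25, 35), (35, 24, 36), (36, 27, 38), (37, 24, 38), (38, 25, 39), (39, 27, 40), (40, 33, 44), (41, 24, 42), (42, 25, 43), (43, 27, 44), (45, 25, 46), (46, 24, 47)]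
theorem chkDescF4_2 : chkDesc chevF4 2 [44, 47] descF4_2 = true := by decide +kernel
def descF4_3 : List (ℕ × ℕ × ℕ) := [(24, 25, 26), (25, 24, 26), (26, 27, 29), (27, 25, 28), (28, 24, 29), (29, 27, 31), (30, 24, 31), (31, 25, 32), (32, 33, 39), (33, 27, 34), (34, 25, 35), (35, 24, 36), (36, 27, 38), (37, 24, 38), (38, 25, 39), (39, 27, 40), (40, 33, 44), (41, 24, 42), (42, 25, 43), (43, 27, 44), (44, 27, 45), (45, 25, 46), (46, 24, 47)]
theorem chkDescF4_3 : chkDesc chevF4 3 [47] descF4_3 = true := by decide +kernel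
def descF4_5 : List (ℕ × ℕ × ℕ) := [(24, 25, 26), (25, 24, 26), (26, 27, 29), (27, 25, 28), (28, 24, 29), (29, 27, 31), (30, 24, 31), (31, 25, 32), (32, 33, 39), (33, 27, 34), (34, 25, 35), (35, 24, 36), (36, 27, 38), (37, 24, 38), (38, 25, 39), (39, 27, 40), (40, 33, 44), (41, 24, 42), (42, 25, 43), (43, 27, 44), (44, 27, 45), (45, 25, 46), (46, 24, 47)]
theorem chkDescF4_5 : chkDesc chevF4 5 [47] descF4_5 = true := by decide +kernel

def orbE6_1 : List (ℕ × ℕ) := [(71, 1), (70, 3), (69, 2), (69, 4), (66, 0), (66, 4), (68, 5), (55, 4), (65, 3), (65, 5), (54, 3), (54, 5), (63, 1), (63, 5), (52, 1), (52, 2), (52, 5), (60, 5), (62, 4), (45, 2), (45, 5), (49, 5), (51, 4), (59, 4), (41, 3), (41, 5), (44, 4), (48, 4), (58, 3), (38, 4), (38, 5), (40, 4), (43, 3), (47, 3), (57, 2), (36, 5), (37, 4), (39, 3), (42, 2), (46, 1), (56, 0), (35, 4), (34, 3), (32, 1), (32, 2), (29, 0), (33, 3), (31, 1), (31, 2), (24, 2), (28, 0), (30, 1), (30, 2), (23, 2), (27, 0), (21, 0), (22, 2), (26, 0),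 (20, 0), (20, 3), (19, 0), (19, 3), (9, 3), (8, 3), (17, 4), (7, 2), (6, 2), (6, 4), (3, 4), (2, 3), (1, 1)]
theorem chkOrbE6_1 : chkOrbGo chevE6 auxE6 orbE6_1 (2 ^ 71) = true := by decide +kernel
theorem coverE6 : ((List.range chevE6.nroots).all fun r => (orbMask auxE6 orbE6_1 (2 ^ 71)).testBit r) = true := by decide +kernel
theorem keyInjE6 : chkKeyInj chevE6 auxE6 = true := by decide +kernel
def descE6_2 : List (ℕ × ℕ × ℕ) := [(36, 37, 38), (37, 36, 38), (38, 39, 41), (39, 37, 40), (40, 36, 41), (41, 42, 45), (42, 39, 43), (43, 37, 44), (44, 36, 45), (45, 46, 52), (46, 39, 47), (47, 37, 48), (48, 36, 49), (49, 42, 52), (50, 37, 51), (51, 36, 52), (52, 39, 54), (53, 36, 54), (54, 37, 55), (55, 56, 66), (56, 42, 57), (57, 39, 58), (58, 37, 59), (59, 36, 60), (60, 46, 63), (61, 37, 62), (62, 36, 63), (63, 39, 65), (64, 36, 65), (65, 37, 66), (66, 42, 69), (67, 36, 68), (68, 37, 69), (69, 39, 70), (70, 46, 71)]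
theorem chkDescE6_2 : chkDesc chevE6 2 [71] descE6_2 = true := by decide +kernel
def descE6_3 : List (ℕ × ℕ × ℕ) := [(36, 37, 38), (37, 36, 38), (38, 39, 41), (39, 37, 40), (40, 36, 41), (41, 42, 45), (42, 39, 43), (43, 37, 44), (44, 36, 45), (45, 46, 52), (46, 39, 47), (47, 37, 48), (48, 36, 49), (49, 42, 52), (50, 37, 51), (51, 36, 52), (52, 39, 54), (53, 36, 54), (54, 37, 55), (55, 56, 66), (56, 42, 57), (57, 39, 58), (58, 37, 59), (59, 36, 60), (60, 46, 63), (61, 37, 62), (62, 36, 63), (63, 39, 65), (64, 36, 65), (65, 37, 66), (66, 42, 69), (67, 36, 68), (68, 37, 69), (69, 39, 70), (70, 46, 71)]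
theorem chkDescE6_3 : chkDesc chevE6 3 [71] descE6_3 = true := by decide +kernel
def descE6_5 : List (ℕ × ℕ × ℕ) := [(36, 37, 38), (37, 36, 38), (38, 39, 41), (39, 37, 40), (40, 36, 41), (41, 42, 45), (42, 39, 43), (43, 37, 44), (44, 36, 45), (45, 46, 52), (46, 39, 47), (47, 37, 48), (48, 36, 49), (49, 42, 52), (50, 37, 51), (51, 36, 52), (52, 39, 54), (53, 36, 54), (54, 37, 55), (55, 56, 66), (56, 42, 57), (57, 39, 58), (58, 37, 59), (59, 36, 60), (60, 46, 63), (61, 37, 62), (62, 36, 63), (63, 39, 65), (64, 36, 65), (65, 37, 66), (66, 42, 69), (67, 36, 68), (68, 37, 69), (69, 39, 70), (70, 46, 71)]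
theorem chkDescE6_5 : chkDesc chevE6 5 [71] descE6_5 = true := by decide +kernel

def orbE7_1 : List (ℕ × ℕ) := [(125, 0), (124, 2), (123, 3), (122, 1), (122, 4), (118, 4), (121, 5), (117, 3), (117, 5), (120, 6), (114, 2), (114, 5), (116, 6), (108, 0), (108, 5), (113, 4), (113, 6), (92, 5), (107, 4), (107, 6), (111, 6), (91, 4), (91, 6), (105, 3), (105, 6), (110, 5), (89, 3), (89, 6), (102, 1), (102, 6), (104, 5), (86, 1), (86, 2), (86, 6), (88, 5), (98, 6), (101, 5), (77, 2), (77, 6), (82, 6), (85, 5), (97, 5), (100, 4), (72, 3), (72, 6), (76, 5), (81, 5), (84, 4), (96, 4), (68, 4), (68, 6), (71, 5), (75, 4), (80, 4), (95, 3), (65, 5), (65, 6), (67, 5), (70, 4), (74, 3), (79, 3), (94, 2), (63, 6), (64, 5), (66, 4), (69, 3), (73, 2), (78, 1), (93, 0), (62, 5), (61, 4), (59, 3), (56, 1), (56, 2), (52, 0), (60, 4), (58, 3), (55, 1), (55, 2), (46, 2), (51, 0), (57, 3), (54, 1), (54, 2), (45, 2), (50, 0), (42, 0), (53, 1), (53, 2), (44, 2), (49, 0), (41, 0), (41, 3), (43, 2), (48, 0),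 (40, 0), (40, 3), (25, 3), (39, 0), (39, 3), (24, 3), (37, 4), (22, 2), (23, 3), (36, 4), (21, 2), (21, 4), (20, 2), (20, 4), (34, 5), (15, 4), (14, 4), (18, 5), (13, 3), (12, 3), (12, 5), (10, 1), (9, 1), (9, 5), (5, 5), (8, 4), (4, 4), (3, 3), (2, 2), (1, 0)]
theorem chkOrbE7_1 : chkOrbGo chevE7 auxE7 orbE7_1 (2 ^ 125) = true := by decide +kernel
theorem coverE7 : ((List.range chevE7.nroots).all fun r => (orbMask auxE7 orbE7_1 (2 ^ 125)).testBit r) = true := by decide +kernel
theorem keyInjE7 : chkKeyInj chevE7 auxE7 = true := by decide +kernel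
def descE7_2 : List (ℕ × ℕ × ℕ) := [(63, 64, 65), (64, 63, 65), (65, 66, 68), (66, 64, 67), (67, 63, 68), (68, 69, 72), (69, 66, 70), (70, 64, 71), (71, 63, 72), (72, 73, 77), (73, 69, 74), (74, 66, 75), (75, 64, 76), (76, 63, 77), (77, 78, 86), (78, 69, 79), (79, 66, 80), (80, 64, 81), (81, 63, 82), (82, 73, 86), (83, 66, 84), (84, 64, 85), (85, 63, 86), (86, 69, 89), (87, 64, 88), (88, 63, 89), (89, 66, 91), (90, 63, 91), (91, 64, 92), (92, 93, 108), (93, 73, 94), (94, 69, 95), (95, 66, 96), (96, 64, 97), (97, 63, 98), (98, 78, 102), (99, 66, 100), (100, 64, 101), (101, 63, 102), (102, 69, 105), (103, 64, 104), (104, 63, 105), (105, 66, 107), (106, 63, 107), (107, 64, 108), (108, 73, 114), (109, 64, 110), (110, 63, 111), (111, 66, 113), (112, 63, 113), (113, 64, 114), (114, 69, 117), (115, 63, 116), (116, 64, 117), (117, 66, 118), (118, 78, 122), (119, 63, 120), (120, 64, 121), (121, 66, 122), (122, 69, 123), (123, 73, 124), (124, 93, 125)]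
theorem chkDescE7_2 : chkDesc chevE7 2 [125] descE7_2 = true := by decide +kernel
def descE7_3 : List (ℕ × ℕ × ℕ) := [(63, 64, 65), (64, 63, 65), (65, 66, 68), (66, 64, 67), (67, 63, 68), (68, 69, 72), (69, 66, 70), (70, 64, 71), (71, 63, 72), (72, 73, 77), (73, 69, 74), (74, 66, 75), (75, 64, 76), (76, 63, 77), (77, 78, 86), (78, 69, 79), (79, 66, 80), (80, 64, 81), (81, 63, 82), (82, 73, 86), (83, 66, 84), (84, 64, 85), (85, 63, 86), (86, 69, 89), (87, 64, 88), (88, 63, 89), (89, 66, 91), (90, 63, 91), (91, 64, 92), (92, 93, 108), (93, 73, 94), (94, 69, 95), (95, 66, 96), (96, 64, 97), (97, 63, 98), (98, 78, 102), (99, 66, 100), (100, 64, 101), (101, 63, 102), (102, 69, 105), (103, 64, 104), (104, 63, 105), (105, 66, 107), (106, 63, 107), (107, 64, 108), (108, 73, 114), (109, 64, 110), (110, 63, 111), (111, 66, 113), (112, 63, 113), (113, 64, 114), (114, 69, 117), (115, 63, 116), (116, 64, 117), (117, 66, 118), (118, 78, 122), (119, 63, 120), (120, 64, 121), (121, 66, 122), (122,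 69, 123), (123, 73, 124), (124, 93, 125)]
theorem chkDescE7_3 : chkDesc chevE7 3 [125] descE7_3 = true := by decide +kernel
def descE7_5 : List (ℕ × ℕ × ℕ) := [(63, 64, 65), (64, 63, 65), (65, 66, 68), (66, 64, 67), (67, 63, 68), (68, 69, 72), (69, 66, 70), (70, 64, 71), (71, 63, 72), (72, 73, 77), (73, 69, 74), (74, 66, 75), (75, 64, 76), (76, 63, 77), (77, 78, 86), (78, 69, 79), (79, 66, 80), (80, 64, 81), (81, 63, 82), (82, 73, 86), (83, 66, 84), (84, 64, 85), (85, 63, 86), (86, 69, 89), (87, 64, 88), (88, 63, 89), (89, 66, 91), (90, 63, 91), (91, 64, 92), (92, 93, 108), (93, 73, 94), (94, 69, 95), (95, 66, 96), (96, 64, 97), (97, 63, 98), (98, 78, 102), (99, 66, 100), (100, 64, 101), (101, 63, 102), (102, 69, 105), (103, 64, 104), (104, 63, 105), (105, 66, 107), (106, 63, 107), (107, 64, 108), (108, 73, 114), (109, 64, 110), (110, 63, 111), (111, 66, 113), (112, 63, 113), (113, 64, 114), (114, 69, 117), (115, 63, 116), (116, 64, 117), (117, 66, 118), (118, 78, 122), (119, 63,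 120), (120, 64, 121), (121, 66, 122), (122, 69, 123), (123, 73, 124), (124, 93, 125)]
theorem chkDescE7_5 : chkDesc chevE7 5 [125] descE7_5 = true := by decide +kernel

def orbE8_1 : List (ℕ × ℕ) := [(239, 7), (238, 6), (237, 5), (236, 4), (235, 3), (234, 1), (234, 2), (232, 2), (233, 0), (231, 0), (231, 3), (224, 3), (230, 4), (223, 2), (223, 4), (229, 5), (218, 4), (222, 5), (228, 6), (217, 3), (217, 5), (221, 6), (227, 7), (213, 1), (213, 5), (216, 6), (220, 7), (203, 5), (212, 4), (212, 6), (215, 7), (202, 4), (202, 6), (209, 6), (211, 7), (199, 3), (199, 6), (201, 7), (208, 5), (208, 7), (193, 2), (193, 6), (198, 5), (198, 7), (206, 7), (183, 0), (183, 6), (192, 5), (192, 7), (196, 7), (205, 6), (161, 6), (182, 5), (182, 7), (190, 4), (190, 7), (195, 6), (160, 5), (160, 7), (180, 4), (180, 7), (187, 7), (189, 6), (158, 4), (158, 7), (177, 3), (177, 7), (179, 6), (186, 6), (155, 3), (155, 7), (157, 6), (173, 1), (173, 7), (176, 6), (185, 5), (151, 1), (151, 2), (151, 7), (154,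 6), (168, 7), (172, 6), (175, 5), (140, 2), (140, 7), (146, 7), (150, 6), (153, 5), (167, 6), (171, 5), (134, 3), (134, 7), (139, 6), (145, 6), (149, 5), (166, 5), (170, 4), (129, 4), (129, 7), (133, 6), (138, 5), (144, 5), (148, 4), (165, 4), (125, 5), (125, 7), (128, 6), (132, 5), (137, 4), (143, 4), (164, 3), (122, 6), (122, 7), (124, 6), (127, 5), (131, 4), (136, 3), (142, 3), (163, 2), (120, 7), (121, 6), (123, 5), (126, 4), (130, 3), (135, 2), (141, 1), (162, 0), (119, 6), (118, 5), (116, 4), (113, 3), (109, 1), (109, 2), (104, 0), (117, 5), (115, 4), (112, 3), (108, 1), (108, 2), (97, 2), (103, 0), (114, 4), (111, 3), (107, 1), (107, 2), (96, 2), (102, 0), (92, 0), (110, 3), (106, 1), (106, 2), (95, 2), (101, 0), (91, 0), (91, 3), (105, 1), (105, 2), (94, 2), (100, 0), (90, 0), (90, 3), (69, 3), (93, 2), (99, 0), (89, 0), (89, 3), (68, 3), (86, 4), (65, 2), (88, 0), (88, 3), (67, 3), (85, 4), (64, 2), (64, 4), (66, 3), (84, 4), (63, 2), (63, 4), (82, 5), (54, 4), (62, 2),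 (62, 4), (81, 5), (53, 4), (60, 5), (51, 3), (52, 4), (59, 5), (79, 6), (50, 3), (50, 5), (45, 1), (49, 3), (49, 5), (57, 6), (44, 1), (44, 5), (43, 1), (43, 5), (47, 6), (34, 5), (42, 4), (33, 5), (41, 4), (41, 6), (32, 4), (31, 4), (31, 6), (38, 6), (29, 3), (28, 3), (28, 6), (37, 5), (25, 2), (24, 2), (24, 6), (27, 5), (20, 0), (19, 0), (19, 6), (23, 5), (12, 6), (18, 5), (22, 4), (11, 5), (17, 4), (10, 4), (16, 3), (9, 3), (15, 1), (8, 1), (8, 2), (6, 2), (5, 3), (4, 4), (3, 5), (2, 6), (1, 7)]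
theorem chkOrbE8_1 : chkOrbGo chevE8 auxE8 orbE8_1 (2 ^ 239) = true := by decide +kernel
theorem coverE8 : ((List.range chevE8.nroots).all fun r => (orbMask auxE8 orbE8_1 (2 ^ 239)).testBit r) = true := by decide +kernel
theorem keyInjE8 : chkKeyInj chevE8 auxE8 = true := by decide +kernel
def descE8_2 : List (ℕ × ℕ × ℕ) := [(120, 121, 122), (121, 120, 122), (122, 123, 125), (123, 121, 124), (124, 120, 125), (125, 126, 129), (126, 123, 127), (127, 121, 128), (128, 120, 129), (129, 130, 134), (130, 126, 131), (131, 123, 132), (132, 121, 133), (133, 120, 134), (134, 135, 140), (135, 130, 136), (136, 126, 137), (137, 123, 138), (138, 121, 139), (139, 120, 140), (140, 141, 151), (141, 130, 142), (142, 126, 143), (143, 123, 144), (144, 121, 145), (145, 120, 146), (146, 135, 151), (147, 126, 148), (148, 123, 149), (149, 121, 150), (150, 120, 151), (151, 130, 155), (152, 123, 153), (153, 121, 154), (154, 120, 155), (155, 126, 158), (156, 121, 157), (157, 120, 158), (158, 123, 160), (159,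 120, 160), (160, 121, 161), (161, 162, 183), (162, 135, 163), (163, 130, 164), (164, 126, 165), (165, 123, 166), (166, 121, 167), (167, 120, 168), (168, 141, 173), (169, 126, 170), (170, 123, 171), (171, 121, 172), (172, 120, 173), (173, 130, 177), (174, 123, 175), (175, 121, 176), (176, 120, 177), (177, 126, 180), (178, 121, 179), (179, 120, 180), (180, 123, 182), (181, 120, 182), (182, 121, 183), (183, 135, 193), (184, 123, 185), (185, 121, 186), (186, 120, 187), (187, 126, 190), (188, 121, 189), (189, 120, 190), (190, 123, 192), (191, 120, 192), (192, 121, 193), (193, 130, 199), (194, 121, 195), (195, 120, 196), (196, 123, 198), (197, 120, 198), (198, 121, 199), (199, 126, 202), (200, 120, 201), (201, 121, 202), (202, 123, 203), (203, 141, 213), (204, 121, 205), (205, 120, 206), (206, 123, 208), (207, 120, 208), (208, 121, 209), (209, 126, 212), (210, 120, 211), (211, 121, 212), (212, 123, 213), (213, 130, 217), (214, 120, 215), (215, 121, 216), (216, 123, 217), (217, 126, 218),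 (218, 135, 223), (219, 120, 220), (220, 121, 221), (221, 123, 222), (222, 126, 223), (223, 130, 224), (224, 141, 225), (225, 162, 233), (226, 120, 227), (227, 121, 228), (228, 123, 229), (229, 126, 230), (230, 130, 231), (231, 135, 232), (232, 141, 234), (233, 135, 234), (234, 130, 235), (235, 126, 236), (236, 123, 237), (237, 121, 238), (238, 120, 239)]
theorem chkDescE8_2 : chkDesc chevE8 2 [239] descE8_2 = true := by decide +kernel
def descE8_3 : List (ℕ × ℕ × ℕ) := [(120, 121, 122), (121, 120, 122), (122, 123, 125), (123, 121, 124), (124, 120, 125), (125, 126, 129), (126, 123, 127), (127, 121, 128), (128, 120, 129), (129, 130, 134), (130, 126, 131), (131, 123, 132), (132, 121, 133), (133, 120, 134), (134, 135, 140), (135, 130, 136), (136, 126, 137), (137, 123, 138), (138, 121, 139), (139, 120, 140), (140, 141, 151), (141, 130, 142), (142, 126, 143), (143, 123, 144), (144, 121, 145), (145, 120, 146), (146, 135, 151), (147, 126, 148), (148, 123, 149), (149, 121, 150), (150, 120,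 151), (151, 130, 155), (152, 123, 153), (153, 121, 154), (154, 120, 155), (155, 126, 158), (156, 121, 157), (157, 120, 158), (158, 123, 160), (159, 120, 160), (160, 121, 161), (161, 162, 183), (162, 135, 163), (163, 130, 164), (164, 126, 165), (165, 123, 166), (166, 121, 167), (167, 120, 168), (168, 141, 173), (169, 126, 170), (170, 123, 171), (171, 121, 172), (172, 120, 173), (173, 130, 177), (174, 123, 175), (175, 121, 176), (176, 120, 177), (177, 126, 180), (178, 121, 179), (179, 120, 180), (180, 123, 182), (181, 120, 182), (182, 121, 183), (183, 135, 193), (184, 123, 185), (185, 121, 186), (186, 120, 187), (187, 126, 190), (188, 121, 189), (189, 120, 190), (190, 123, 192), (191, 120, 192), (192, 121, 193), (193, 130, 199), (194, 121, 195), (195, 120, 196), (196, 123, 198), (197, 120, 198), (198, 121, 199), (199, 126, 202), (200, 120, 201), (201, 121, 202), (202, 123, 203), (203, 141, 213), (204, 121, 205), (205, 120, 206), (206, 123, 208), (207, 120, 208), (208, 121, 209), (209,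 126, 212), (210, 120, 211), (211, 121, 212), (212, 123, 213), (213, 130, 217), (214, 120, 215), (215, 121, 216), (216, 123, 217), (217, 126, 218), (218, 135, 223), (219, 120, 220), (220, 121, 221), (221, 123, 222), (222, 126, 223), (223, 130, 224), (224, 141, 225), (225, 162, 233), (226, 120, 227), (227, 121, 228), (228, 123, 229), (229, 126, 230), (230, 130, 231), (231, 135, 232), (232, 141, 234), (233, 135, 234), (234, 130, 235), (235, 126, 236), (236, 123, 237), (237, 121, 238), (238, 120, 239)]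
theorem chkDescE8_3 : chkDesc chevE8 3 [239] descE8_3 = true := by decide +kernel
def descE8_5 : List (ℕ × ℕ × ℕ) := [(120, 121, 122), (121, 120, 122), (122, 123, 125), (123, 121, 124), (124, 120, 125), (125, 126, 129), (126, 123, 127), (127, 121, 128), (128, 120, 129), (129, 130, 134), (130, 126, 131), (131, 123, 132), (132, 121, 133), (133, 120, 134), (134, 135, 140), (135, 130, 136), (136, 126, 137), (137, 123, 138), (138, 121, 139), (139, 120, 140), (140, 141, 151), (141, 130, 142), (142, 126, 143), (143, 123, 144), (144, 121, 145), (145, 120, 146), (146, 135, 151), (147, 126, 148), (148, 123, 149), (149, 121, 150), (150, 120, 151), (151, 130, 155), (152, 123, 153), (153, 121, 154), (154, 120, 155), (155, 126, 158), (156, 121, 157), (157, 120, 158), (158, 123, 160), (159, 120, 160), (160, 121, 161), (161, 162, 183), (162, 135, 163), (163, 130, 164), (164, 126, 165), (165, 123, 166), (166, 121, 167), (167, 120, 168), (168, 141, 173), (169, 126, 170), (170, 123, 171), (171, 121,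 172), (172, 120, 173), (173, 130, 177), (174, 123, 175), (175, 121, 176), (176, 120, 177), (177, 126, 180), (178, 121, 179), (179, 120, 180), (180, 123, 182), (181, 120, 182), (182, 121, 183), (183, 135, 193), (184, 123, 185), (185, 121, 186), (186, 120, 187), (187, 126, 190), (188, 121, 189), (189, 120, 190), (190, 123, 192), (191, 120, 192), (192, 121, 193), (193, 130, 199), (194, 121, 195), (195, 120, 196), (196, 123, 198), (197, 120, 198), (198, 121, 199), (199, 126, 202), (200, 120, 201), (201, 121, 202), (202, 123, 203), (203, 141, 213), (204, 121, 205), (205, 120, 206), (206, 123, 208), (207, 120, 208), (208, 121, 209), (209, 126, 212), (210, 120, 211), (211, 121, 212), (212, 123, 213), (213, 130, 217), (214, 120, 215), (215, 121, 216), (216, 123, 217), (217, 126, 218), (218, 135, 223), (219, 120, 220), (220, 121, 221), (221, 123, 222), (222, 126, 223), (223, 130, 224), (224, 141, 225), (225, 162, 233), (226, 120, 227), (227, 121, 228), (228, 123, 229), (229, 126, 230), (230,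 130, 231), (231, 135, 232), (232, 141, 234), (233, 135, 234), (234, 130, 235), (235, 126, 236), (236, 123, 237), (237, 121, 238), (238, 120, 239)]
theorem chkDescE8_5 : chkDesc chevE8 5 [239] descE8_5 = true := by decide +kernel

end CfsgLib.Known.Overgroup
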