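import Cfsg.Agent.Lib.Known.Overgroup.Scalar
import Cfsg.Agent.Lib.Lie.Chev.All

/-!
# Certificates: generated by a search program, checked by kernel reduction
-/

set_option autoImplicit false
set_option maxHeartbeats 1000000

namespace CfsgLib.Known.Overgroup

open Cfsg.Lie

def fixG2_2 : List (ℕ × ℕ × ℕ) := [(4, 0, 9), (4, 5, 7), (4, 11, 12), (6, 8, 0), (6, 3, 2), (6, 6, 5), (7, 0, 6), (7, 4, 3), (7, 10, 8), (8, 10, 1), (8, 8, 4), (8, 13, 11), (9, 13, 10)]
def spanG2_2 : List (List ℕ × ℕ × ℕ) := [([1], 13, 8), ([5], 13, 12), ([0], 8, 3), ([0], 12, 7), ([1], 7, 2), ([5], 8, 1), ([7], 1, 9), ([8], 1, 10), ([8], 7, 11), ([9], 2, 5), ([9], 3, 6), ([10], 3, 0), ([0], 10, 4)]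
def topG2_2 : List (List ℕ × ℕ) := [([6], 12)]
theorem scalarG2_2 : chkScalar chevG2 2 fixG2_2 spanG2_2 topG2_2 = true := by decide +kernel

def fixG2_3 : List (ℕ × ℕ × ℕ) := [(4, 0, 9), (4, 5, 7), (4, 11, 12), (6, 8, 1), (6, 3, 2), (6, 6, 5), (7, 0, 6), (7, 4, 3), (7, 10, 8), (8, 10, 0), (8, 6, 4), (4, 10, 11), (7, 11, 10)]
def spanG2_3 : List (List ℕ × ℕ × ℕ) := [([1], 13, 8), ([5], 13, 12), ([0], 8, 3), ([0], 12, 7), ([1], 7, 2), ([5], 8, 1), ([7], 1, 9), ([8], 1, 10), ([8], 7, 11), ([9], 2, 5), ([9], 3, 6), ([10], 3, 0), ([0], 10, 4)]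
def topG2_3 : List (List ℕ × ℕ) := [([6], 12)]
theorem scalarG2_3 : chkScalar chevG2 3 fixG2_3 spanG2_3 topG2_3 = true := by decide +kernel

def fixG2_5 : List (ℕ × ℕ × ℕ) := [(4, 0, 9), (4, 5, 7), (4, 11, 12), (6, 3, 2), (6, 6, 5), (7, 0, 6), (7, 4, 3), (7, 10, 8), (8, 6, 4), (8, 13, 11), (9, 11, 0), (9, 13, 10), (10, 12, 1)]
def spanG2_5 : List (List ℕ × ℕ × ℕ) := [([1], 13, 8), ([5], 13, 12), ([0], 8, 3), ([0], 12, 7), ([1], 7, 2), ([5], 8, 1), ([7], 1, 9), ([8], 1, 10), ([8], 7, 11), ([9], 2, 5), ([9], 3, 6), ([10], 3, 0), ([0], 10, 4)]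
def topG2_5 : List (List ℕ × ℕ) := [([6], 12)]
theorem scalarG2_5 : chkScalar chevG2 5 fixG2_5 spanG2_5 topG2_5 = true := by decide +kernel

def fixB2_2 : List (ℕ × ℕ × ℕ) := [(3, 1, 6), (3, 3, 4), (3, 7, 8), (4, 1, 5), (4, 4, 3), (4, 8, 7), (5, 7, 1), (5, 3, 2)]
def spanB2_2 : List (List ℕ × ℕ × ℕ) := [([0, 1], 9, 3), ([4], 3, 4), ([7], 3, 7), ([1], 9, 5), ([2], 5, 2), ([2], 7, 0), ([0], 9, 1), ([4], 5, 6), ([2], 9, 8)]
def topB2_2 : List (List ℕ × ℕ) := [([5], 1), ([6], 5)]
theorem scalarB2_2 : chkScalar chevB2 2 fixB2_2 spanB2_2 topB2_2 = true := by decide +kernel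

def fixB2_3 : List (ℕ × ℕ × ℕ) := [(3, 1, 6), (3, 3, 4), (3, 7, 8), (4, 1, 5), (4, 4, 3), (4, 8, 7), (5, 3, 2), (6, 8, 1), (7, 9, 0)]
def spanB2_3 : List (List ℕ × ℕ × ℕ) := [([0, 0], 9, 2), ([0, 1], 9, 3), ([4], 3, 4), ([5], 2, 5), ([1], 9, 7), ([2], 7, 0), ([0], 9, 1), ([4], 0, 6), ([2], 9, 8)]
def topB2_3 : List (List ℕ × ℕ) := [([5], 8)]
theorem scalarB2_3 : chkScalar chevB2 3 fixB2_3 spanB2_3 topB2_3 = true := by decide +kernel

def fixB2_5 : List (ℕ × ℕ × ℕ) := [(3, 1, 6), (3, 3, 4), (3, 7, 8), (4, 1, 5), (4, 4, 3), (4, 8, 7), (5, 3, 2), (6, 8, 1), (7, 9, 0)]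
def spanB2_5 : List (List ℕ × ℕ × ℕ) := [([0, 0], 9, 2), ([0, 1], 9, 3), ([4], 3, 4), ([5], 2, 5), ([1], 9, 7), ([2], 7, 0), ([0], 9, 1), ([4], 0, 6), ([2], 9, 8)]
def topB2_5 : List (List ℕ × ℕ) := [([5], 8)]
theorem scalarB2_5 : chkScalar chevB2 5 fixB2_5 spanB2_5 topB2_5 = true := by decide +kernel

def fixD4_2 : List (ℕ × ℕ × ℕ) := [(5, 0, 22), (5, 5, 10), (5, 6, 11), (5, 7, 12), (5, 8, 13), (5, 18, 23), (5, 19, 24), (5, 20, 25), (5, 21, 26), (10, 2, 17), (10, 5, 7), (10, 6, 8), (10, 18, 20), (10, 19, 21), (11, 3, 16), (11, 5, 6), (11, 18, 19), (12, 3, 15), (12, 6, 5), (12, 19, 18), (13, 2, 14), (14, 5, 4), (18, 0, 9), (23, 27, 1)]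
def spanD4_2 : List (List ℕ × ℕ × ℕ) := [([1], 27, 18), ([2], 27, 19), ([3], 19, 9), ([3], 27, 20), ([4], 27, 21), ([6], 9, 5), ([6], 19, 14), ([6], 20, 15), ([6], 27, 23), ([7], 9, 6), ([7], 15, 10), ([7], 21, 16), ([7], 27, 24), ([8], 6, 4), ([8], 9, 7), ([8], 16, 13), ([8], 21, 17), ([8], 24, 22), ([8], 27, 25), ([9], 18, 1), ([9], 9, 8), ([9], 14, 11), ([9], 15, 12), ([9], 27, 26), ([10], 17, 2), ([11], 16, 3), ([18], 9, 0)]
def topD4_2 : List (List ℕ × ℕ) := [([14], 26)]
theorem scalarD4_2 : chkScalar chevD4 2 fixD4_2 spanD4_2 topD4_2 = true := by decide +kernel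

def fixD4_3 : List (ℕ × ℕ × ℕ) := [(5, 0, 22), (5, 5, 10), (5, 6, 11), (5, 7, 12), (5, 8, 13), (5, 18, 23), (5, 19, 24), (5, 20, 25), (5, 21, 26), (10, 2, 17), (10, 5, 7), (10, 6, 8), (10, 18, 20), (10, 19, 21), (11, 3, 16), (11, 5, 6), (11, 18, 19), (12, 3, 15), (12, 6, 5), (12, 19, 18), (13, 2, 14), (14, 5, 4), (18, 0, 9), (23, 27, 1), (5, 9, 0), (10, 14, 2), (11, 15, 3)]
def spanD4_3 : List (List ℕ × ℕ × ℕ) := [([1], 27, 18), ([2], 27, 19), ([3], 19, 9), ([3], 27, 20), ([4], 27, 21), ([6], 9, 5), ([6], 19, 14), ([6], 20, 15), ([6], 27, 23), ([7], 9, 6), ([7], 15, 10), ([7], 21, 16), ([7], 27, 24), ([8], 6, 4), ([8], 9, 7), ([8], 16, 13), ([8], 21, 17), ([8], 24, 22), ([8], 27, 25), ([9], 18, 1), ([9], 9, 8), ([9], 14, 11), ([9], 15, 12), ([9], 27, 26), ([10], 17, 2), ([11], 16, 3), ([18], 9, 0)]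
def topD4_3 : List (List ℕ × ℕ) := [([14], 26)]
theorem scalarD4_3 : chkScalar chevD4 3 fixD4_3 spanD4_3 topD4_3 = true := by decide +kernel

def fixD4_5 : List (ℕ × ℕ × ℕ) := [(5, 0, 22), (5, 5, 10), (5, 6, 11), (5, 7, 12), (5, 8, 13), (5, 18, 23), (5, 19, 24), (5, 20, 25), (5, 21, 26), (10, 2, 17), (10, 5, 7), (10, 6, 8), (10, 18, 20), (10, 19, 21), (11, 3, 16), (11, 5, 6), (11, 18, 19), (12, 3, 15), (12, 6, 5), (12, 19, 18), (13, 2, 14), (14, 5, 4), (18, 0, 9), (23, 27, 1), (5, 9, 0), (10, 14, 2), (11, 15, 3)]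
def spanD4_5 : List (List ℕ × ℕ × ℕ) := [([1], 27, 18), ([2], 27, 19), ([3], 19, 9), ([3], 27, 20), ([4], 27, 21), ([6], 9, 5), ([6], 19, 14), ([6], 20, 15), ([6], 27, 23), ([7], 9, 6), ([7], 15, 10), ([7], 21, 16), ([7], 27, 24), ([8], 6, 4), ([8], 9, 7), ([8], 16, 13), ([8], 21, 17), ([8], 24, 22), ([8], 27, 25), ([9], 18, 1), ([9], 9, 8), ([9], 14, 11), ([9], 15, 12), ([9], 27, 26), ([10], 17, 2), ([11], 16, 3), ([18], 9, 0)]
def topD4_5 : List (List ℕ × ℕ) := [([14], 26)]
theorem scalarD4_5 : chkScalar chevD4 5 fixD4_5 spanD4_5 topD4_5 = true := by decide +kernel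

def fixF4_2 : List (ℕ × ℕ × ℕ) := [(6, 0, 45), (6, 5, 19), (6, 6, 20), (6, 7, 22), (6, 8, 25), (6, 9, 27), (6, 14, 37), (6, 16, 38), (6, 17, 39), (6, 18, 41), (6, 28, 46), (6, 30, 47), (6, 33, 48), (6, 35, 49), (6, 36, 50), (10, 7, 15), (10, 16, 31), (10, 17, 32), (10, 18, 34), (10, 33, 44), (12, 7, 13), (12, 14, 24), (12, 17, 29), (12, 33, 43), (13, 7, 12), (13, 14, 23), (13, 16, 26), (13, 33, 42), (14, 18, 1), (14, 7, 11), (14, 14, 21), (14, 33, 40), (17, 21, 3), (17, 5, 8), (17, 6, 9), (17, 14, 18), (17, 28, 35), (17, 30, 36), (19, 14, 17), (20, 14, 16), (22, 5, 6), (22, 28, 30), (24, 28, 2), (24, 5, 4), (25, 6, 5), (25, 30, 28), (27, 31, 0), (27, 16, 14), (33, 11, 7), (33, 14, 10), (33, 40, 33)]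
def spanF4_2 : List (List ℕ × ℕ × ℕ) := [([1], 51, 28), ([2], 51, 30), ([4], 30, 10), ([4], 51, 35), ([5], 51, 36), ([15], 10, 5), ([15], 30, 21), ([15], 35, 26), ([15], 51, 46), ([16], 10, 6), ([16], 26, 19), ([16], 36, 29), ([16], 51, 47), ([18], 28, 23), ([19], 29, 24), ([19], 36, 33), ([21], 6, 4), ([21], 10, 8), ([21], 24, 22), ([21], 29, 27), ([21], 33, 31), ([21], 36, 34), ([21], 47, 45), ([21], 51, 49), ([22], 29, 2), ([22], 27, 25), ([23], 28, 3), ([23], 10, 9), ([23], 21, 20), ([23], 33, 32), ([23], 51, 50), ([27], 24, 1), ([27], 6, 7), ([27], 47, 48), ([33], 1, 37), ([33], 7, 11), ([33], 8, 12), ([33], 9, 13), ([33], 10, 14), ([33], 31, 38), ([33], 32, 39), ([33], 33, 40), ([33], 34, 41), ([33], 35, 42), ([33], 36, 43), ([34], 9, 15), ([34], 10, 16), ([34], 36, 44), ([35], 16, 0), ([35], 10, 17), ([37], 10, 18)]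
def topF4_2 : List (List ℕ × ℕ) := [([24], 50)]
theorem scalarF4_2 : chkScalar chevF4 2 fixF4_2 spanF4_2 topF4_2 = true := by decide +kernel

def fixF4_3 : List (ℕ × ℕ × ℕ) := [(6, 0, 45), (6, 5, 19), (6, 6, 20), (6, 7, 22), (6, 8, 25), (6, 9, 27), (6, 14, 37), (6, 16, 38), (6, 17, 39), (6, 18, 41), (6, 28, 46), (6, 30, 47), (6, 33, 48), (6, 35, 49), (6, 36, 50), (10, 5, 12), (10, 6, 13), (10, 7, 15), (10, 16, 31), (10, 17, 32), (10, 18, 34), (10, 28, 42), (10, 30, 43), (10, 33, 44), (12, 5, 11), (12, 14, 24), (12, 17, 29), (12, 28, 40), (13, 14, 23), (13, 16, 26), (14, 14, 21), (17, 5, 8), (17, 6, 9), (17, 14, 18), (17, 28, 35), (17, 30, 36), (19, 5, 7), (19, 14, 17), (19, 28, 33), (20, 14, 16), (22, 5, 6), (22, 28, 30), (24, 5, 4), (25, 6, 5), (25, 30, 28), (27, 16, 14), (33, 14, 10), (44, 48, 0), (47, 51, 3), (10, 14, 1), (12, 16, 2)]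
def spanF4_3 : List (List ℕ × ℕ × ℕ) := [([1], 51, 28), ([2], 51, 30), ([4], 30, 10), ([4], 51, 35), ([5], 51, 36), ([15], 10, 5), ([15], 30, 21), ([15], 35, 26), ([15], 51, 46), ([16], 10, 6), ([16], 26, 19), ([16], 36, 29), ([16], 51, 47), ([18], 28, 23), ([19], 29, 24), ([19], 36, 33), ([21], 6, 4), ([21], 10, 8), ([21], 24, 22), ([21], 29, 27), ([21], 33, 31), ([21], 36, 34), ([21], 47, 45), ([21], 51, 49), ([22], 29, 2), ([22], 27, 25), ([23], 28, 3), ([23], 10, 9), ([23], 21, 20), ([23], 33, 32), ([23], 51, 50), ([27], 24, 1), ([27], 6, 7), ([27], 47, 48), ([33], 1, 37), ([33], 7, 11), ([33], 8, 12), ([33], 9, 13), ([33], 10, 14), ([33], 31, 38), ([33], 32, 39), ([33], 33, 40), ([33], 34, 41), ([33], 35, 42), ([33], 36, 43), ([34], 9, 15), ([34], 10, 16), ([34], 36, 44), ([35], 16, 0), ([35], 10, 17), ([37], 10, 18)]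
def topF4_3 : List (List ℕ × ℕ) := [([24], 50)]
theorem scalarF4_3 : chkScalar chevF4 3 fixF4_3 spanF4_3 topF4_3 = true := by decide +kernel

def fixF4_5 : List (ℕ × ℕ × ℕ) := [(6, 0, 45), (6, 5, 19), (6, 6, 20), (6, 7, 22), (6, 8, 25), (6, 9, 27), (6, 14, 37), (6, 16, 38), (6, 17, 39), (6, 18, 41), (6, 28, 46), (6, 30, 47), (6, 33, 48), (6, 35, 49), (6, 36, 50), (10, 5, 12), (10, 6, 13), (10, 7, 15), (10, 16, 31), (10, 17, 32), (10, 18, 34), (10, 28, 42), (10, 30, 43), (10, 33, 44), (12, 5, 11), (12, 14, 24), (12, 17, 29), (12, 28, 40), (13, 14, 23), (13, 16, 26), (14, 14, 21), (17, 5, 8), (17, 6, 9), (17, 14, 18), (17, 28, 35), (17, 30, 36), (19, 5, 7), (19, 14, 17), (19, 28, 33), (20, 14, 16), (22, 5, 6), (22, 28, 30), (24, 5, 4), (25, 6, 5), (25, 30, 28), (27, 16, 14), (33, 14, 10), (44, 48, 0), (47, 51, 3), (10, 14, 1), (12, 16, 2)]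
def spanF4_5 : List (List ℕ × ℕ × ℕ) := [([1], 51, 28), ([2], 51, 30), ([4], 30, 10), ([4], 51, 35), ([5], 51, 36), ([15], 10, 5), ([15], 30, 21), ([15], 35, 26), ([15], 51, 46), ([16], 10, 6), ([16], 26, 19), ([16], 36, 29), ([16], 51, 47), ([18], 28, 23), ([19], 29, 24), ([19], 36, 33), ([21], 6, 4), ([21], 10, 8), ([21], 24, 22), ([21], 29, 27), ([21], 33, 31), ([21], 36, 34), ([21], 47, 45), ([21], 51, 49), ([22], 29, 2), ([22], 27, 25), ([23], 28, 3), ([23], 10, 9), ([23], 21, 20), ([23], 33, 32), ([23], 51, 50), ([27], 24, 1), ([27], 6, 7), ([27], 47, 48), ([33], 1, 37), ([33], 7, 11), ([33], 8, 12), ([33], 9, 13), ([33], 10, 14), ([33], 31, 38), ([33], 32, 39), ([33], 33, 40), ([33], 34, 41), ([33], 35, 42), ([33], 36, 43), ([34], 9, 15), ([34], 10, 16), ([34], 36, 44), ([35], 16, 0), ([35], 10, 17), ([37], 10, 18)]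
def topF4_5 : List (List ℕ × ℕ) := [([24], 50)]
theorem scalarF4_5 : chkScalar chevF4 5 fixF4_5 spanF4_5 topF4_5 = true := by decide +kernel

def fixE6_2 : List (ℕ × ℕ × ℕ) := [(11, 0, 66), (11, 7, 24), (11, 8, 26), (11, 9, 27), (11, 11, 29), (11, 12, 30), (11, 14, 31), (11, 18, 42), (11, 19, 44), (11, 20, 47), (11, 21, 51), (11, 32, 62), (11, 36, 63), (11, 39, 64), (11, 41, 65), (11, 52, 69), (11, 53, 71), (11, 54, 72), (11, 56, 74), (11, 57, 75), (11, 59, 76), (12, 7, 23), (12, 8, 25), (12, 11, 28), (12, 17, 41), (12, 19, 43), (12, 20, 46), (12, 21, 50), (12, 52, 68), (12, 53, 70), (12, 56, 73), (13, 7, 22), (13, 17, 39), (13, 18, 40), (13, 20, 45), (13, 21, 49), (13, 52, 67), (14, 17, 36), (14, 18, 37), (14, 19, 38), (14, 21, 48), (15, 21, 2), (15, 17, 32), (15, 18, 33), (15, 19, 34), (15, 20, 35), (26, 7, 13), (26, 8, 15), (26, 9, 16), (26, 17, 21), (26, 52, 58), (26, 53, 60), (26, 54, 61), (27, 7, 12), (27, 8, 14), (27, 52, 57), (27, 53, 59), (28,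 7, 11), (28, 52, 56), (30, 7, 10), (30, 17, 20), (30, 52, 55), (31, 7, 9), (31, 52, 54), (32, 7, 8), (32, 52, 53), (33, 17, 19), (35, 41, 4), (35, 17, 18), (36, 18, 17), (39, 45, 1), (39, 8, 7), (39, 53, 52), (46, 52, 3), (46, 7, 6), (48, 54, 5), (50, 56, 0)]
def spanE6_2 : List (List ℕ × ℕ × ℕ) := [([1], 77, 52), ([2], 77, 53), ([3], 77, 54), ([4], 77, 55), ([5], 54, 17), ([5], 55, 18), ([5], 77, 56), ([6], 55, 19), ([6], 77, 57), ([7], 77, 58), ([8], 55, 20), ([8], 58, 21), ([8], 77, 59), ([9], 77, 60), ([10], 77, 61), ([16], 19, 7), ([16], 20, 8), ([16], 21, 11), ([16], 54, 32), ([16], 55, 33), ([16], 57, 36), ([16], 58, 37), ([16], 59, 39), ([16], 60, 40), ([16], 77, 67), ([17], 20, 9), ([17], 21, 12), ([17], 40, 22), ([17], 55, 34), ([17], 58, 38), ([17], 59, 41), ([17], 61, 43), ([17], 77, 68), ([18], 20, 10), ([18], 21, 13), ([18], 41, 23), ([18], 60, 42), ([18], 61, 44), ([18], 77, 69), ([19], 13, 6), ([19], 21, 14), ([19], 42, 26), ([19], 44,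 27), ([19], 55, 35), ([19], 60, 45), ([19], 61, 46), ([19], 69, 62), ([19], 77, 70), ([20], 21, 15), ([20], 38, 24), ([20], 41, 25), ([20], 61, 47), ([20], 77, 71), ([21], 21, 16), ([21], 77, 72), ([22], 42, 29), ([22], 44, 30), ([22], 47, 31), ([22], 58, 48), ([22], 60, 49), ([22], 61, 50), ([22], 69, 63), ([22], 71, 64), ([22], 72, 65), ([22], 77, 73), ([23], 41, 28), ([23], 61, 51), ([23], 72, 66), ([23], 77, 74), ([24], 77, 75), ([25], 52, 1), ([25], 77, 76), ([29], 48, 2), ([32], 45, 3), ([34], 43, 4), ([35], 42, 5), ([56], 21, 0)]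
def topE6_2 : List (List ℕ × ℕ) := [([46], 76)]
theorem scalarE6_2 : chkScalar chevE6 2 fixE6_2 spanE6_2 topE6_2 = true := by decide +kernel

def fixE6_3 : List (ℕ × ℕ × ℕ) := [(11, 0, 66), (11, 7, 24), (11, 8, 26), (11, 9, 27), (11, 11, 29), (11, 12, 30), (11, 14, 31), (11, 18, 42), (11, 19, 44), (11, 20, 47), (11, 21, 51), (11, 32, 62), (11, 36, 63), (11, 39, 64), (11, 41, 65), (11, 52, 69), (11, 53, 71), (11, 54, 72), (11, 56, 74), (11, 57, 75), (11, 59, 76), (12, 7, 23), (12, 8, 25), (12, 11, 28), (12, 17, 41), (12, 19, 43), (12, 20, 46), (12, 21, 50), (12, 52, 68), (12, 53, 70), (12, 56, 73), (13, 7, 22), (13, 17, 39), (13, 18, 40), (13, 20, 45), (13, 21, 49), (13, 52, 67), (14, 17, 36), (14, 18, 37), (14, 19, 38), (14, 21, 48), (15, 17, 32), (15, 18, 33), (15, 19, 34), (15, 20, 35), (26, 7, 13), (26, 8, 15), (26, 9, 16), (26, 17, 21), (26, 52, 58), (26, 53, 60), (26, 54, 61), (27, 7, 12), (27, 8, 14), (27, 52, 57), (27, 53, 59), (28, 7, 11), (28,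 52, 56), (30, 7, 10), (30, 17, 20), (30, 52, 55), (31, 7, 9), (31, 52, 54), (32, 7, 8), (32, 52, 53), (33, 17, 19), (35, 17, 18), (36, 18, 17), (39, 8, 7), (39, 53, 52), (46, 7, 6), (71, 77, 1), (46, 52, 3)]
def spanE6_3 : List (List ℕ × ℕ × ℕ) := [([1], 77, 52), ([2], 77, 53), ([3], 77, 54), ([4], 77, 55), ([5], 54, 17), ([5], 55, 18), ([5], 77, 56), ([6], 55, 19), ([6], 77, 57), ([7], 77, 58), ([8], 55, 20), ([8], 58, 21), ([8], 77, 59), ([9], 77, 60), ([10], 77, 61), ([16], 19, 7), ([16], 20, 8), ([16], 21, 11), ([16], 54, 32), ([16], 55, 33), ([16], 57, 36), ([16], 58, 37), ([16], 59, 39), ([16], 60, 40), ([16], 77, 67), ([17], 20, 9), ([17], 21, 12), ([17], 40, 22), ([17], 55, 34), ([17], 58, 38), ([17], 59, 41), ([17], 61, 43), ([17], 77, 68), ([18], 20, 10), ([18], 21, 13), ([18], 41, 23), ([18], 60, 42), ([18], 61, 44), ([18], 77, 69), ([19], 13, 6), ([19], 21, 14), ([19], 42, 26), ([19], 44, 27), ([19], 55, 35), ([19], 60, 45), ([19], 61, 46),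 ([19], 69, 62), ([19], 77, 70), ([20], 21, 15), ([20], 38, 24), ([20], 41, 25), ([20], 61, 47), ([20], 77, 71), ([21], 21, 16), ([21], 77, 72), ([22], 42, 29), ([22], 44, 30), ([22], 47, 31), ([22], 58, 48), ([22], 60, 49), ([22], 61, 50), ([22], 69, 63), ([22], 71, 64), ([22], 72, 65), ([22], 77, 73), ([23], 41, 28), ([23], 61, 51), ([23], 72, 66), ([23], 77, 74), ([24], 77, 75), ([25], 52, 1), ([25], 77, 76), ([29], 48, 2), ([32], 45, 3), ([34], 43, 4), ([35], 42, 5), ([56], 21, 0)]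
def topE6_3 : List (List ℕ × ℕ) := [([46], 76)]
theorem scalarE6_3 : chkScalar chevE6 3 fixE6_3 spanE6_3 topE6_3 = true := by decide +kernel

def fixE6_5 : List (ℕ × ℕ × ℕ) := [(11, 0, 66), (11, 7, 24), (11, 8, 26), (11, 9, 27), (11, 11, 29), (11, 12, 30), (11, 14, 31), (11, 18, 42), (11, 19, 44), (11, 20, 47), (11, 21, 51), (11, 32, 62), (11, 36, 63), (11, 39, 64), (11, 41, 65), (11, 52, 69), (11, 53, 71), (11, 54, 72), (11, 56, 74), (11, 57, 75), (11, 59, 76), (12, 7, 23), (12, 8, 25), (12, 11, 28), (12, 17, 41), (12, 19, 43), (12, 20, 46), (12, 21, 50), (12, 52, 68), (12, 53, 70), (12, 56, 73), (13, 7, 22), (13, 17, 39), (13, 18, 40), (13, 20, 45), (13, 21, 49), (13, 52, 67), (14, 17, 36), (14, 18, 37), (14, 19, 38), (14, 21, 48), (15, 17, 32), (15, 18, 33), (15, 19, 34), (15, 20, 35), (26, 7, 13), (26, 8, 15), (26, 9, 16), (26, 17, 21), (26, 52, 58), (26, 53, 60), (26, 54, 61), (27, 7, 12), (27, 8, 14), (27, 52, 57), (27, 53, 59), (28, 7, 11), (28,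 52, 56), (30, 7, 10), (30, 17, 20), (30, 52, 55), (31, 7, 9), (31, 52, 54), (32, 7, 8), (32, 52, 53), (33, 17, 19), (35, 17, 18), (36, 18, 17), (39, 8, 7), (39, 53, 52), (46, 7, 6), (71, 77, 1), (46, 52, 3)]
def spanE6_5 : List (List ℕ × ℕ × ℕ) := [([1], 77, 52), ([2], 77, 53), ([3], 77, 54), ([4], 77, 55), ([5], 54, 17), ([5], 55, 18), ([5], 77, 56), ([6], 55, 19), ([6], 77, 57), ([7], 77, 58), ([8], 55, 20), ([8], 58, 21), ([8], 77, 59), ([9], 77, 60), ([10], 77, 61), ([16], 19, 7), ([16], 20, 8), ([16], 21, 11), ([16], 54, 32), ([16], 55, 33), ([16], 57, 36), ([16], 58, 37), ([16], 59, 39), ([16], 60, 40), ([16], 77, 67), ([17], 20, 9), ([17], 21, 12), ([17], 40, 22), ([17], 55, 34), ([17], 58, 38), ([17], 59, 41), ([17], 61, 43), ([17], 77, 68), ([18], 20, 10), ([18], 21, 13), ([18], 41, 23), ([18], 60, 42), ([18], 61, 44), ([18], 77, 69), ([19], 13, 6), ([19], 21, 14), ([19], 42, 26), ([19], 44, 27), ([19], 55, 35), ([19], 60, 45), ([19], 61, 46),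 ([19], 69, 62), ([19], 77, 70), ([20], 21, 15), ([20], 38, 24), ([20], 41, 25), ([20], 61, 47), ([20], 77, 71), ([21], 21, 16), ([21], 77, 72), ([22], 42, 29), ([22], 44, 30), ([22], 47, 31), ([22], 58, 48), ([22], 60, 49), ([22], 61, 50), ([22], 69, 63), ([22], 71, 64), ([22], 72, 65), ([22], 77, 73), ([23], 41, 28), ([23], 61, 51), ([23], 72, 66), ([23], 77, 74), ([24], 77, 75), ([25], 52, 1), ([25], 77, 76), ([29], 48, 2), ([32], 45, 3), ([34], 43, 4), ([35], 42, 5), ([56], 21, 0)]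
def topE6_5 : List (List ℕ × ℕ) := [([46], 76)]
theorem scalarE6_5 : chkScalar chevE6 5 fixE6_5 spanE6_5 topE6_5 = true := by decide +kernel

def fixE7_2 : List (ℕ × ℕ × ℕ) := [(33, 1, 99), (33, 8, 23), (33, 9, 29), (33, 10, 32), (33, 11, 33), (33, 14, 36), (33, 15, 37), (33, 18, 38), (33, 24, 39), (33, 41, 71), (33, 42, 72), (33, 43, 74), (33, 44, 75), (33, 46, 78), (33, 47, 79), (33, 50, 83), (33, 51, 84), (33, 55, 88), (33, 56, 89), (33, 60, 92), (33, 61, 93), (33, 64, 95), (33, 65, 96), (33, 67, 97), (33, 68, 98), (33, 100, 115), (33, 101, 121), (33, 102, 124), (33, 103, 125), (33, 106, 128), (33, 107, 129), (33, 110, 130), (33, 116, 131), (34, 8, 22), (34, 9, 28), (34, 10, 31), (34, 14, 35), (34, 40, 68), (34, 42, 70), (34, 43, 73), (34, 46, 77), (34, 50, 82), (34, 55, 87), (34, 60, 91), (34, 64, 94), (34, 100, 114), (34, 101, 120), (34, 102, 123), (34, 106, 127), (35, 8, 21), (35, 9, 27), (35, 10, 30), (35, 14, 34), (35, 40, 67), (35, 41, 69),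 (35, 100, 113), (35, 101, 119), (35, 102, 122), (35, 106, 126), (36, 8, 20), (36, 9, 26), (36, 40, 65), (36, 41, 66), (36, 46, 76), (36, 50, 81), (36, 55, 86), (36, 60, 90), (36, 100, 112), (36, 101, 118), (37, 8, 19), (37, 9, 25), (37, 40, 64), (37, 100, 111), (37, 101, 117), (38, 8, 18), (38, 9, 24), (38, 100, 110), (38, 101, 116), (39, 8, 17), (39, 40, 61), (39, 41, 62), (39, 43, 63), (39, 50, 80), (39, 55, 85), (39, 100, 109), (40, 8, 16), (40, 40, 60), (40, 100, 108), (41, 8, 15), (41, 100, 107), (42, 8, 14), (42, 100, 106), (43, 40, 56), (43, 41, 57), (43, 43, 58), (43, 46, 59), (44, 40, 55), (47, 54, 3), (48, 8, 13), (48, 40, 51), (48, 41, 52), (48, 43, 53), (48, 46, 54), (48, 100, 105), (49, 8, 12), (49, 40, 50), (49, 100, 104), (50, 8, 11), (50, 100, 103), (51, 8, 10), (51, 100, 102), (52, 59, 0), (52, 8, 9), (52, 100, 101), (53, 40, 47), (53, 41, 48), (53, 43, 49), (54, 40, 46), (57, 40, 44), (57, 41, 45), (58, 40, 43), (59, 66, 5), (60, 40,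 42), (61, 40, 41), (64, 41, 40), (73, 9, 8), (73, 101, 100), (93, 100, 2), (93, 8, 7)]
def spanE7_2 : List (List ℕ × ℕ × ℕ) := [([1], 132, 100), ([2], 132, 101), ([3], 132, 102), ([4], 132, 103), ([5], 132, 104), ([6], 132, 105), ([7], 103, 40), ([7], 104, 41), ([7], 105, 42), ([7], 132, 106), ([8], 104, 43), ([8], 105, 44), ([8], 132, 107), ([9], 105, 45), ([9], 132, 108), ([10], 132, 109), ([11], 45, 8), ([11], 104, 46), ([11], 105, 47), ([11], 108, 55), ([11], 109, 56), ([11], 132, 110), ([12], 105, 48), ([12], 109, 57), ([12], 132, 111), ([13], 132, 112), ([14], 105, 49), ([14], 109, 58), ([14], 112, 59), ([14], 132, 113), ([15], 132, 114), ([16], 132, 115), ([17], 45, 9), ([17], 48, 10), ([17], 49, 11), ([17], 57, 14), ([17], 58, 15), ([17], 59, 18), ([17], 104, 50), ([17], 105, 51), ([17], 108, 60), ([17], 109, 61), ([17], 111, 64), ([17], 112, 65), ([17], 113, 67), ([17], 114, 68), ([17], 132, 116), ([18], 49, 12), ([18], 58, 16), ([18], 59, 19),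 ([18], 68, 24), ([18], 105, 52), ([18], 109, 62), ([18], 112, 66), ([18], 113, 69), ([18], 115, 71), ([18], 132, 117), ([19], 49, 13), ([19], 58, 17), ([19], 59, 20), ([19], 69, 25), ([19], 114, 70), ([19], 115, 72), ([19], 132, 118), ([20], 20, 7), ([20], 59, 21), ([20], 70, 28), ([20], 72, 29), ([20], 105, 53), ([20], 109, 63), ([20], 114, 73), ([20], 115, 74), ([20], 118, 80), ([20], 132, 119), ([21], 59, 22), ([21], 66, 26), ([21], 69, 27), ([21], 115, 75), ([21], 132, 120), ([22], 59, 23), ([22], 132, 121), ([23], 70, 31), ([23], 72, 32), ([23], 75, 33), ([23], 105, 54), ([23], 112, 76), ([23], 114, 77), ([23], 115, 78), ([23], 118, 81), ([23], 120, 82), ([23], 121, 83), ([23], 132, 122), ([24], 69, 30), ([24], 115, 79), ([24], 121, 84), ([24], 132, 123), ([25], 132, 124), ([26], 132, 125), ([27], 70, 35), ([27], 72, 36), ([27], 75, 37), ([27], 79, 38), ([27], 84, 39), ([27], 109, 85), ([27], 112, 86), ([27], 114, 87), ([27], 115, 88), ([27], 118,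 90), ([27], 120, 91), ([27], 121, 92), ([27], 123, 94), ([27], 124, 95), ([27], 125, 97), ([27], 132, 126), ([28], 69, 34), ([28], 115, 89), ([28], 121, 93), ([28], 124, 96), ([28], 125, 98), ([28], 132, 127), ([29], 125, 99), ([29], 132, 128), ([30], 132, 129), ([31], 132, 130), ([32], 100, 0), ([32], 132, 131), ([47], 85, 1), ([52], 80, 2), ([56], 76, 3), ([59], 73, 4), ([61], 71, 5), ([62], 70, 6)]
def topE7_2 : List (List ℕ × ℕ) := [([93], 131)]
theorem scalarE7_2 : chkScalar chevE7 2 fixE7_2 spanE7_2 topE7_2 = true := by decide +kernel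

def fixE7_3 : List (ℕ × ℕ × ℕ) := [(33, 1, 99), (33, 8, 23), (33, 9, 29), (33, 10, 32), (33, 11, 33), (33, 14, 36), (33, 15, 37), (33, 18, 38), (33, 24, 39), (33, 41, 71), (33, 42, 72), (33, 43, 74), (33, 44, 75), (33, 46, 78), (33, 47, 79), (33, 50, 83), (33, 51, 84), (33, 55, 88), (33, 56, 89), (33, 60, 92), (33, 61, 93), (33, 64, 95), (33, 65, 96), (33, 67, 97), (33, 68, 98), (33, 100, 115), (33, 101, 121), (33, 102, 124), (33, 103, 125), (33, 106, 128), (33, 107, 129), (33, 110, 130), (33, 116, 131), (34, 8, 22), (34, 9, 28), (34, 10, 31), (34, 14, 35), (34, 40, 68), (34, 42, 70), (34, 43, 73), (34, 46, 77), (34, 50, 82), (34, 55, 87), (34, 60, 91), (34, 64, 94), (34, 100, 114), (34, 101, 120), (34, 102, 123), (34, 106, 127), (35, 8, 21), (35, 9, 27), (35, 10, 30), (35, 14, 34), (35, 40, 67), (35, 41, 69), (35, 100, 113), (35, 101, 119), (35, 102, 122), (35, 106, 126), (36, 8, 20), (36, 9, 26), (36, 40, 65), (36, 41, 66), (36, 46, 76), (36, 50,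 81), (36, 55, 86), (36, 60, 90), (36, 100, 112), (36, 101, 118), (37, 8, 19), (37, 9, 25), (37, 40, 64), (37, 100, 111), (37, 101, 117), (38, 8, 18), (38, 9, 24), (38, 100, 110), (38, 101, 116), (39, 8, 17), (39, 40, 61), (39, 41, 62), (39, 43, 63), (39, 50, 80), (39, 55, 85), (39, 100, 109), (40, 8, 16), (40, 40, 60), (40, 100, 108), (41, 8, 15), (41, 100, 107), (42, 8, 14), (42, 100, 106), (43, 40, 56), (43, 41, 57), (43, 43, 58), (43, 46, 59), (44, 40, 55), (48, 8, 13), (48, 40, 51), (48, 41, 52), (48, 43, 53), (48, 46, 54), (48, 100, 105), (49, 8, 12), (49, 40, 50), (49, 100, 104), (50, 8, 11), (50, 100, 103), (51, 8, 10), (51, 100, 102), (52, 8, 9), (52, 100, 101), (53, 40, 47), (53, 41, 48), (53, 43, 49), (54, 40, 46), (57, 40, 44), (57, 41, 45), (58, 40, 43), (60, 40, 42), (61, 40, 41), (64, 41, 40), (73, 9, 8), (73, 101, 100), (93, 8, 7), (125, 132, 0), (33, 40, 5), (38, 45, 3), (47, 54, 1), (52, 59, 2), (53, 60, 6), (55, 62, 4)]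
def spanE7_3 : List (List ℕ × ℕ × ℕ) := [([1], 132, 100), ([2], 132, 101), ([3], 132, 102), ([4], 132, 103), ([5], 132, 104), ([6], 132, 105), ([7], 103, 40), ([7], 104, 41), ([7], 105, 42), ([7], 132, 106), ([8], 104, 43), ([8], 105, 44), ([8], 132, 107), ([9], 105, 45), ([9], 132, 108), ([10], 132, 109), ([11], 45, 8), ([11], 104, 46), ([11], 105, 47), ([11], 108, 55), ([11], 109, 56), ([11], 132, 110), ([12], 105, 48), ([12], 109, 57), ([12], 132, 111), ([13], 132, 112), ([14], 105, 49), ([14], 109, 58), ([14], 112, 59), ([14], 132, 113), ([15], 132, 114), ([16], 132, 115), ([17], 45, 9), ([17], 48, 10), ([17], 49, 11), ([17], 57, 14), ([17], 58, 15), ([17], 59, 18), ([17], 104, 50), ([17], 105, 51), ([17], 108, 60), ([17], 109, 61), ([17], 111, 64), ([17], 112, 65), ([17], 113, 67), ([17], 114, 68), ([17], 132, 116), ([18], 49, 12), ([18], 58, 16), ([18], 59, 19), ([18], 68, 24), ([18], 105, 52), ([18], 109, 62), ([18], 112, 66), ([18], 113, 69),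 ([18], 115, 71), ([18], 132, 117), ([19], 49, 13), ([19], 58, 17), ([19], 59, 20), ([19], 69, 25), ([19], 114, 70), ([19], 115, 72), ([19], 132, 118), ([20], 20, 7), ([20], 59, 21), ([20], 70, 28), ([20], 72, 29), ([20], 105, 53), ([20], 109, 63), ([20], 114, 73), ([20], 115, 74), ([20], 118, 80), ([20], 132, 119), ([21], 59, 22), ([21], 66, 26), ([21], 69, 27), ([21], 115, 75), ([21], 132, 120), ([22], 59, 23), ([22], 132, 121), ([23], 70, 31), ([23], 72, 32), ([23], 75, 33), ([23], 105, 54), ([23], 112, 76), ([23], 114, 77), ([23], 115, 78), ([23], 118, 81), ([23], 120, 82), ([23], 121, 83), ([23], 132, 122), ([24], 69, 30), ([24], 115, 79), ([24], 121, 84), ([24], 132, 123), ([25], 132, 124), ([26], 132, 125), ([27], 70, 35), ([27], 72, 36), ([27], 75, 37), ([27], 79, 38), ([27], 84, 39), ([27], 109, 85), ([27], 112, 86), ([27], 114, 87), ([27], 115, 88), ([27], 118, 90), ([27], 120, 91), ([27], 121, 92), ([27], 123, 94), ([27], 124, 95), ([27], 125,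 97), ([27], 132, 126), ([28], 69, 34), ([28], 115, 89), ([28], 121, 93), ([28], 124, 96), ([28], 125, 98), ([28], 132, 127), ([29], 125, 99), ([29], 132, 128), ([30], 132, 129), ([31], 132, 130), ([32], 100, 0), ([32], 132, 131), ([47], 85, 1), ([52], 80, 2), ([56], 76, 3), ([59], 73, 4), ([61], 71, 5), ([62], 70, 6)]
def topE7_3 : List (List ℕ × ℕ) := [([93], 131)]
theorem scalarE7_3 : chkScalar chevE7 3 fixE7_3 spanE7_3 topE7_3 = true := by decide +kernel

def fixE7_5 : List (ℕ × ℕ × ℕ) := [(33, 1, 99), (33, 8, 23), (33, 9, 29), (33, 10, 32), (33, 11, 33), (33, 14, 36), (33, 15, 37), (33, 18, 38), (33, 24, 39), (33, 41, 71), (33, 42, 72), (33, 43, 74), (33, 44, 75), (33, 46, 78), (33, 47, 79), (33, 50, 83), (33, 51, 84), (33, 55, 88), (33, 56, 89), (33, 60, 92), (33, 61, 93), (33, 64, 95), (33, 65, 96), (33, 67, 97), (33, 68, 98), (33, 100, 115), (33, 101, 121), (33, 102, 124), (33, 103, 125), (33, 106, 128), (33, 107, 129), (33, 110, 130), (33, 116,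 131), (34, 8, 22), (34, 9, 28), (34, 10, 31), (34, 14, 35), (34, 40, 68), (34, 42, 70), (34, 43, 73), (34, 46, 77), (34, 50, 82), (34, 55, 87), (34, 60, 91), (34, 64, 94), (34, 100, 114), (34, 101, 120), (34, 102, 123), (34, 106, 127), (35, 8, 21), (35, 9, 27), (35, 10, 30), (35, 14, 34), (35, 40, 67), (35, 41, 69), (35, 100, 113), (35, 101, 119), (35, 102, 122), (35, 106, 126), (36, 8, 20), (36, 9, 26), (36, 40, 65), (36, 41, 66), (36, 46, 76), (36, 50, 81), (36, 55, 86), (36, 60, 90), (36, 100, 112), (36, 101, 118), (37, 8, 19), (37, 9, 25), (37, 40, 64), (37, 100, 111), (37, 101, 117), (38, 8, 18), (38, 9, 24), (38, 100, 110), (38, 101, 116), (39, 8, 17), (39, 40, 61), (39, 41, 62), (39, 43, 63), (39, 50, 80), (39, 55, 85), (39, 100, 109), (40, 8, 16), (40, 40, 60), (40, 100, 108), (41, 8, 15), (41, 100, 107), (42, 8, 14), (42, 100, 106), (43, 40, 56), (43, 41, 57), (43, 43, 58), (43, 46, 59), (44, 40, 55), (48, 8, 13), (48, 40, 51), (48, 41, 52),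 (48, 43, 53), (48, 46, 54), (48, 100, 105), (49, 8, 12), (49, 40, 50), (49, 100, 104), (50, 8, 11), (50, 100, 103), (51, 8, 10), (51, 100, 102), (52, 8, 9), (52, 100, 101), (53, 40, 47), (53, 41, 48), (53, 43, 49), (54, 40, 46), (57, 40, 44), (57, 41, 45), (58, 40, 43), (60, 40, 42), (61, 40, 41), (64, 41, 40), (73, 9, 8), (73, 101, 100), (93, 8, 7), (125, 132, 0), (33, 40, 5), (38, 45, 3), (47, 54, 1), (52, 59, 2), (53, 60, 6), (55, 62, 4)]
def spanE7_5 : List (List ℕ × ℕ × ℕ) := [([1], 132, 100), ([2], 132, 101), ([3], 132, 102), ([4], 132, 103), ([5], 132, 104), ([6], 132, 105), ([7], 103, 40), ([7], 104, 41), ([7], 105, 42), ([7], 132, 106), ([8], 104, 43), ([8], 105, 44), ([8], 132, 107), ([9], 105, 45), ([9], 132, 108), ([10], 132, 109), ([11], 45, 8), ([11], 104, 46), ([11], 105, 47), ([11], 108, 55), ([11], 109, 56), ([11], 132, 110), ([12], 105, 48), ([12], 109, 57), ([12], 132, 111), ([13], 132, 112), ([14], 105, 49), ([14], 109, 58), ([14],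 112, 59), ([14], 132, 113), ([15], 132, 114), ([16], 132, 115), ([17], 45, 9), ([17], 48, 10), ([17], 49, 11), ([17], 57, 14), ([17], 58, 15), ([17], 59, 18), ([17], 104, 50), ([17], 105, 51), ([17], 108, 60), ([17], 109, 61), ([17], 111, 64), ([17], 112, 65), ([17], 113, 67), ([17], 114, 68), ([17], 132, 116), ([18], 49, 12), ([18], 58, 16), ([18], 59, 19), ([18], 68, 24), ([18], 105, 52), ([18], 109, 62), ([18], 112, 66), ([18], 113, 69), ([18], 115, 71), ([18], 132, 117), ([19], 49, 13), ([19], 58, 17), ([19], 59, 20), ([19], 69, 25), ([19], 114, 70), ([19], 115, 72), ([19], 132, 118), ([20], 20, 7), ([20], 59, 21), ([20], 70, 28), ([20], 72, 29), ([20], 105, 53), ([20], 109, 63), ([20], 114, 73), ([20], 115, 74), ([20], 118, 80), ([20], 132, 119), ([21], 59, 22), ([21], 66, 26), ([21], 69, 27), ([21], 115, 75), ([21], 132, 120), ([22], 59, 23), ([22], 132, 121), ([23], 70, 31), ([23], 72, 32), ([23], 75, 33), ([23], 105, 54), ([23], 112, 76), ([23],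 114, 77), ([23], 115, 78), ([23], 118, 81), ([23], 120, 82), ([23], 121, 83), ([23], 132, 122), ([24], 69, 30), ([24], 115, 79), ([24], 121, 84), ([24], 132, 123), ([25], 132, 124), ([26], 132, 125), ([27], 70, 35), ([27], 72, 36), ([27], 75, 37), ([27], 79, 38), ([27], 84, 39), ([27], 109, 85), ([27], 112, 86), ([27], 114, 87), ([27], 115, 88), ([27], 118, 90), ([27], 120, 91), ([27], 121, 92), ([27], 123, 94), ([27], 124, 95), ([27], 125, 97), ([27], 132, 126), ([28], 69, 34), ([28], 115, 89), ([28], 121, 93), ([28], 124, 96), ([28], 125, 98), ([28], 132, 127), ([29], 125, 99), ([29], 132, 128), ([30], 132, 129), ([31], 132, 130), ([32], 100, 0), ([32], 132, 131), ([47], 85, 1), ([52], 80, 2), ([56], 76, 3), ([59], 73, 4), ([61], 71, 5), ([62], 70, 6)]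
def topE7_5 : List (List ℕ × ℕ) := [([93], 131)]
theorem scalarE7_5 : chkScalar chevE7 5 fixE7_5 spanE7_5 topE7_5 = true := by decide +kernel

def fixE8_2 : List (ℕ × ℕ × ℕ) := [(13, 2, 234), (13, 9, 86), (13, 10, 87), (13, 11, 89), (13, 12, 92), (13, 13, 96), (13, 14, 101), (13, 15, 107), (13, 16, 113), (13, 17, 118), (13, 18, 122), (13, 19, 125), (13, 20, 127), (13, 28, 170), (13, 33, 171), (13, 37, 172), (13, 40, 173), (13, 42, 174), (13, 43, 175), (13, 47, 177), (13, 50, 178), (13, 52, 179), (13, 53, 180), (13, 56, 182), (13, 58, 183), (13, 59, 184), (13, 61, 186), (13, 62, 187), (13, 63, 189), (13, 66, 192), (13, 68, 193), (13, 69, 194), (13, 71, 196), (13, 72, 197), (13, 73, 199), (13, 75, 202), (13, 76, 203), (13, 77, 205), (13, 78, 208), (13, 80, 212), (13, 81, 213), (13, 82, 215), (13, 83, 218), (13, 84, 222), (13, 85, 227), (13, 128, 235), (13, 130, 236), (13, 133, 237), (13, 137, 238), (13, 142, 239), (13, 148, 240), (13, 154, 241), (13, 159,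 242), (13, 163, 243), (13, 166, 244), (13, 168, 245), (13, 169, 246), (20, 9, 64), (20, 10, 65), (20, 11, 67), (20, 12, 70), (20, 13, 74), (20, 15, 79), (20, 21, 85), (20, 33, 143), (20, 37, 144), (20, 40, 145), (20, 42, 146), (20, 43, 147), (20, 47, 155), (20, 50, 156), (20, 52, 157), (20, 53, 158), (20, 56, 160), (20, 58, 161), (20, 59, 162), (20, 61, 164), (20, 62, 165), (20, 63, 167), (20, 128, 228), (20, 130, 229), (20, 133, 230), (20, 137, 231), (20, 142, 232), (20, 154, 233), (25, 9, 54), (25, 10, 55), (25, 11, 57), (25, 12, 60), (25, 21, 84), (25, 28, 112), (25, 37, 138), (25, 40, 139), (25, 42, 140), (25, 43, 141), (25, 47, 150), (25, 50, 151), (25, 52, 152), (25, 53, 153), (25, 128, 223), (25, 130, 224), (25, 133, 225), (25, 137, 226), (29, 9, 48), (29, 10, 49), (29, 11, 51), (29, 21, 83), (29, 28, 111), (29, 33, 117), (29, 40, 134), (29, 42, 135), (29, 43, 136), (29, 47, 149), (29, 128, 219), (29, 130, 220), (29, 133, 221), (32, 9, 45), (32,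 10, 46), (32, 21, 82), (32, 28, 110), (32, 33, 116), (32, 37, 121), (32, 42, 131), (32, 43, 132), (32, 128, 216), (32, 130, 217), (34, 9, 44), (34, 21, 81), (34, 28, 109), (34, 33, 115), (34, 37, 120), (34, 40, 124), (34, 43, 129), (34, 128, 214), (35, 21, 80), (35, 28, 108), (35, 33, 114), (35, 37, 119), (35, 40, 123), (35, 42, 126), (39, 9, 38), (39, 10, 39), (39, 11, 41), (39, 21, 78), (39, 28, 100), (39, 33, 105), (39, 37, 106), (39, 128, 209), (39, 130, 210), (39, 133, 211), (42, 9, 35), (42, 10, 36), (42, 21, 77), (42, 28, 99), (42, 33, 104), (42, 128, 206), (42, 130, 207), (44, 9, 34), (44, 21, 76), (44, 28, 98), (44, 33, 103), (44, 128, 204), (45, 21, 75), (45, 28, 97), (45, 33, 102), (48, 9, 31), (48, 10, 32), (48, 21, 73), (48, 28, 95), (48, 128, 200), (48, 130, 201), (50, 9, 30), (50, 21, 72), (50, 28, 94), (50, 128, 198), (51, 21, 71), (51, 28, 93), (53, 9, 29), (53, 21, 69), (53, 28, 91), (53, 128, 195), (54, 21, 68), (54, 28, 90), (55,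 21, 66), (55, 28, 88), (58, 9, 26), (58, 10, 27), (58, 21, 63), (58, 128, 190), (58, 130, 191), (60, 9, 25), (60, 21, 62), (60, 128, 188), (61, 21, 61), (63, 9, 24), (63, 21, 59), (63, 128, 185), (64, 21, 58), (65, 21, 56), (67, 9, 23), (67, 21, 53), (67, 128, 181), (68, 21, 52), (69, 21, 50), (70, 21, 47), (72, 9, 22), (72, 21, 43), (72, 128, 176), (73, 21, 42), (74, 21, 40), (75, 21, 37), (76, 21, 33), (77, 85, 2), (77, 21, 28), (80, 9, 19), (80, 10, 20), (80, 128, 168), (80, 130, 169), (82, 9, 18), (82, 128, 166), (85, 9, 17), (85, 128, 163), (89, 9, 16), (89, 128, 159), (94, 9, 15), (94, 128, 154), (98, 106, 3), (100, 9, 14), (100, 128, 148), (104, 112, 0), (106, 9, 13), (106, 128, 142), (111, 9, 12), (111, 128, 137), (113, 121, 5), (115, 9, 11), (115, 128, 133), (118, 126, 7), (118, 9, 10), (118, 128, 130), (120, 128, 6), (120, 9, 8), (121, 10, 9), (121, 130, 128), (123, 131, 4), (130, 138, 1), (162, 28, 21)]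
def spanE8_2 : List (List ℕ × ℕ × ℕ) := [([1], 247, 128), ([2], 247, 130), ([3], 247, 133), ([4], 247, 137), ([5], 247, 142), ([6], 247, 148), ([7], 148, 21), ([7], 247, 154), ([8], 247, 159), ([9], 247, 163), ([10], 247, 166), ([11], 247, 168), ([12], 247, 169), ([14], 154, 28), ([14], 159, 33), ([14], 163, 37), ([14], 166, 40), ([14], 168, 42), ([14], 169, 43), ([14], 247, 176), ([15], 163, 47), ([15], 166, 50), ([15], 168, 52), ([15], 169, 53), ([15], 247, 181), ([16], 166, 56), ([16], 168, 58), ([16], 169, 59), ([16], 247, 185), ([17], 168, 61), ([17], 169, 62), ([17], 247, 188), ([18], 169, 63), ([18], 247, 190), ([19], 247, 191), ([21], 61, 9), ([21], 62, 10), ([21], 63, 11), ([21], 166, 66), ([21], 168, 68), ([21], 169, 69), ([21], 188, 88), ([21], 190, 90), ([21], 191, 91), ([21], 247, 195), ([22], 63, 12), ([22], 168, 71), ([22], 169, 72), ([22], 190, 93), ([22], 191, 94), ([22], 247, 198), ([23], 169, 73), ([23], 191, 95), ([23], 247, 200),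 ([24], 247, 201), ([26], 63, 13), ([26], 73, 14), ([26], 95, 22), ([26], 168, 75), ([26], 169, 76), ([26], 190, 97), ([26], 191, 98), ([26], 200, 102), ([26], 201, 103), ([26], 247, 204), ([27], 169, 77), ([27], 191, 99), ([27], 201, 104), ([27], 247, 206), ([28], 247, 207), ([30], 169, 78), ([30], 191, 100), ([30], 201, 105), ([30], 207, 106), ([30], 247, 209), ([31], 247, 210), ([33], 247, 211), ([36], 63, 15), ([36], 73, 16), ([36], 77, 17), ([36], 78, 18), ([36], 95, 23), ([36], 99, 24), ([36], 100, 25), ([36], 104, 29), ([36], 105, 30), ([36], 106, 34), ([36], 168, 80), ([36], 169, 81), ([36], 190, 108), ([36], 191, 109), ([36], 200, 114), ([36], 201, 115), ([36], 206, 119), ([36], 207, 120), ([36], 209, 123), ([36], 210, 124), ([36], 247, 214), ([37], 78, 19), ([37], 100, 26), ([37], 105, 31), ([37], 106, 35), ([37], 124, 44), ([37], 169, 82), ([37], 191, 110), ([37], 201, 116), ([37], 207, 121), ([37], 209, 126), ([37], 211, 131), ([37], 247,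 216), ([38], 78, 20), ([38], 100, 27), ([38], 105, 32), ([38], 106, 36), ([38], 126, 45), ([38], 210, 129), ([38], 211, 132), ([38], 247, 217), ([40], 36, 8), ([40], 106, 38), ([40], 129, 49), ([40], 132, 51), ([40], 169, 83), ([40], 191, 111), ([40], 201, 117), ([40], 210, 134), ([40], 211, 135), ([40], 217, 149), ([40], 247, 219), ([41], 106, 39), ([41], 121, 46), ([41], 126, 48), ([41], 211, 136), ([41], 247, 220), ([43], 106, 41), ([43], 247, 221), ([46], 129, 55), ([46], 132, 57), ([46], 136, 60), ([46], 169, 84), ([46], 191, 112), ([46], 207, 138), ([46], 210, 139), ([46], 211, 140), ([46], 217, 150), ([46], 220, 151), ([46], 221, 152), ([46], 247, 223), ([47], 126, 54), ([47], 211, 141), ([47], 221, 153), ([47], 247, 224), ([49], 247, 225), ([52], 247, 226), ([56], 129, 65), ([56], 132, 67), ([56], 136, 70), ([56], 141, 74), ([56], 153, 79), ([56], 169, 85), ([56], 201, 143), ([56], 207, 144), ([56], 210, 145), ([56], 211, 146), ([56], 217, 155),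 ([56], 220, 156), ([56], 221, 157), ([56], 224, 160), ([56], 225, 161), ([56], 226, 164), ([56], 247, 228), ([57], 126, 64), ([57], 211, 147), ([57], 221, 158), ([57], 225, 162), ([57], 226, 165), ([57], 247, 229), ([59], 226, 167), ([59], 247, 230), ([62], 247, 231), ([66], 247, 232), ([71], 247, 233), ([78], 129, 87), ([78], 132, 89), ([78], 136, 92), ([78], 141, 96), ([78], 147, 101), ([78], 153, 107), ([78], 158, 113), ([78], 162, 118), ([78], 165, 122), ([78], 167, 125), ([78], 191, 170), ([78], 201, 171), ([78], 207, 172), ([78], 210, 173), ([78], 211, 174), ([78], 217, 177), ([78], 220, 178), ([78], 221, 179), ([78], 224, 182), ([78], 225, 183), ([78], 226, 186), ([78], 229, 192), ([78], 230, 193), ([78], 231, 196), ([78], 232, 202), ([78], 233, 212), ([78], 247, 235), ([79], 126, 86), ([79], 167, 127), ([79], 211, 175), ([79], 221, 180), ([79], 225, 184), ([79], 226, 187), ([79], 230, 194), ([79], 231, 197), ([79], 232, 203), ([79], 233, 213),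 ([79], 247, 236), ([81], 226, 189), ([81], 231, 199), ([81], 232, 205), ([81], 233, 215), ([81], 247, 237), ([84], 232, 208), ([84], 233, 218), ([84], 247, 238), ([88], 233, 222), ([88], 247, 239), ([93], 233, 227), ([93], 247, 240), ([98], 149, 1), ([99], 240, 234), ([99], 247, 241), ([104], 143, 2), ([105], 247, 242), ([109], 138, 3), ([110], 247, 243), ([113], 134, 4), ([114], 247, 244), ([116], 131, 5), ([117], 247, 245), ([118], 129, 6), ([119], 128, 7), ([119], 247, 246), ([162], 85, 0)]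
def topE8_2 : List (List ℕ × ℕ) := [([120], 246)]
theorem scalarE8_2 : chkScalar chevE8 2 fixE8_2 spanE8_2 topE8_2 = true := by decide +kernel

def fixE8_3 : List (ℕ × ℕ × ℕ) := [(13, 0, 234), (13, 9, 86), (13, 10, 87), (13, 11, 89), (13, 12, 92), (13, 13, 96), (13, 14, 101), (13, 15, 107), (13, 16, 113), (13, 17, 118), (13, 18, 122), (13, 19, 125), (13, 20, 127), (13, 28, 170), (13, 33, 171), (13, 37, 172), (13, 40, 173), (13, 42, 174), (13, 43, 175), (13, 47, 177), (13, 50, 178), (13, 52, 179), (13, 53, 180), (13, 56, 182), (13, 58, 183), (13, 59, 184), (13, 61, 186), (13, 62, 187), (13, 63, 189), (13, 66, 192), (13, 68, 193), (13, 69, 194), (13, 71, 196), (13, 72, 197), (13, 73, 199), (13, 75, 202), (13, 76, 203), (13, 77, 205), (13, 78, 208), (13, 80, 212), (13, 81, 213), (13, 82, 215), (13, 83, 218), (13, 84, 222), (13, 85, 227), (13, 128, 235), (13, 130, 236), (13, 133, 237), (13, 137, 238), (13, 142, 239), (13, 148, 240), (13, 154, 241), (13,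 159, 242), (13, 163, 243), (13, 166, 244), (13, 168, 245), (13, 169, 246), (20, 9, 64), (20, 10, 65), (20, 11, 67), (20, 12, 70), (20, 13, 74), (20, 15, 79), (20, 21, 85), (20, 33, 143), (20, 37, 144), (20, 40, 145), (20, 42, 146), (20, 43, 147), (20, 47, 155), (20, 50, 156), (20, 52, 157), (20, 53, 158), (20, 56, 160), (20, 58, 161), (20, 59, 162), (20, 61, 164), (20, 62, 165), (20, 63, 167), (20, 128, 228), (20, 130, 229), (20, 133, 230), (20, 137, 231), (20, 142, 232), (20, 154, 233), (25, 9, 54), (25, 10, 55), (25, 11, 57), (25, 12, 60), (25, 21, 84), (25, 28, 112), (25, 37, 138), (25, 40, 139), (25, 42, 140), (25, 43, 141), (25, 47, 150), (25, 50, 151), (25, 52, 152), (25, 53, 153), (25, 128, 223), (25, 130, 224), (25, 133, 225), (25, 137, 226), (29, 9, 48), (29, 10, 49), (29, 11, 51), (29, 21, 83), (29, 28, 111), (29, 33, 117), (29, 40, 134), (29, 42, 135), (29, 43, 136), (29, 47, 149), (29, 128, 219), (29, 130, 220), (29, 133, 221), (32, 9, 45),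 (32, 10, 46), (32, 21, 82), (32, 28, 110), (32, 33, 116), (32, 37, 121), (32, 42, 131), (32, 43, 132), (32, 128, 216), (32, 130, 217), (34, 9, 44), (34, 21, 81), (34, 28, 109), (34, 33, 115), (34, 37, 120), (34, 40, 124), (34, 43, 129), (34, 128, 214), (35, 21, 80), (35, 28, 108), (35, 33, 114), (35, 37, 119), (35, 40, 123), (35, 42, 126), (39, 9, 38), (39, 10, 39), (39, 11, 41), (39, 21, 78), (39, 28, 100), (39, 33, 105), (39, 37, 106), (39, 128, 209), (39, 130, 210), (39, 133, 211), (42, 9, 35), (42, 10, 36), (42, 21, 77), (42, 28, 99), (42, 33, 104), (42, 128, 206), (42, 130, 207), (44, 9, 34), (44, 21, 76), (44, 28, 98), (44, 33, 103), (44, 128, 204), (45, 21, 75), (45, 28, 97), (45, 33, 102), (48, 9, 31), (48, 10, 32), (48, 21, 73), (48, 28, 95), (48, 128, 200), (48, 130, 201), (50, 9, 30), (50, 21, 72), (50, 28, 94), (50, 128, 198), (51, 21, 71), (51, 28, 93), (53, 9, 29), (53, 21, 69), (53, 28, 91), (53, 128, 195), (54, 21, 68), (54, 28, 90),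 (55, 21, 66), (55, 28, 88), (58, 9, 26), (58, 10, 27), (58, 21, 63), (58, 128, 190), (58, 130, 191), (60, 9, 25), (60, 21, 62), (60, 128, 188), (61, 21, 61), (63, 9, 24), (63, 21, 59), (63, 128, 185), (64, 21, 58), (65, 21, 56), (67, 9, 23), (67, 21, 53), (67, 128, 181), (68, 21, 52), (69, 21, 50), (70, 21, 47), (72, 9, 22), (72, 21, 43), (72, 128, 176), (73, 21, 42), (74, 21, 40), (75, 21, 37), (76, 21, 33), (77, 21, 28), (80, 9, 19), (80, 10, 20), (80, 128, 168), (80, 130, 169), (82, 9, 18), (82, 128, 166), (85, 9, 17), (85, 128, 163), (89, 9, 16), (89, 128, 159), (94, 9, 15), (94, 128, 154), (100, 9, 14), (100, 128, 148), (106, 9, 13), (106, 128, 142), (111, 9, 12), (111, 128, 137), (115, 9, 11), (115, 128, 133), (118, 9, 10), (118, 128, 130), (120, 9, 8), (121, 10, 9), (121, 130, 128), (162, 28, 21), (239, 247, 7), (13, 21, 0), (20, 28, 2), (25, 33, 3), (48, 56, 5), (98, 106, 1), (100, 108, 6), (102, 110, 4)]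
def spanE8_3 : List (List ℕ × ℕ × ℕ) := [([1], 247, 128), ([2], 247, 130), ([3], 247, 133), ([4], 247, 137), ([5], 247, 142), ([6], 247, 148), ([7], 148, 21), ([7], 247, 154), ([8], 247, 159), ([9], 247, 163), ([10], 247, 166), ([11], 247, 168), ([12], 247, 169), ([14], 154, 28), ([14], 159, 33), ([14], 163, 37), ([14], 166, 40), ([14], 168, 42), ([14], 169, 43), ([14], 247, 176), ([15], 163, 47), ([15], 166, 50), ([15], 168, 52), ([15], 169, 53), ([15], 247, 181), ([16], 166, 56), ([16], 168, 58), ([16], 169, 59), ([16], 247, 185), ([17], 168, 61), ([17], 169, 62), ([17], 247, 188), ([18], 169, 63), ([18], 247, 190), ([19], 247, 191), ([21], 61, 9), ([21], 62, 10), ([21], 63, 11), ([21], 166, 66), ([21], 168, 68), ([21], 169, 69), ([21], 188, 88), ([21], 190, 90), ([21], 191, 91), ([21], 247, 195), ([22], 63, 12), ([22], 168, 71), ([22], 169, 72), ([22], 190, 93), ([22], 191, 94), ([22], 247, 198), ([23], 169, 73), ([23], 191, 95), ([23], 247, 200),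 ([24], 247, 201), ([26], 63, 13), ([26], 73, 14), ([26], 95, 22), ([26], 168, 75), ([26], 169, 76), ([26], 190, 97), ([26], 191, 98), ([26], 200, 102), ([26], 201, 103), ([26], 247, 204), ([27], 169, 77), ([27], 191, 99), ([27], 201, 104), ([27], 247, 206), ([28], 247, 207), ([30], 169, 78), ([30], 191, 100), ([30], 201, 105), ([30], 207, 106), ([30], 247, 209), ([31], 247, 210), ([33], 247, 211), ([36], 63, 15), ([36], 73, 16), ([36], 77, 17), ([36], 78, 18), ([36], 95, 23), ([36], 99, 24), ([36], 100, 25), ([36], 104, 29), ([36], 105, 30), ([36], 106, 34), ([36], 168, 80), ([36], 169, 81), ([36], 190, 108), ([36], 191, 109), ([36], 200, 114), ([36], 201, 115), ([36], 206, 119), ([36], 207, 120), ([36], 209, 123), ([36], 210, 124), ([36], 247, 214), ([37], 78, 19), ([37], 100, 26), ([37], 105, 31), ([37], 106, 35), ([37], 124, 44), ([37], 169, 82), ([37], 191, 110), ([37], 201, 116), ([37], 207, 121), ([37], 209, 126), ([37], 211, 131), ([37], 247,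 216), ([38], 78, 20), ([38], 100, 27), ([38], 105, 32), ([38], 106, 36), ([38], 126, 45), ([38], 210, 129), ([38], 211, 132), ([38], 247, 217), ([40], 36, 8), ([40], 106, 38), ([40], 129, 49), ([40], 132, 51), ([40], 169, 83), ([40], 191, 111), ([40], 201, 117), ([40], 210, 134), ([40], 211, 135), ([40], 217, 149), ([40], 247, 219), ([41], 106, 39), ([41], 121, 46), ([41], 126, 48), ([41], 211, 136), ([41], 247, 220), ([43], 106, 41), ([43], 247, 221), ([46], 129, 55), ([46], 132, 57), ([46], 136, 60), ([46], 169, 84), ([46], 191, 112), ([46], 207, 138), ([46], 210, 139), ([46], 211, 140), ([46], 217, 150), ([46], 220, 151), ([46], 221, 152), ([46], 247, 223), ([47], 126, 54), ([47], 211, 141), ([47], 221, 153), ([47], 247, 224), ([49], 247, 225), ([52], 247, 226), ([56], 129, 65), ([56], 132, 67), ([56], 136, 70), ([56], 141, 74), ([56], 153, 79), ([56], 169, 85), ([56], 201, 143), ([56], 207, 144), ([56], 210, 145), ([56], 211, 146), ([56], 217, 155),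 ([56], 220, 156), ([56], 221, 157), ([56], 224, 160), ([56], 225, 161), ([56], 226, 164), ([56], 247, 228), ([57], 126, 64), ([57], 211, 147), ([57], 221, 158), ([57], 225, 162), ([57], 226, 165), ([57], 247, 229), ([59], 226, 167), ([59], 247, 230), ([62], 247, 231), ([66], 247, 232), ([71], 247, 233), ([78], 129, 87), ([78], 132, 89), ([78], 136, 92), ([78], 141, 96), ([78], 147, 101), ([78], 153, 107), ([78], 158, 113), ([78], 162, 118), ([78], 165, 122), ([78], 167, 125), ([78], 191, 170), ([78], 201, 171), ([78], 207, 172), ([78], 210, 173), ([78], 211, 174), ([78], 217, 177), ([78], 220, 178), ([78], 221, 179), ([78], 224, 182), ([78], 225, 183), ([78], 226, 186), ([78], 229, 192), ([78], 230, 193), ([78], 231, 196), ([78], 232, 202), ([78], 233, 212), ([78], 247, 235), ([79], 126, 86), ([79], 167, 127), ([79], 211, 175), ([79], 221, 180), ([79], 225, 184), ([79], 226, 187), ([79], 230, 194), ([79], 231, 197), ([79], 232, 203), ([79], 233, 213),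 ([79], 247, 236), ([81], 226, 189), ([81], 231, 199), ([81], 232, 205), ([81], 233, 215), ([81], 247, 237), ([84], 232, 208), ([84], 233, 218), ([84], 247, 238), ([88], 233, 222), ([88], 247, 239), ([93], 233, 227), ([93], 247, 240), ([98], 149, 1), ([99], 240, 234), ([99], 247, 241), ([104], 143, 2), ([105], 247, 242), ([109], 138, 3), ([110], 247, 243), ([113], 134, 4), ([114], 247, 244), ([116], 131, 5), ([117], 247, 245), ([118], 129, 6), ([119], 128, 7), ([119], 247, 246), ([162], 85, 0)]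
def topE8_3 : List (List ℕ × ℕ) := [([120], 246)]
theorem scalarE8_3 : chkScalar chevE8 3 fixE8_3 spanE8_3 topE8_3 = true := by decide +kernel

def fixE8_5 : List (ℕ × ℕ × ℕ) := [(13, 0, 234), (13, 9, 86), (13, 10, 87), (13, 11, 89), (13, 12, 92), (13, 13, 96), (13, 14, 101), (13, 15, 107), (13, 16, 113), (13, 17, 118), (13, 18, 122), (13, 19, 125), (13, 20, 127), (13, 28, 170), (13, 33, 171), (13, 37, 172), (13, 40, 173), (13, 42, 174), (13, 43, 175), (13, 47, 177), (13, 50, 178), (13, 52, 179), (13, 53, 180), (13, 56, 182), (13, 58, 183), (13, 59, 184), (13, 61, 186), (13, 62, 187), (13, 63, 189), (13, 66, 192), (13, 68, 193), (13, 69, 194), (13, 71, 196), (13, 72, 197), (13, 73, 199), (13, 75, 202), (13, 76, 203), (13, 77, 205), (13, 78, 208), (13, 80, 212), (13, 81, 213), (13, 82, 215), (13, 83, 218), (13, 84, 222), (13, 85, 227), (13, 128, 235), (13, 130, 236), (13, 133, 237), (13, 137, 238), (13, 142, 239), (13, 148, 240), (13, 154, 241), (13,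 159, 242), (13, 163, 243), (13, 166, 244), (13, 168, 245), (13, 169, 246), (20, 9, 64), (20, 10, 65), (20, 11, 67), (20, 12, 70), (20, 13, 74), (20, 15, 79), (20, 21, 85), (20, 33, 143), (20, 37, 144), (20, 40, 145), (20, 42, 146), (20, 43, 147), (20, 47, 155), (20, 50, 156), (20, 52, 157), (20, 53, 158), (20, 56, 160), (20, 58, 161), (20, 59, 162), (20, 61, 164), (20, 62, 165), (20, 63, 167), (20, 128, 228), (20, 130, 229), (20, 133, 230), (20, 137, 231), (20, 142, 232), (20, 154, 233), (25, 9, 54), (25, 10, 55), (25, 11, 57), (25, 12, 60), (25, 21, 84), (25, 28, 112), (25, 37, 138), (25, 40, 139), (25, 42, 140), (25, 43, 141), (25, 47, 150), (25, 50, 151), (25, 52, 152), (25, 53, 153), (25, 128, 223), (25, 130, 224), (25, 133, 225), (25, 137, 226), (29, 9, 48), (29, 10, 49), (29, 11, 51), (29, 21, 83), (29, 28, 111), (29, 33, 117), (29, 40, 134), (29, 42, 135), (29, 43, 136), (29, 47, 149), (29, 128, 219), (29, 130, 220), (29, 133, 221), (32, 9, 45),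 (32, 10, 46), (32, 21, 82), (32, 28, 110), (32, 33, 116), (32, 37, 121), (32, 42, 131), (32, 43, 132), (32, 128, 216), (32, 130, 217), (34, 9, 44), (34, 21, 81), (34, 28, 109), (34, 33, 115), (34, 37, 120), (34, 40, 124), (34, 43, 129), (34, 128, 214), (35, 21, 80), (35, 28, 108), (35, 33, 114), (35, 37, 119), (35, 40, 123), (35, 42, 126), (39, 9, 38), (39, 10, 39), (39, 11, 41), (39, 21, 78), (39, 28, 100), (39, 33, 105), (39, 37, 106), (39, 128, 209), (39, 130, 210), (39, 133, 211), (42, 9, 35), (42, 10, 36), (42, 21, 77), (42, 28, 99), (42, 33, 104), (42, 128, 206), (42, 130, 207), (44, 9, 34), (44, 21, 76), (44, 28, 98), (44, 33, 103), (44, 128, 204), (45, 21, 75), (45, 28, 97), (45, 33, 102), (48, 9, 31), (48, 10, 32), (48, 21, 73), (48, 28, 95), (48, 128, 200), (48, 130, 201), (50, 9, 30), (50, 21, 72), (50, 28, 94), (50, 128, 198), (51, 21, 71), (51, 28, 93), (53, 9, 29), (53, 21, 69), (53, 28, 91), (53, 128, 195), (54, 21, 68), (54, 28, 90),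 (55, 21, 66), (55, 28, 88), (58, 9, 26), (58, 10, 27), (58, 21, 63), (58, 128, 190), (58, 130, 191), (60, 9, 25), (60, 21, 62), (60, 128, 188), (61, 21, 61), (63, 9, 24), (63, 21, 59), (63, 128, 185), (64, 21, 58), (65, 21, 56), (67, 9, 23), (67, 21, 53), (67, 128, 181), (68, 21, 52), (69, 21, 50), (70, 21, 47), (72, 9, 22), (72, 21, 43), (72, 128, 176), (73, 21, 42), (74, 21, 40), (75, 21, 37), (76, 21, 33), (77, 21, 28), (80, 9, 19), (80, 10, 20), (80, 128, 168), (80, 130, 169), (82, 9, 18), (82, 128, 166), (85, 9, 17), (85, 128, 163), (89, 9, 16), (89, 128, 159), (94, 9, 15), (94, 128, 154), (100, 9, 14), (100, 128, 148), (106, 9, 13), (106, 128, 142), (111, 9, 12), (111, 128, 137), (115, 9, 11), (115, 128, 133), (118, 9, 10), (118, 128, 130), (120, 9, 8), (121, 10, 9), (121, 130, 128), (162, 28, 21), (239, 247, 7), (13, 21, 0), (20, 28, 2), (25, 33, 3), (48, 56, 5), (98, 106, 1), (100, 108, 6), (102, 110, 4)]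
def spanE8_5 : List (List ℕ × ℕ × ℕ) := [([1], 247, 128), ([2], 247, 130), ([3], 247, 133), ([4], 247, 137), ([5], 247, 142), ([6], 247, 148), ([7], 148, 21), ([7], 247, 154), ([8], 247, 159), ([9], 247, 163), ([10], 247, 166), ([11], 247, 168), ([12], 247, 169), ([14], 154, 28), ([14], 159, 33), ([14], 163, 37), ([14], 166, 40), ([14], 168, 42), ([14], 169, 43), ([14], 247, 176), ([15], 163, 47), ([15], 166, 50), ([15], 168, 52), ([15], 169, 53), ([15], 247, 181), ([16], 166, 56), ([16], 168, 58), ([16], 169, 59), ([16], 247, 185), ([17], 168, 61), ([17], 169, 62), ([17], 247, 188), ([18], 169, 63), ([18], 247, 190), ([19], 247, 191), ([21], 61, 9), ([21], 62, 10), ([21], 63, 11), ([21], 166, 66), ([21], 168, 68), ([21], 169, 69), ([21], 188, 88), ([21], 190, 90), ([21], 191, 91), ([21], 247, 195), ([22], 63, 12), ([22], 168, 71), ([22], 169, 72), ([22], 190, 93), ([22], 191, 94), ([22], 247, 198), ([23], 169, 73), ([23], 191, 95), ([23], 247, 200),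 ([24], 247, 201), ([26], 63, 13), ([26], 73, 14), ([26], 95, 22), ([26], 168, 75), ([26], 169, 76), ([26], 190, 97), ([26], 191, 98), ([26], 200, 102), ([26], 201, 103), ([26], 247, 204), ([27], 169, 77), ([27], 191, 99), ([27], 201, 104), ([27], 247, 206), ([28], 247, 207), ([30], 169, 78), ([30], 191, 100), ([30], 201, 105), ([30], 207, 106), ([30], 247, 209), ([31], 247, 210), ([33], 247, 211), ([36], 63, 15), ([36], 73, 16), ([36], 77, 17), ([36], 78, 18), ([36], 95, 23), ([36], 99, 24), ([36], 100, 25), ([36], 104, 29), ([36], 105, 30), ([36], 106, 34), ([36], 168, 80), ([36], 169, 81), ([36], 190, 108), ([36], 191, 109), ([36], 200, 114), ([36], 201, 115), ([36], 206, 119), ([36], 207, 120), ([36], 209, 123), ([36], 210, 124), ([36], 247, 214), ([37], 78, 19), ([37], 100, 26), ([37], 105, 31), ([37], 106, 35), ([37], 124, 44), ([37], 169, 82), ([37], 191, 110), ([37], 201, 116), ([37], 207, 121), ([37], 209, 126), ([37], 211, 131), ([37], 247,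 216), ([38], 78, 20), ([38], 100, 27), ([38], 105, 32), ([38], 106, 36), ([38], 126, 45), ([38], 210, 129), ([38], 211, 132), ([38], 247, 217), ([40], 36, 8), ([40], 106, 38), ([40], 129, 49), ([40], 132, 51), ([40], 169, 83), ([40], 191, 111), ([40], 201, 117), ([40], 210, 134), ([40], 211, 135), ([40], 217, 149), ([40], 247, 219), ([41], 106, 39), ([41], 121, 46), ([41], 126, 48), ([41], 211, 136), ([41], 247, 220), ([43], 106, 41), ([43], 247, 221), ([46], 129, 55), ([46], 132, 57), ([46], 136, 60), ([46], 169, 84), ([46], 191, 112), ([46], 207, 138), ([46], 210, 139), ([46], 211, 140), ([46], 217, 150), ([46], 220, 151), ([46], 221, 152), ([46], 247, 223), ([47], 126, 54), ([47], 211, 141), ([47], 221, 153), ([47], 247, 224), ([49], 247, 225), ([52], 247, 226), ([56], 129, 65), ([56], 132, 67), ([56], 136, 70), ([56], 141, 74), ([56], 153, 79), ([56], 169, 85), ([56], 201, 143), ([56], 207, 144), ([56], 210, 145), ([56], 211, 146), ([56], 217, 155),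 ([56], 220, 156), ([56], 221, 157), ([56], 224, 160), ([56], 225, 161), ([56], 226, 164), ([56], 247, 228), ([57], 126, 64), ([57], 211, 147), ([57], 221, 158), ([57], 225, 162), ([57], 226, 165), ([57], 247, 229), ([59], 226, 167), ([59], 247, 230), ([62], 247, 231), ([66], 247, 232), ([71], 247, 233), ([78], 129, 87), ([78], 132, 89), ([78], 136, 92), ([78], 141, 96), ([78], 147, 101), ([78], 153, 107), ([78], 158, 113), ([78], 162, 118), ([78], 165, 122), ([78], 167, 125), ([78], 191, 170), ([78], 201, 171), ([78], 207, 172), ([78], 210, 173), ([78], 211, 174), ([78], 217, 177), ([78], 220, 178), ([78], 221, 179), ([78], 224, 182), ([78], 225, 183), ([78], 226, 186), ([78], 229, 192), ([78], 230, 193), ([78], 231, 196), ([78], 232, 202), ([78], 233, 212), ([78], 247, 235), ([79], 126, 86), ([79], 167, 127), ([79], 211, 175), ([79], 221, 180), ([79], 225, 184), ([79], 226, 187), ([79], 230, 194), ([79], 231, 197), ([79], 232, 203), ([79], 233, 213),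 ([79], 247, 236), ([81], 226, 189), ([81], 231, 199), ([81], 232, 205), ([81], 233, 215), ([81], 247, 237), ([84], 232, 208), ([84], 233, 218), ([84], 247, 238), ([88], 233, 222), ([88], 247, 239), ([93], 233, 227), ([93], 247, 240), ([98], 149, 1), ([99], 240, 234), ([99], 247, 241), ([104], 143, 2), ([105], 247, 242), ([109], 138, 3), ([110], 247, 243), ([113], 134, 4), ([114], 247, 244), ([116], 131, 5), ([117], 247, 245), ([118], 129, 6), ([119], 128, 7), ([119], 247, 246), ([162], 85, 0)]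
def topE8_5 : List (List ℕ × ℕ) := [([120], 246)]
theorem scalarE8_5 : chkScalar chevE8 5 fixE8_5 spanE8_5 topE8_5 = true := by decide +kernel

end CfsgLib.Known.Overgroup
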