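import Cfsg.Agent.Lib.Known.Overgroup.Setup
import Cfsg.Agent.Lib.Known.ChevFoldInj

/-!
# Leading coefficients of elements whose commutators are fixed
-/

set_option autoImplicit false

namespace CfsgLib.Known.Overgroup

open Cfsg.Lie (ChevalleyDatum)
open CfsgLib.Lie.Chev
open CfsgLib.Known.ChevFold
open scoped Matrix

/-- `x_r` commutes with every positive root element -/
def centralIn (D : ChevalleyDatum) (m r : ℕ) : Bool :=
  Nat.blt r D.nroots && Nat.ble (half D) r &&
    (List.range D.nroots).all fun b =>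
      Nat.blt b (half D) || Nat.beq b r || (D.commTerms r b).all fun c => zc m c.2.1

/-- a commutator with `x_b(1)` reads off the coefficient at `r` -/
def chkLead (D : ChevalleyDatum) (m r b u : ℕ) : Bool :=
  Nat.blt b D.nroots && Nat.ble (half D) b && !Nat.beq b r && Nat.blt u D.nroots &&
    ((D.commTerms r b).all fun c =>
      !Nat.beq c.1 u || (uc m c.2.1 && Nat.beq c.2.2.1 1 && Nat.beq c.2.2.2 1)) &&
    Nat.beq ((D.commTerms r b).filter fun c => Nat.beq c.1 u).length 1

/-- positive roots are determined by their coordinates -/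
def chkKeyInj (D : ChevalleyDatum) (X : Aux) : Bool :=
  (List.range D.nroots).all fun r => Nat.blt r (half D) || (List.range r).all fun s =>
    Nat.blt s (half D) || (List.range D.rank).any fun j => !decide (X.coef j r = X.coef j s)

/-- every positive root is exceptional and central, or has a witness -/
def chkDesc (D : ChevalleyDatum) (m : ℕ) (exc : List ℕ) (W : List (ℕ × ℕ × ℕ)) : Bool :=
  (exc.all fun r => centralIn D m r) &&
    ((List.range D.nroots).all fun r => Nat.blt r (half D) || exc.contains r || W.any fun q => Nat.beq q.1 r) &&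
    W.all fun q => chkLead D m q.1 q.2.1 q.2.2

theorem keyInj_spec {D : ChevalleyDatum} {X : Aux} (h : chkKeyInj D X = true) {r s : ℕ} (hr : half D ≤ r)
    (hr' : r < D.nroots) (hs : half D ≤ s) (hs' : s < D.nroots)
    (e : ∀ j, j < D.rank → X.coef j r = X.coef j s) : r = s := by
  simp only [chkKeyInj, List.all_eq_true, List.mem_range, Bool.or_eq_true, nat_blt_iff, List.any_eq_true,
    Bool.not_eq_true', decide_eq_false_iff_not] at h
  rcases lt_trichotomy r s with hlt | rfl | hlt
  · obtain ⟨j, hj, hne⟩ := (((h s hs').resolve_left (by omega)) r hlt).resolve_left (by omega)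
    exact absurd (e j hj).symm hne
  · rfl
  · obtain ⟨j, hj, hne⟩ := (((h r hr').resolve_left (by omega)) s hlt).resolve_left (by omega)
    exact absurd (e j hj) hne

variable {D : ChevalleyDatum} {X : Aux} (C : Cert D X) {k : Type*} [Field k]

/-- the commutator with `x_b(1)` -/
def Phi (b : ℕ) (z : ↥(D.group k)) : ↥(D.group k) := xG C k b 1 * z * (xG C k b 1)⁻¹ * z⁻¹

include C

theorem ht_pos {r : Fin D.nroots} (hr : half D ≤ (r : ℕ)) : 1 ≤ ht D X r := by
  obtain ⟨a, ha, b, hb, hg⟩ := C.cor_primitive r.2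
  obtain ⟨j, hj⟩ : ∃ j : Fin D.rank, X.coef j (r : ℕ) ≠ 0 := by
    by_contra hcon
    push_neg at hcon
    rw [(C.coef_zero_iff r.2 ha).1 (hcon ⟨a, ha⟩), (C.coef_zero_iff r.2 hb).1 (hcon ⟨b, hb⟩)] at hg
    simp at hg
  have h0 : ∀ i : Fin D.rank, 0 ≤ X.coef i (r : ℕ) := fun i => C.coef_nonneg r.2 i.2 hr
  show 1 ≤ ∑ i : Fin D.rank, (1 : ℤ) * X.coef i (r : ℕ)
  simp only [one_mul]
  have := Finset.single_le_sum (f := fun i : Fin D.rank => X.coef i (r : ℕ)) (fun i _ => h0 i) (Finset.mem_univ j)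
  have := h0 j
  omega

theorem hgt_neg_one {r : Fin D.nroots} :
    hgt D X (fun _ => 1) (D.neg r) = - hgt D X (fun _ => 1) (r : ℕ) := by
  simp only [hgt, one_mul, ← Finset.sum_neg_distrib]
  exact Finset.sum_congr rfl fun i _ => C.coef_neg r.2 i.2

theorem pos_of_ht {r : Fin D.nroots} (h : 1 ≤ ht D X r) : half D ≤ (r : ℕ) := by
  by_contra hc
  have hlt := C.neg_lt r.2
  have h1 := ht_pos C (r := ⟨D.neg r, hlt⟩) ((C.half_le_neg_iff r.2).2 (by omega))
  have h2 := hgt_neg_one C (r := r)
  change 1 ≤ hgt D X (fun _ => 1) (D.neg r) at h1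
  change 1 ≤ hgt D X (fun _ => 1) (r : ℕ) at h
  omega

theorem RS_eq_UP : (rawG C).RS (hS D X 1) = (chevRel C k).UP := by
  refine le_antisymm ((rawG C).RS_le fun r hr t => ?_) ((chevRel C k).US_le fun r hr t => ?_)
  · exact (chevRel C k).xe_mem_US (S := posSet D) (pos_of_ht C hr) t
  · exact (rawG C).xe_mem_RS (S := hS D X 1) (ht_pos C hr) t

theorem RS_le_UP {m : ℤ} (hm : 1 ≤ m) : (rawG C).RS (hS D X m) ≤ (chevRel C k).UP :=
  (RS_eq_UP (k := k) C) ▸ (rawG (F := k) C).RS_mono fun _ (hr : m ≤ _) => le_trans hm hr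

theorem UP_le_normalizer_hS {m : ℤ} (hm : 2 ≤ m) :
    (chevRel C k).UP ≤ Subgroup.normalizer ((rawG (F := k) C).RS (hS D X m) : Set ↥(D.group k)) := by
  refine (chevRel C k).US_le fun s hs t => ?_
  have h := (rawG (F := k) C).xe_mem_normalizer_level (fun _ => 1) (m := m - 1) (by omega)
    (A := (∅ : Set (Fin D.nroots))) (fun r hr => hr.elim) (s := s) (ht_pos C hs) t
  rw [Set.union_empty, sub_add_cancel] at h
  exact h

/-- commutators raise the level -/
theorem comm_mem {m : ℤ} (hm : 1 ≤ m) {z x : ↥(D.group k)} (hz : z ∈ (rawG C).RS (hS D X m))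
    (hx : x ∈ (chevRel C k).UP) : x * z * x⁻¹ * z⁻¹ ∈ (rawG C).RS (hS D X (m + 1)) := by
  have hN := UP_le_normalizer_hS C (k := k) (m := m + 1) (by omega)
  have conj : ∀ a ∈ (chevRel C k).UP, ∀ b ∈ (rawG C).RS (hS D X (m + 1)),
      a * b * a⁻¹ ∈ (rawG C).RS (hS D X (m + 1)) := fun a ha b hb =>
    (Subgroup.mem_normalizer_iff.1 (hN ha) b).1 hb
  have gen : ∀ r : Fin D.nroots, m ≤ ht D X r → ∀ s : Fin D.nroots, half D ≤ (s : ℕ) → ∀ t u : k,
      xG C k s u * xG C k r t * (xG C k s u)⁻¹ * (xG C k r t)⁻¹ ∈ (rawG C).RS (hS D X (m + 1)) := by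
    intro r hr s hs t u
    by_cases hrs : s = r
    · subst hrs
      show (chevRel C k).xe s u * (chevRel C k).xe s t * _ * _ ∈ _
      rw [(chevRel C k).xe_add', add_comm u t, ← (chevRel C k).xe_add']
      convert one_mem ((rawG (F := k) C).RS (hS D X (m + 1))) using 1
      exact mul_inv_eq_one.2 (mul_inv_cancel_right _ _)
    · have hsh := ht_pos C hs
      have hneg : (s : ℕ) ≠ D.neg r := fun e => by
        have h2 := (rawG (F := k) C).hgt_neg (fun _ => 1) r.2
        change 1 ≤ hgt D X (fun _ => 1) (s : ℕ) at hsh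
        change m ≤ hgt D X (fun _ => 1) (r : ℕ) at hr
        rw [e] at hsh; omega
      have h := (rawG (F := k) C).comm_word_mem hrs hneg (T := hS D X (m + 1)) (fun c hc hlt => ?_) (-t) (-u)
      · have h' := inv_mem h
        change (((chevRel C k).xe r (-t))⁻¹ * (((chevRel C k).xe s (-u))⁻¹ * (chevRel C k).xe r (-t) *
          (chevRel C k).xe s (-u)))⁻¹ ∈ _ at h'
        rw [(chevRel C k).xe_neg, (chevRel C k).xe_neg] at h'
        convert h' using 1
        show (chevRel C k).xe s u * (chevRel C k).xe r t * ((chevRel C k).xe s u)⁻¹ * ((chevRel C k).xe r t)⁻¹ = _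
        group
      · show m + 1 ≤ ht D X c.1
        obtain ⟨_, h1, h2, _, _⟩ := C.commTerms_props r.2 s.2 c hc
        rw [show ht D X c.1 = _ from (rawG (F := k) C).hgt_comm (fun _ => 1) hc]
        nlinarith [show (1 : ℤ) ≤ c.2.2.1 by exact_mod_cast h1, show (1 : ℤ) ≤ c.2.2.2 by exact_mod_cast h2]
  induction hx using Subgroup.closure_induction with
  | one => simp
  | mem x hx =>
    obtain ⟨s, hs, u, rfl⟩ := hx
    induction hz using Subgroup.closure_induction with
    | one => simp
    | mem z hz =>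
      obtain ⟨r, hr, t, rfl⟩ := hz
      exact gen r hr s hs t u
    | mul z w hzm hwm ihz ihw =>
      have := mul_mem ihz (conj z (RS_le_UP C hm hzm) _ ihw)
      convert this using 1; group
    | inv z hzm ihz =>
      have := conj z⁻¹ (inv_mem (RS_le_UP C hm hzm)) _ (inv_mem ihz)
      convert this using 1; group
  | mul x y hxm hym ihx ihy =>
    have := mul_mem (conj x hxm _ ihy) ihx
    convert this using 1; group
  | inv x hxm ihx =>
    have := conj x⁻¹ (inv_mem hxm) _ (inv_mem ihx)
    convert this using 1; group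

theorem hasCoef_zero_succ {m : ℤ} (hm : 1 ≤ m) {S : Set (Fin D.nroots)} (hsub : S ⊆ hS D X m)
    {v : ↥(D.group k)} (hv : v ∈ (rawG C).RS S) {r : Fin D.nroots} (hr : ht D X r = m) (hrS : r ∉ S) :
    HasCoef C v r 0 := fun a => by
  rw [mul_zero]
  exact ((rawG C).isGr_mem (fun _ => 1) hm hsub hv).2 r hrS hr a

theorem exists_hasCoef {m : ℤ} (hm : 1 ≤ m) {v : ↥(D.group k)} (hv : v ∈ (rawG C).RS (hS D X m))
    {r : Fin D.nroots} (hr : ht D X r = m) : ∃ t, HasCoef C v r t := by
  refine (closure_induction_symm (p := fun y => y ∈ (rawG C).RS (hS D X m) ∧ ∃ t, HasCoef C y r t)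
    (rawG C).gens_symm ⟨one_mem _, 0, hasCoef_one C r⟩ ?_ hv).2
  rintro _ ⟨s, hs, u, rfl⟩ y ⟨hy, t, ht'⟩
  exact ⟨mul_mem ((rawG C).xe_mem_RS hs u) hy, _,
    hasCoef_mul C hm ((rawG C).xe_mem_RS hs u) hy hr (hasCoef_xe C s r u) ht'⟩

variable {mo : ℕ} (hmo : ModeOK k mo) (hkey : chkKeyInj D X = true)
include hkey hmo

/-- the coefficient at `u` of the commutator is a multiple of the coefficient at `r` -/
theorem exists_coef_Phi {m : ℤ} (hm : 1 ≤ m) {r b u : Fin D.nroots} (hr : ht D X r = m)
    (hchk : chkLead D mo r b u = true) :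
    ∃ c : ℤ, (c : k) ≠ 0 ∧ ht D X u = m + ht D X b ∧ ∀ z ∈ (rawG C).RS (hS D X m), ∀ t,
      HasCoef C z r t → HasCoef C (Phi C (b : ℕ) z) u ((c : k) * t) := by
  simp only [chkLead, Bool.and_eq_true, List.all_eq_true, nat_blt_iff, nat_ble_iff, nat_beq_iff, Bool.or_eq_true,
    Bool.not_eq_true', Bool.eq_false_iff, ne_eq] at hchk
  obtain ⟨⟨⟨⟨⟨-, hb⟩, hbr⟩, -⟩, hterms⟩, hone⟩ := hchk
  obtain ⟨e, he⟩ := List.length_eq_one_iff.1 hone
  have hemem : e ∈ D.commTerms r b ∧ e.1 = u := by
    have h1 : e ∈ (D.commTerms r b).filter fun c => Nat.beq c.1 u := he ▸ List.mem_singleton_self e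
    rw [List.mem_filter, nat_beq_iff] at h1
    exact h1
  obtain ⟨⟨hunit, hi⟩, hj⟩ := (hterms e hemem.1).resolve_left fun h => h hemem.2
  have hbh := ht_pos C (r := b) hb
  have hrp := pos_of_ht C (r := r) (hr ▸ hm)
  have hcoefu : ∀ j, j < D.rank → X.coef j (u : ℕ) = X.coef j (r : ℕ) + X.coef j (b : ℕ) := fun j hj' => by
    have h5 := (C.commTerms_props r.2 b.2 e hemem.1).2.2.2.2 j hj'
    rw [hemem.2, hi, hj] at h5
    rw [h5]; ring
  have hu : ht D X u = m + ht D X b := by
    rw [← hr]
    show (∑ i : Fin D.rank, (1 : ℤ) * X.coef i (u : ℕ)) = (∑ i : Fin D.rank, (1 : ℤ) * X.coef i (r : ℕ)) +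
      ∑ i : Fin D.rank, (1 : ℤ) * X.coef i (b : ℕ)
    rw [← Finset.sum_add_distrib]
    exact Finset.sum_congr rfl fun i _ => by rw [hcoefu i i.2]; ring
  refine ⟨-e.2.1, by rw [Int.cast_neg, neg_ne_zero]; exact hmo.2 _ hunit, hu, fun z hz => ?_⟩
  have hm' : 1 ≤ m + ht D X b := by omega
  -- the commutators lie at the level of `u`
  have hgb : xG C k (b : ℕ) 1 ∈ (chevRel C k).UP := (chevRel C k).xe_mem_US (S := posSet D) hb 1
  have gen : ∀ s : Fin D.nroots, m ≤ ht D X s → ∀ v : k,
      Phi C (b : ℕ) (xG C k (s : ℕ) v) ∈ (rawG C).RS (hS D X (m + ht D X b)) ∧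
      HasCoef C (Phi C (b : ℕ) (xG C k (s : ℕ) v)) u (((-e.2.1 : ℤ) : k) * if s = r then v else 0) := by
    intro s hs v
    by_cases hsb : b = s
    · subst hsb
      have : Phi C (b : ℕ) (xG C k (b : ℕ) v) = 1 := by
        show (chevRel C k).xe b 1 * (chevRel C k).xe b v * ((chevRel C k).xe b 1)⁻¹ * ((chevRel C k).xe b v)⁻¹ = 1
        rw [(chevRel C k).xe_add', add_comm (1 : k) v, ← (chevRel C k).xe_add', mul_inv_cancel_right, mul_inv_cancel]
      rw [this, if_neg (fun h => hbr (congrArg Fin.val h)), mul_zero]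
      exact ⟨one_mem _, hasCoef_one C u⟩
    · have hsp := pos_of_ht C (r := s) (le_trans hm hs)
      have hneg : (b : ℕ) ≠ D.neg s := fun h => by
        have := (C.neg_lt_half_iff s.2).2 hsp
        omega
      have hW := (chevRel C k).xe_comm s b (-v) (-1) s.2 b.2 (fun h => hsb (Fin.ext h)) hneg
      have hPhi : Phi C (b : ℕ) (xG C k (s : ℕ) v) =
          ((D.commWord k s b (-v) (-1)).map fun q => (chevRel C k).xe q.1 q.2).prod := by
        show (chevRel C k).xe b 1 * (chevRel C k).xe s v * ((chevRel C k).xe b 1)⁻¹ * ((chevRel C k).xe s v)⁻¹ = _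
        have h1 : (chevRel C k).xe s (-v) = ((chevRel C k).xe s v)⁻¹ := (chevRel C k).xe_neg _ _
        have h2 : (chevRel C k).xe b (-1 : k) = ((chevRel C k).xe b 1)⁻¹ := (chevRel C k).xe_neg _ _
        rw [h1, h2] at hW
        have h3 := congrArg (fun x => (chevRel C k).xe b 1 * (chevRel C k).xe s v * x) hW
        simp only [mul_assoc, mul_inv_cancel_left] at h3 ⊢
        exact h3
      rw [hPhi]
      have key : ∀ l : List (ℕ × ℤ × ℕ × ℕ), l.Sublist (D.commTerms s b) →
          (((l.map fun c => (c.1, (c.2.1 : k) * (- -v) ^ c.2.2.1 * (-1) ^ c.2.2.2)).map fun q =>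
            (chevRel C k).xe q.1 q.2).prod ∈ (rawG C).RS (hS D X (m + ht D X b)) ∧
          HasCoef C (((l.map fun c => (c.1, (c.2.1 : k) * (- -v) ^ c.2.2.1 * (-1) ^ c.2.2.2)).map fun q =>
            (chevRel C k).xe q.1 q.2).prod) u
            (l.map fun c => if c.1 = (u : ℕ) then (c.2.1 : k) * (- -v) ^ c.2.2.1 * (-1) ^ c.2.2.2 else 0).sum) := by
        intro l
        induction l with
        | nil => exact fun _ => ⟨one_mem _, hasCoef_one C u⟩
        | cons c l ih =>
          intro hsub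
          obtain ⟨ih1, ih2⟩ := ih ((List.sublist_cons_self c l).trans hsub)
          obtain ⟨hlt, hc1, hc2, -, -⟩ := C.commTerms_props s.2 b.2 c (hsub.subset List.mem_cons_self)
          have hlev : (⟨c.1, hlt⟩ : Fin D.nroots) ∈ hS D X (m + ht D X b) := by
            show m + ht D X b ≤ ht D X c.1
            rw [show ht D X c.1 = _ from (rawG (F := k) C).hgt_comm (fun _ => 1) (hsub.subset List.mem_cons_self)]
            have : m ≤ hgt D X (fun _ => 1) (s : ℕ) := hs
            have : (1 : ℤ) ≤ hgt D X (fun _ => 1) (b : ℕ) := hbh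
            nlinarith [show (1 : ℤ) ≤ c.2.2.1 by exact_mod_cast hc1, show (1 : ℤ) ≤ c.2.2.2 by exact_mod_cast hc2]
          have hx := (rawG (F := k) C).xe_mem_RS hlev ((c.2.1 : k) * (- -v) ^ c.2.2.1 * (-1) ^ c.2.2.2)
          simp only [List.map_cons, List.prod_cons, List.sum_cons]
          refine ⟨mul_mem hx ih1, ?_⟩
          have h := hasCoef_mul C hm' hx ih1 (r := u) hu (hasCoef_xe C ⟨c.1, hlt⟩ u _) ih2
          simp only [Fin.ext_iff] at h
          exact h
      obtain ⟨hk1, hk2⟩ := key _ (List.Sublist.refl _)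
      refine ⟨hk1, ?_⟩
      have hval : ((D.commTerms s b).map fun c =>
          if c.1 = (u : ℕ) then (c.2.1 : k) * (- -v) ^ c.2.2.1 * (-1) ^ c.2.2.2 else 0).sum =
          ((-e.2.1 : ℤ) : k) * if s = r then v else 0 := by
        by_cases hsr : s = r
        · subst hsr
          rw [if_pos rfl]
          have : ((D.commTerms s b).map fun c =>
              if c.1 = (u : ℕ) then (c.2.1 : k) * (- -v) ^ c.2.2.1 * (-1) ^ c.2.2.2 else 0).sum =
              (((D.commTerms s b).filter fun c => Nat.beq c.1 u).map fun c =>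
                (c.2.1 : k) * (- -v) ^ c.2.2.1 * (-1) ^ c.2.2.2).sum := by
            rw [list_sum_filter]
            refine congrArg _ (List.map_congr_left fun c _ => ?_)
            by_cases h : c.1 = u
            · rw [if_pos h, nat_beq_iff.2 h, cond_true]
            · rw [if_neg h, show Nat.beq c.1 u = false from Bool.eq_false_iff.2 fun e => h (nat_beq_iff.1 e),
                cond_false]
          rw [this, he, List.map_cons, List.map_nil, List.sum_cons, List.sum_nil, add_zero, hi, hj, pow_one, pow_one]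
          push_cast; ring
        · rw [if_neg hsr, mul_zero]
          refine list_sum_eq_zero fun c hc => if_neg fun hcu => hsr ?_
          obtain ⟨hlt, hc1, hc2, -, h5⟩ := C.commTerms_props s.2 b.2 c hc
          have hhc := (rawG (F := k) C).hgt_comm (fun _ => 1) hc
          rw [hcu, show hgt D X (fun _ => 1) (u : ℕ) = m + ht D X b from hu] at hhc
          have hs' : m ≤ hgt D X (fun _ => 1) (s : ℕ) := hs
          have hb' : (1 : ℤ) ≤ hgt D X (fun _ => 1) (b : ℕ) := hbh
          change m + hgt D X (fun _ => 1) (b : ℕ) = _ at hhc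
          have e1 : c.2.2.1 = 1 := by
            by_contra hne
            nlinarith [show (2 : ℤ) ≤ c.2.2.1 by exact_mod_cast (show 2 ≤ c.2.2.1 by omega),
              show (1 : ℤ) ≤ c.2.2.2 by exact_mod_cast hc2]
          have e2 : c.2.2.2 = 1 := by
            by_contra hne
            nlinarith [show (1 : ℤ) ≤ c.2.2.1 by exact_mod_cast hc1,
              show (2 : ℤ) ≤ c.2.2.2 by exact_mod_cast (show 2 ≤ c.2.2.2 by omega)]
          refine Fin.ext (keyInj_spec hkey hsp s.2 hrp r.2 fun j hj' => ?_)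
          have h6 := h5 j hj'
          rw [hcu, hcoefu j hj', e1, e2] at h6
          push_cast at h6
          linarith
      rw [← hval]
      exact hk2
  suffices h : z ∈ (rawG C).RS (hS D X m) ∧ Phi C (b : ℕ) z ∈ (rawG C).RS (hS D X (m + ht D X b)) ∧
      ∃ t, HasCoef C z r t ∧ HasCoef C (Phi C (b : ℕ) z) u (((-e.2.1 : ℤ) : k) * t) by
    obtain ⟨-, -, t', h1, h2⟩ := h
    intro t ht'
    rw [hasCoef_unique C ht' h1]; exact h2
  refine closure_induction_symm (rawG C).gens_symm ?_ ?_ hz
  · have : Phi C (b : ℕ) (1 : ↥(D.group k)) = 1 := by simp [Phi]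
    rw [this]
    exact ⟨one_mem _, one_mem _, 0, hasCoef_one C r, by rw [mul_zero]; exact hasCoef_one C u⟩
  · rintro _ ⟨s, hs, v, rfl⟩ y ⟨hy, hPy, t, hty, htu⟩
    have hxs := (rawG (F := k) C).xe_mem_RS hs v
    obtain ⟨hg1, hg2⟩ := gen s hs v
    have hsp := RS_le_UP C hm hxs
    have hc := comm_mem C hm' hPy hsp
    have hlev : (rawG (F := k) C).RS (hS D X (m + ht D X b + 1)) ≤ (rawG C).RS (hS D X (m + ht D X b)) :=
      (rawG C).RS_mono fun x (hx : _ ≤ ht D X x) => show _ ≤ ht D X x by omega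
    have eqn : Phi C (b : ℕ) ((rawG C).xe s v * y) =
        Phi C (b : ℕ) (xG C k s v) * (((rawG C).xe s v * Phi C (b : ℕ) y * ((rawG C).xe s v)⁻¹ *
          (Phi C (b : ℕ) y)⁻¹) * Phi C (b : ℕ) y) := by
      simp only [Phi]
      show _ = xG C k (b : ℕ) 1 * (rawG C).xe s v * (xG C k (b : ℕ) 1)⁻¹ * ((rawG C).xe s v)⁻¹ * _
      group
    refine ⟨mul_mem hxs hy, ?_, _, hasCoef_mul C hm hxs hy hr (hasCoef_xe C s r v) hty, ?_⟩
    · rw [eqn]; exact mul_mem hg1 (mul_mem (hlev hc) hPy)
    · rw [eqn, mul_add]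
      refine hasCoef_mul C hm' hg1 (mul_mem (hlev hc) hPy) hu hg2 ?_
      have h0 : HasCoef C _ u (0 : k) := hasCoef_zero_succ C hm' (S := hS D X (m + ht D X b + 1))
        (fun x (hx : _ ≤ ht D X x) => show _ ≤ ht D X x by omega) hc hu
        (fun (h : m + ht D X b + 1 ≤ ht D X u) => by omega)
      have := hasCoef_mul C hm' (hlev hc) hPy hu h0 htu
      rwa [zero_add] at this

variable {exc : List ℕ} {W : List (ℕ × ℕ × ℕ)} (hchk : chkDesc D mo exc W = true) (σ : k →+* k)
include hchk

omit hkey in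
theorem exc_central {r : ℕ} (hr : r ∈ exc) (t : k) {x : ↥(D.group k)} (hx : x ∈ (chevRel C k).UP) :
    (chevRel C k).xe r t * x = x * (chevRel C k).xe r t := by
  simp only [chkDesc, Bool.and_eq_true, List.all_eq_true] at hchk
  have h := hchk.1.1 r hr
  simp only [centralIn, Bool.and_eq_true, List.all_eq_true, List.mem_range, Bool.or_eq_true, nat_blt_iff,
    nat_ble_iff, nat_beq_iff] at h
  obtain ⟨⟨hr', hpos⟩, hall⟩ := h
  induction hx using Subgroup.closure_induction with
  | one => simp
  | mem x hx =>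
    obtain ⟨b, hb, u, rfl⟩ := hx
    by_cases hbr : (b : ℕ) = r
    · rw [hbr, (chevRel C k).xe_add', (chevRel C k).xe_add', add_comm]
    · have hneg : (b : ℕ) ≠ D.neg r := fun e => by
        have := (C.neg_lt_half_iff hr').2 hpos
        have : half D ≤ (b : ℕ) := hb
        omega
      have hW := (chevRel C k).xe_comm r b t u hr' b.2 hbr hneg
      rw [hW]
      symm
      refine mul_eq_left.2 (List.prod_eq_one fun y hy => ?_)
      simp only [ChevalleyDatum.commWord, List.map_map, List.mem_map, Function.comp_apply] at hy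
      obtain ⟨c, hc, rfl⟩ := hy
      have hz := ((hall b b.2).resolve_left (fun h => h.elim (fun h1 => absurd hb (not_le.2 h1)) hbr)) c hc
      rw [hmo.1 _ hz, zero_mul, zero_mul, (chevRel C k).xe_zero]
  | mul x y _ _ ihx ihy => rw [← mul_assoc, ihx, mul_assoc, ihy, mul_assoc]
  | inv x _ ih => rw [eq_inv_mul_iff_mul_eq, ← mul_assoc, ← ih, mul_inv_cancel_right]

omit hkey in
theorem US_exc_central {e x : ↥(D.group k)} (he : e ∈ (chevRel C k).US {r | (r : ℕ) ∈ exc})
    (hx : x ∈ (chevRel C k).UP) : e * x = x * e := by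
  induction he using Subgroup.closure_induction with
  | one => simp
  | mem y hy => obtain ⟨r, hr, t, rfl⟩ := hy; exact exc_central C hmo hchk hr t hx
  | mul a b _ _ iha ihb => rw [mul_assoc, ihb, ← mul_assoc, iha, mul_assoc]
  | inv a _ ih => rw [inv_mul_eq_iff_eq_mul, ← mul_assoc, ih, mul_inv_cancel_right]

omit hkey in
theorem US_exc_le_UP : (chevRel C k).US {r : Fin D.nroots | (r : ℕ) ∈ exc} ≤ (chevRel C k).UP := by
  refine (chevRel C k).US_le fun r hr t => (chevRel C k).xe_mem_US (S := posSet D) ?_ t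
  simp only [chkDesc, Bool.and_eq_true, List.all_eq_true] at hchk
  have h := hchk.1.1 r hr
  simp only [centralIn, Bool.and_eq_true, nat_ble_iff] at h
  exact h.1.2

/-- an element whose commutators with the `x_b(1)` are fixed is exceptional times fixed -/
theorem exists_split : ∀ (n : ℕ) (m : ℤ), 1 ≤ m → (∀ r : Fin D.nroots, ht D X r < m + n) →
    ∀ z ∈ (rawG C).RS (hS D X m),
      (∀ b : Fin D.nroots, half D ≤ (b : ℕ) → Phi C (b : ℕ) (sg D σ z) = Phi C (b : ℕ) z) →
      ∃ e ∈ (chevRel C k).US {r | (r : ℕ) ∈ exc}, ∃ f ∈ (chevRel C k).UP, f ∈ rat D σ ∧ z = e * f := by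
  intro n
  induction n with
  | zero =>
    intro m _ hbound z hz _
    have : (rawG (F := k) C).RS (hS D X m) ≤ ⊥ :=
      (rawG C).RS_le fun r (hr : m ≤ ht D X r) t => absurd (hbound r) (by push_cast; omega)
    exact ⟨1, one_mem _, 1, one_mem _, one_mem _, by rw [mul_one]; simpa using this hz⟩
  | succ n ih =>
    intro m hm hbound
    classical
    suffices h : ∀ A : Finset (Fin D.nroots), (∀ r ∈ A, ht D X r = m) →
        ∀ z ∈ (rawG C).RS (hS D X (m + 1) ∪ ↑A),
          (∀ b : Fin D.nroots, half D ≤ (b : ℕ) → Phi C (b : ℕ) (sg D σ z) = Phi C (b : ℕ) z) →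
          ∃ e ∈ (chevRel C k).US {r | (r : ℕ) ∈ exc}, ∃ f ∈ (chevRel C k).UP, f ∈ rat D σ ∧ z = e * f by
      intro z hz hc
      refine h (Finset.univ.filter fun r => ht D X r = m) (fun r hr => (Finset.mem_filter.1 hr).2) z
        ((rawG C).RS_mono (fun r (hr : m ≤ ht D X r) => ?_) hz) hc
      rcases hr.lt_or_eq with h' | h'
      · exact Or.inl (show m + 1 ≤ ht D X r by omega)
      · exact Or.inr (by simp [h'])
    intro A
    induction A using Finset.induction_on with
    | empty =>
      intro _ z hz hc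
      rw [Finset.coe_empty, Set.union_empty] at hz
      exact ih (m + 1) (by omega) (fun r => by have := hbound r; push_cast at this; omega) z hz hc
    | insert r A hrA ihA =>
      intro hA z hz hc
      have hA' : ∀ s ∈ A, ht D X s = m := fun s hs => hA s (Finset.mem_insert_of_mem hs)
      have hr := hA r (Finset.mem_insert_self r A)
      rw [Finset.coe_insert] at hz
      obtain ⟨t, w, hw, rfl⟩ := (rawG C).exists_level_split (fun _ => 1) hm (A := ↑A) hA' hr hz
      have hsub : hS D X (m + 1) ∪ ↑A ⊆ hS D X m := by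
        rintro s (h | h)
        · have : m + 1 ≤ ht D X s := h
          show m ≤ ht D X s; omega
        · exact (hA' s h).ge
      have hwU : w ∈ (chevRel C k).UP := RS_le_UP C hm ((rawG C).RS_mono hsub hw)
      have hrp := pos_of_ht C (r := r) (hr ▸ hm)
      have hnot : r ∉ hS D X (m + 1) ∪ ↑A := by
        rintro (h | h)
        · have : m + 1 ≤ ht D X r := h
          omega
        · exact hrA h
      have hPhimul : ∀ (b : ℕ) (x y : ↥(D.group k)), Phi C b (x * y) = Phi C b x * (x * Phi C b y * x⁻¹) :=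
        fun b x y => by simp only [Phi]; group
      by_cases hexc : (r : ℕ) ∈ exc
      · have he : ∀ v, (chevRel C k).xe r v ∈ (chevRel C k).US {r | (r : ℕ) ∈ exc} := fun v =>
          (chevRel C k).xe_mem_US hexc v
        have hPe : ∀ b : Fin D.nroots, half D ≤ (b : ℕ) → ∀ v, Phi C (b : ℕ) ((chevRel C k).xe r v) = 1 :=
          fun b hb v => by
            show (chevRel C k).xe b 1 * (chevRel C k).xe r v * ((chevRel C k).xe b 1)⁻¹ * ((chevRel C k).xe r v)⁻¹ = 1
            rw [← exc_central C hmo hchk hexc v ((chevRel C k).xe_mem_US (S := posSet D) hb 1),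
              mul_inv_cancel_right, mul_inv_cancel]
        obtain ⟨e, hem, f, hfU, hf, rfl⟩ := ihA hA' w hw fun b hb => by
          have h := hc b hb
          change Phi C (b : ℕ) (sg D σ ((chevRel C k).xe r t * w)) =
            Phi C (b : ℕ) ((chevRel C k).xe r t * w) at h
          rw [map_mul, sg_xe C, hPhimul, hPhimul, hPe b hb, hPe b hb, one_mul, one_mul] at h
          have hPU : ∀ y ∈ (chevRel C k).UP, ∀ v, (chevRel C k).xe r v * Phi C (b : ℕ) y *
              ((chevRel C k).xe r v)⁻¹ = Phi C (b : ℕ) y := fun y hy v => by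
            rw [exc_central C hmo hchk hexc v, mul_inv_cancel_right]
            exact mul_mem (mul_mem (mul_mem ((chevRel C k).xe_mem_US (S := posSet D) hb 1) hy)
              (inv_mem ((chevRel C k).xe_mem_US (S := posSet D) hb 1))) (inv_mem hy)
          rwa [hPU _ (sg_mem_UP C σ hwU), hPU _ hwU] at h
        exact ⟨(chevRel C k).xe r t * e, mul_mem (he t) hem, f, hfU, hf, (mul_assoc _ _ _).symm⟩
      · have hc' := hchk
        simp only [chkDesc, Bool.and_eq_true, List.all_eq_true, List.mem_range, Bool.or_eq_true, nat_blt_iff,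
          List.contains_iff_mem, List.any_eq_true, nat_beq_iff] at hc'
        obtain ⟨⟨-, hcov⟩, hW⟩ := hc'
        obtain ⟨⟨r', b', u'⟩, hq, hq'⟩ :=
          (hcov r r.2).resolve_left fun h => h.elim (fun h1 => absurd hrp (not_le.2 h1)) hexc
        have hl := hW _ hq
        change r' = (r : ℕ) at hq'
        subst hq'
        have hl' := hl
        simp only [chkLead, Bool.and_eq_true, nat_blt_iff, nat_ble_iff] at hl'
        obtain ⟨⟨⟨⟨⟨hb, hbp⟩, -⟩, hu⟩, -⟩, -⟩ := hl'
        obtain ⟨c, hc0, hu', hcoef⟩ := exists_coef_Phi C hmo hkey hm (r := r) (b := ⟨b', hb⟩) (u := ⟨u', hu⟩) hr hl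
        have hxm := (rawG (F := k) C).xe_mem_RS (S := hS D X m) (r := r) (le_of_eq hr.symm) t
        have hwm := (rawG C).RS_mono hsub hw
        have hzt : HasCoef C ((rawG C).xe r t * w) r t := by
          have := hasCoef_mul C hm hxm hwm hr (hasCoef_xe C r r t) (hasCoef_zero_succ C hm hsub hw hr hnot)
          rwa [if_pos rfl, add_zero] at this
        have hσz : HasCoef C (sg D σ ((rawG C).xe r t * w)) r (σ t) := fun a => by
          rw [sg_val, Matrix.map_apply, hzt a, map_mul, map_intCast]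
        have hσm : sg D σ ((rawG C).xe r t * w) ∈ (rawG C).RS (hS D X m) := by
          suffices h : (rawG (F := k) C).RS (hS D X m) ≤ Subgroup.comap (sg D σ) ((rawG C).RS (hS D X m)) from
            h (mul_mem hxm hwm)
          refine (rawG C).RS_le fun s hs v => ?_
          show sg D σ ((chevRel C k).xe s v) ∈ (rawG C).RS (hS D X m)
          rw [sg_xe C]
          exact (rawG C).xe_mem_RS hs _
        have h1 := hcoef _ (mul_mem hxm hwm) t hzt
        have h2 := hcoef _ hσm _ hσz
        rw [hc ⟨b', hb⟩ hbp] at h2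
        have htfix : σ t = t := mul_left_cancel₀ hc0 (hasCoef_unique C h2 h1)
        have hx : sg D σ ((chevRel C k).xe r t) = (chevRel C k).xe r t := by rw [sg_xe C, htfix]
        obtain ⟨e, hem, f, hfU, hf, rfl⟩ := ihA hA' w hw fun b hb' => by
          have h := hc b hb'
          change Phi C (b : ℕ) (sg D σ ((chevRel C k).xe r t * w)) =
            Phi C (b : ℕ) ((chevRel C k).xe r t * w) at h
          rw [map_mul, hx, hPhimul, hPhimul] at h
          exact mul_left_cancel (mul_right_cancel (mul_left_cancel h))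
        have hxU : (chevRel C k).xe r t ∈ (chevRel C k).UP := (chevRel C k).xe_mem_US (S := posSet D) hrp t
        exact ⟨e, hem, (chevRel C k).xe r t * f, mul_mem hxU hfU, mul_mem (show _ ∈ rat D σ from hx) hf, by
          show (chevRel C k).xe r t * (e * f) = _
          rw [← mul_assoc, ← US_exc_central C hmo hchk hem hxU, mul_assoc]⟩

/-- all elements of `H ∩ U` are fixed, once the exceptional ones are -/
theorem inf_UP_le_rat {H : Subgroup ↥(D.group k)}
    (hL : ∀ (r : ℕ) (t : k), r < D.nroots → σ t = t → (chevRel C k).xe r t ∈ H)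
    (hexc : ∀ e ∈ H, e ∈ (chevRel C k).US {r | (r : ℕ) ∈ exc} → e ∈ rat D σ) :
    H ⊓ (chevRel C k).UP ≤ rat D σ := by
  obtain ⟨N, hN⟩ : ∃ N : ℕ, ∀ r : Fin D.nroots, ht D X r < 1 + (N : ℤ) :=
    ⟨∑ r : Fin D.nroots, (ht D X r).natAbs, fun r => by
      have := Finset.single_le_sum (f := fun r : Fin D.nroots => (ht D X r).natAbs) (fun _ _ => Nat.zero_le _)
        (Finset.mem_univ r)
      omega⟩
  have key : ∀ (n : ℕ) (m : ℤ), 1 ≤ m → (∀ r : Fin D.nroots, ht D X r < m + n) →
      ∀ z ∈ H, z ∈ (rawG C).RS (hS D X m) → z ∈ rat D σ := by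
    intro n
    induction n with
    | zero =>
      intro m _ hb z _ hz
      have : (rawG (F := k) C).RS (hS D X m) ≤ ⊥ :=
        (rawG C).RS_le fun r (hr : m ≤ ht D X r) t => absurd (hb r) (by push_cast; omega)
      rw [show z = 1 by simpa using this hz]
      exact one_mem _
    | succ n ih =>
      intro m hm hb z hzH hz
      obtain ⟨e, he, f, hfU, hf, rfl⟩ := exists_split C hmo hkey hchk σ (n + 1) m hm hb z hz fun b hbp => by
        have hgU := (chevRel C k).xe_mem_US (S := posSet D) (r := b) hbp (1 : k)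
        have hg : sg D σ (xG C k (b : ℕ) 1) = xG C k (b : ℕ) 1 := (sg_xe C σ b 1).trans (by rw [map_one]; rfl)
        have hfix := ih (m + 1) (by omega) (fun r => by have := hb r; push_cast at this; omega) (Phi C (b : ℕ) z)
          (mul_mem (mul_mem (mul_mem (hL b 1 b.2 (map_one σ)) hzH) (inv_mem (hL b 1 b.2 (map_one σ))))
            (inv_mem hzH))
          (comm_mem C hm hz hgU)
        rw [mem_rat, Phi, map_mul, map_mul, map_mul, map_inv, map_inv, hg] at hfix
        exact hfix
      have hfH := mem_of_fixed_UP C hL hfU hf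
      have heH : e ∈ H := by simpa using mul_mem hzH (inv_mem hfH)
      exact mul_mem (hexc e heH he) hf
  rintro z hz
  obtain ⟨hzH, hzU⟩ := Subgroup.mem_inf.1 hz
  exact key N 1 le_rfl hN z hzH (RS_eq_UP (k := k) C ▸ hzU)

end CfsgLib.Known.Overgroup
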