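import Cfsg.Agent.Lib.Known.Overgroup.Checks
import Cfsg.Agent.Lib.Known.ChevFixed
import Cfsg.Agent.Lib.Lie.Rel.Poincare

/-!
# Points fixed by an endomorphism of the field
-/

set_option autoImplicit false

namespace CfsgLib.Known.Overgroup

open Cfsg.Lie (ChevalleyDatum)
open CfsgLib.Lie.Chev
open CfsgLib.Known.ChevFixed
open scoped Matrix

variable {D : ChevalleyDatum} {X : Aux} (C : Cert D X) {k : Type*} [Field k]

/-- the map on the group induced by `σ` -/
def sg (D : ChevalleyDatum) {k : Type*} [Field k] (σ : k →+* k) : ↥(D.group k) →* ↥(D.group k) := groupMap D σ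

/-- the fixed points -/
def rat (D : ChevalleyDatum) {k : Type*} [Field k] (σ : k →+* k) : Subgroup ↥(D.group k) :=
  (sg D σ).eqLocus (MonoidHom.id _)

theorem mem_rat {σ : k →+* k} {g : ↥(D.group k)} : g ∈ rat D σ ↔ sg D σ g = g := Iff.rfl

theorem sg_val (σ : k →+* k) (g : ↥(D.group k)) :
    ((sg D σ g : GL D.Idx k) : Matrix D.Idx D.Idx k) = ((g : GL D.Idx k) : Matrix D.Idx D.Idx k).map σ := rfl

include C

theorem sg_xe (σ : k →+* k) (r : ℕ) (t : k) :
    sg D σ ((chevRel C k).xe r t) = (chevRel C k).xe r (σ t) := groupMap_xe C σ r t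

theorem sg_oprod (σ : k →+* k) (a n : ℕ) (t : ℕ → k) :
    sg D σ ((chevRel C k).oprod a n t) = (chevRel C k).oprod a n fun r => σ (t r) := by
  simp only [Rel.oprod, map_list_prod, List.map_map, Function.comp_def, sg_xe C]

theorem sg_mem_UP (σ : k →+* k) {g : ↥(D.group k)} (hg : g ∈ (chevRel C k).UP) :
    sg D σ g ∈ (chevRel C k).UP := by
  suffices h : (chevRel C k).UP ≤ Subgroup.comap (sg D σ) (chevRel C k).UP from h hg
  refine (chevRel C k).US_le fun r hr t => ?_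
  show sg D σ _ ∈ (chevRel C k).UP
  rw [sg_xe C]
  exact (chevRel C k).xe_mem_US hr _

/-- fixed elements of `U` have fixed parameters -/
theorem exists_fixed_oprod {σ : k →+* k} {g : ↥(D.group k)} (hg : g ∈ (chevRel C k).UP) (hfix : g ∈ rat D σ) :
    ∃ t : ℕ → k, (∀ r, half D ≤ r → r < D.nroots → σ (t r) = t r) ∧
      g = (chevRel C k).oprod (half D) (half D) t := by
  obtain ⟨t, rfl⟩ := (chevRel C k).exists_oprod_UP hg
  rw [mem_rat, sg_oprod C] at hfix
  have hn := C.nroots_eq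
  exact ⟨t, fun r h1 h2 => (chevRel C k).oprod_inj _ _ _ _ le_rfl (by omega)
    (congrArg (chevRel C k).θ hfix) r h1 (by omega), rfl⟩

/-- fixed elements of `U` lie in every subgroup containing the fixed root elements -/
theorem mem_of_fixed_UP {σ : k →+* k} {H : Subgroup ↥(D.group k)}
    (hL : ∀ (r : ℕ) (t : k), r < D.nroots → σ t = t → (chevRel C k).xe r t ∈ H) {g : ↥(D.group k)}
    (hg : g ∈ (chevRel C k).UP) (hfix : g ∈ rat D σ) : g ∈ H := by
  obtain ⟨t, ht, rfl⟩ := exists_fixed_oprod C hg hfix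
  have hn := C.nroots_eq
  refine list_prod_mem fun x hx => ?_
  obtain ⟨r, hr, rfl⟩ := List.mem_map.1 hx
  rw [List.mem_range'_1] at hr
  exact hL r _ (by omega) (ht r hr.1 (by omega))

variable (p : ℕ) [Fact p.Prime] [CharP k p]

/-- the elements of `U` are `p`-elements -/
theorem exists_pow_eq_one {g : ↥(D.group k)} (hg : g ∈ (chevRel C k).UP) : ∃ e : ℕ, g ^ p ^ e = 1 := by
  obtain ⟨e, he⟩ : ∃ e, D.nroots + 1 ≤ p ^ e :=
    ⟨D.nroots + 1, (Nat.lt_pow_self (Fact.out : p.Prime).one_lt).le⟩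
  refine ⟨e, Subtype.ext (Units.ext ?_)⟩
  simp only [SubmonoidClass.coe_pow, Units.val_pow_eq_pow_val, OneMemClass.coe_one, Units.val_one]
  obtain ⟨M, hM⟩ : ∃ M, M = ((g : GL D.Idx k) : Matrix D.Idx D.Idx k) := ⟨_, rfl⟩
  rw [← hM]
  have h0 : (M - 1) ^ p ^ e = 0 := by
    ext a b
    by_contra h
    have hle := (chevRel C k).mat_sub_one_pow hg (p ^ e) a b (by rw [mat_chevRel, ← hM]; simpa using h)
    have := (chevRel C k).rk_le a
    omega
  have hc : Nonempty D.Idx := ⟨Sum.inl ⟨0, C.rank_pos⟩⟩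
  have : CharP (Matrix D.Idx D.Idx k) p := inferInstance
  rw [sub_pow_char_pow_of_commute p e (Commute.one_right M), one_pow, sub_eq_zero] at h0
  exact h0

/-- the `p`-elements of `B` lie in `U` -/
theorem mem_UP_of_pow {g : ↥(D.group k)} (hg : g ∈ (chevRel C k).BS) {e : ℕ} (he : g ^ p ^ e = 1) :
    g ∈ (chevRel C k).UP := by
  obtain ⟨u, hu, h, hh, rfl⟩ := (chevRel C k).exists_of_mem_BS hg
  suffices h1 : h = 1 by rw [h1, mul_one]; exact hu
  have key : ∀ n : ℕ, (u * h) ^ n * (h ^ n)⁻¹ ∈ (chevRel C k).UP := by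
    intro n
    induction n with
    | zero => simp
    | succ n ih =>
      rw [pow_succ', pow_succ', mul_inv_rev,
        show u * h * (u * h) ^ n * ((h ^ n)⁻¹ * h⁻¹) = u * (h * ((u * h) ^ n * (h ^ n)⁻¹) * h⁻¹) by group]
      exact mul_mem hu ((Subgroup.mem_normalizer_iff.1
        ((chevRel C k).HS_le_normalizer_US (posSet D) hh) _).1 ih)
  have h1 := key (p ^ e)
  rw [he, one_mul, inv_mem_iff] at h1
  have hpow : h ^ p ^ e = 1 := by
    have := Subgroup.mem_inf.2 ⟨h1, pow_mem hh (p ^ e)⟩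
    rwa [(chevRel C k).UP_inf_HS, Subgroup.mem_bot] at this
  obtain ⟨a, -, ha⟩ := (chevRel C k).exists_mat_HS hh
  refine Subtype.ext (Units.ext ?_)
  have h2 := congrArg (fun x : ↥(D.group k) => ((x : GL D.Idx k) : Matrix D.Idx D.Idx k)) hpow
  simp only [SubmonoidClass.coe_pow, Units.val_pow_eq_pow_val, OneMemClass.coe_one, Units.val_one] at h2 ⊢
  rw [mat_chevRel] at ha
  rw [ha, Matrix.diagonal_pow] at h2
  rw [ha, ← Matrix.diagonal_one]
  congr 1
  funext i
  have h3 := congrFun (congrFun h2 i) i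
  rw [Matrix.diagonal_apply_eq, Matrix.one_apply_eq, Pi.pow_apply] at h3
  have h4 : (Sum.elim (fun _ => (1 : k)) a i - 1) ^ p ^ e = 0 := by
    rw [sub_pow_char_pow, h3, one_pow, sub_self]
  exact sub_eq_zero.1 (pow_eq_zero_iff (pow_ne_zero _ (Fact.out : p.Prime).ne_zero) |>.1 h4)

omit [Fact p.Prime] [CharP k p] in
/-- an element moving all the simple root elements into `U` lies in `B` -/
theorem mem_BS_of_conj {g : ↥(D.group k)}
    (h : ∀ i : Fin D.rank, g * (chevRel C k).xe (D.simple i) 1 * g⁻¹ ∈ (chevRel C k).UP) :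
    g ∈ (chevRel C k).BS := by
  obtain ⟨R, hR⟩ : ∃ R, R = chevRel C k := ⟨_, rfl⟩
  rw [← hR] at h ⊢
  obtain ⟨b, hb, n, u, hu, rfl⟩ := R.exists_bnu g
  have huB : u ∈ R.BS := R.UP_le_BS (R.US_mono (Rel.invSet_subset _) hu)
  by_cases hw : R.qmk n = 1
  · exact mul_mem (mul_mem hb (R.HS_le_BS (R.qmk_eq_one.1 hw))) huB
  exfalso
  obtain ⟨i, hi⟩ := R.exists_descent hw
  rw [R.qact_qmk] at hi
  obtain ⟨x, hx⟩ : ∃ x, x = R.xe (D.simple i) (1 : k) := ⟨_, rfl⟩
  have hxU : x ∈ R.UP := hx ▸ R.xe_mem_US (S := posSet D) (r := R.sroot i) (R.sroot_pos i) 1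
  have huU : u ∈ R.UP := R.US_mono (Rel.invSet_subset _) hu
  obtain ⟨q, hq, m, hm, e⟩ := R.exists_UP_factor (R.nsPerm n) (mul_mem (mul_mem huU hxU) (inv_mem huU))
  have h1 : (n : ↥(D.group k)) * (u * x * u⁻¹) * (n : ↥(D.group k))⁻¹ ∈ R.UP := by
    have h2 := (Subgroup.mem_normalizer_iff.1 (R.BS_le_normalizer_UP (inv_mem hb))
      (b * n * u * x * (b * n * u)⁻¹)).1 (hx ▸ h i)
    convert h2 using 1; group
  have hm1 : m = 1 := by
    have h2 : (n : ↥(D.group k)) * m * (n : ↥(D.group k))⁻¹ ∈ R.UP := by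
      have h3 := mul_mem (inv_mem (R.conj_keep hq)) h1
      rw [e] at h3
      convert h3 using 1; group
    have h4 := R.BS_inf_UN (R.UP_le_BS h2) (R.conj_inv hm)
    rwa [mul_inv_eq_one, mul_eq_left] at h4
  rw [hm1, mul_one] at e
  have hrest : u * x * u⁻¹ ∈ R.US (R.restSet i) :=
    e ▸ R.US_mono (S := keepSet (R.nsPerm n)) (T := R.restSet i)
      (fun r hr => ⟨hr.1, fun h' => hi (h' ▸ hr.2)⟩) hq
  have hxrest : x ∈ R.US (R.restSet i) :=
    (Subgroup.mem_normalizer_iff.1 (R.UP_le_normalizer_rest i huU) x).2 hrest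
  have hneg := R.US_mono (R.restSet_subset i) (R.ne_conj_rest i hxrest)
  have ha := (R.isMon_ne_simple i (c := (1 : k)) one_ne_zero (R.sroot i))
  have hconj := ha.2.2.2 1
  simp only [R.wperm_sroot] at hconj
  rw [hx] at hneg
  change R.ne (D.simple i) 1 * R.xe (R.sroot i : ℕ) 1 * _ ∈ _ at hneg
  rw [hconj] at hneg
  exact R.xe_not_BS (r := R.negF (R.sroot i)) (fun hh => (R.negF_pos_iff _).1 hh (R.sroot_pos i))
    (by simpa using ha.1) (R.UP_le_BS hneg) rfl

end CfsgLib.Known.Overgroup
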