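import Cfsg.Agent.Lib.Known.Overgroup.Scalar
import Cfsg.Agent.Lib.Known.Overgroup.Setup
import Cfsg.Agent.Lib.Known.Overgroup.Field

/-!
# The top diagonal entry kills relative traces from maximal subgroups of `U(F)`
-/

set_option autoImplicit false

namespace CfsgLib.Known.Overgroup

open Cfsg.Lie (ChevalleyDatum)
open CfsgLib.Lie.Chev
open scoped Matrix

/-- entries of a product of `x_r(1)`, minus one -/
def wordE (D : ChevalleyDatum) : List ℕ → List (ℕ × ℕ × ℤ)
  | [] => []
  | r :: w => e1 D r ++ wordE D w ++ tmul (e1 D r) (wordE D w)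

/-- the `(a, b)` entry of `E Y - Y E` as a combination of the entries of `Y` -/
def eqTerms (D : ChevalleyDatum) (E : List (ℕ × ℕ × ℤ)) (a b : ℕ) : List (ℕ × ℤ) :=
  (rowL E a).map (fun q => (q.1 * dimN D + b, q.2)) ++ (colL E b).map fun q => (a * dimN D + q.1, - q.2)

/-- an entry `(g, top)` of a commuting matrix vanishes -/
def chkCert (D : ChevalleyDatum) (m : ℕ) (allowed : List ℕ → Bool) (g : ℕ)
    (cert : List (List ℕ × ℕ × ℕ × ℤ)) : Bool :=
  (cert.all fun e => allowed e.1 && e.1.all (fun r => Nat.blt r D.nroots) &&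
      Nat.blt e.2.1 (dimN D) && Nat.blt e.2.2.1 (dimN D)) &&
    chkComb m (fun _ => false)
      (cert.flatMap fun e => (eqTerms D (wordE D e.1) e.2.1 e.2.2.1).map fun q => (q.1, e.2.2.2 * q.2))
      (g * dimN D + topCode D)

/-- the trace along `x_r` has zero top entry -/
def chkKillRoot (D : ChevalleyDatum) (m : ℕ) (allowed : List ℕ → Bool) (r : ℕ)
    (certs : List (ℕ × List (List ℕ × ℕ × ℕ × ℤ))) : Bool :=
  Nat.blt r D.nroots && Nat.ble (half D) r &&
    ((certs.all fun c => chkCert D m allowed c.1 c.2) &&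
      (entries D r).all fun e => !Nat.beq e.2.1 (topCode D) || zc m e.2.2.2 || goodExp m e.1 ||
        certs.any fun c => Nat.beq c.1 e.2.2.1)

/-- roots all of whose fixed elements are commutators modulo known ones -/
def chkDerGo (D : ChevalleyDatum) (m : ℕ) : List (ℕ × ℕ × ℕ) → ℕ → Bool
  | [], _ => true
  | (a, b, u) :: L, M =>
    Nat.blt a D.nroots && Nat.blt b D.nroots && Nat.ble (half D) a && Nat.ble (half D) b && !Nat.beq a b &&
      ((D.commTerms a b).all fun c => Nat.beq c.1 u || M.testBit c.1 || zc m c.2.1) &&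
      Nat.beq ((D.commTerms a b).filter fun c => Nat.beq c.1 u).length 1 &&
      ((D.commTerms a b).all fun c => !Nat.beq c.1 u || (uc m c.2.1 && (Nat.beq c.2.2.1 1 || Nat.beq c.2.2.2 1))) &&
      chkDerGo D m L (M ||| 2 ^ u)

/-- the resulting set of roots -/
def derMask : List (ℕ × ℕ × ℕ) → ℕ → ℕ
  | [], M => M
  | (_, _, u) :: L, M => derMask L (M ||| 2 ^ u)

/-- the remaining roots, one after the other -/
def chkKillGo (D : ChevalleyDatum) (m : ℕ) : List (ℕ × List (ℕ × List (List ℕ × ℕ × ℕ × ℤ))) → ℕ → Bool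
  | [], M => (List.range D.nroots).all fun r => Nat.blt r (half D) || M.testBit r
  | (r, certs) :: L, M =>
    chkKillRoot D m (fun w => w.all M.testBit) r certs && chkKillGo D m L (M ||| 2 ^ r)

/-- the whole certificate -/
def chkKill (D : ChevalleyDatum) (m : ℕ) (der : List (ℕ × ℕ × ℕ))
    (L : List (ℕ × List (ℕ × List (List ℕ × ℕ × ℕ × ℤ)))) : Bool :=
  chkDerGo D m der 0 && chkKillGo D m L (derMask der 0)

variable {D : ChevalleyDatum} {X : Aux} (C : Cert D X) {k : Type*} [Field k] {m : ℕ} (hm : ModeOK k m)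

/-- an entry of a matrix by the number of its position -/
def entryOf (D : ChevalleyDatum) {k : Type*} [Field k] (Y : Matrix D.Idx D.Idx k) (key : ℕ) : k :=
  ∑ a, ∑ b, if code D a * dimN D + code D b = key then Y a b else 0

theorem entryOf_key (Y : Matrix D.Idx D.Idx k) (a b : D.Idx) :
    entryOf D Y (code D a * dimN D + code D b) = Y a b := by
  have key : ∀ a' b', code D a' * dimN D + code D b' = code D a * dimN D + code D b → a' = a ∧ b' = b := by
    intro a' b' e
    have h1 : code D b' < dimN D := code_lt D b'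
    have h2 : code D b < dimN D := code_lt D b
    have e1 : code D a' = code D a := by
      have := congrArg (· / dimN D) e
      simp only [Nat.mul_comm _ (dimN D), Nat.mul_add_div (by omega : 0 < dimN D), Nat.div_eq_of_lt h1,
        Nat.div_eq_of_lt h2, add_zero] at this
      exact this
    exact ⟨code_injective D e1, code_injective D (by rw [e1] at e; omega)⟩
  rw [entryOf, Finset.sum_eq_single a, Finset.sum_eq_single b]
  · rw [if_pos rfl]
  · intro b' _ hb; rw [if_neg (fun e => hb (key a b' e).2)]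
  · simp
  · intro a' _ ha
    exact Finset.sum_eq_zero fun b' _ => if_neg (fun e => ha (key a' b' e).1)
  · simp

/-- a row applied to a column -/
theorem rowL_apply {E : List (ℕ × ℕ × ℤ)} (hE : ∀ e ∈ E, e.2.1 < D.rank + D.nroots) (Y : Matrix D.Idx D.Idx k)
    (a b : D.Idx) :
    (tm D k E * Y) a b =
      (((rowL E (code D a)).map fun q : ℕ × ℤ => (q.1 * dimN D + code D b, q.2)).map fun q : ℕ × ℤ =>
        (q.2 : k) • entryOf D Y q.1).sum := by
  induction E with
  | nil => simp [tm_nil, rowL]
  | cons e E ih =>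
    rw [tm_cons, add_mul, Matrix.add_apply, ih (fun x hx => hE x (List.mem_cons_of_mem _ hx))]
    obtain ⟨c, hc⟩ := exists_code D (hE e List.mem_cons_self)
    simp only [rowL, List.filter_cons]
    rw [Matrix.mul_apply, Finset.sum_eq_single c]
    · by_cases ha : e.1 = code D a
      · rw [if_pos (nat_beq_iff.2 ha)]
        have he : entryOf D Y (e.2.1 * dimN D + code D b) = Y c b := by rw [← hc, entryOf_key]
        simp [tm, ha, hc, he]
      · rw [if_neg (by rw [nat_beq_iff]; exact ha)]
        simp [tm, ha]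
    · intro x _ hx
      have : ¬ e.2.1 = code D x := fun h => hx (code_injective D (hc.trans h).symm)
      simp [tm, this]
    · simp

/-- a row times a column -/
theorem colL_apply (E : List (ℕ × ℕ × ℤ)) (hE : ∀ e ∈ E, e.1 < D.rank + D.nroots) (Y : Matrix D.Idx D.Idx k)
    (a b : D.Idx) :
    (Y * tm D k E) a b =
      (((colL E (code D b)).map fun q : ℕ × ℤ => (code D a * dimN D + q.1, q.2)).map fun q : ℕ × ℤ =>
        (q.2 : k) • entryOf D Y q.1).sum := by
  induction E with
  | nil => simp [tm_nil, colL]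
  | cons e E ih =>
    rw [tm_cons, mul_add, Matrix.add_apply, ih (fun x hx => hE x (List.mem_cons_of_mem _ hx))]
    obtain ⟨c, hc⟩ := exists_code D (hE e List.mem_cons_self)
    simp only [colL, List.filter_cons]
    rw [Matrix.mul_apply, Finset.sum_eq_single c]
    · by_cases hb : e.2.1 = code D b
      · rw [if_pos (nat_beq_iff.2 hb)]
        have he : entryOf D Y (code D a * dimN D + e.1) = Y a c := by rw [← hc, entryOf_key]
        simp [tm, hb, hc, he]; ring
      · rw [if_neg (by rw [nat_beq_iff]; exact hb)]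
        simp [tm, hb]
    · intro x _ hx
      have : ¬ e.1 = code D x := fun h => hx (code_injective D (hc.trans h).symm)
      simp [tm, this]
    · simp

include C

theorem e1_row_lt {r : ℕ} (hr : r < D.nroots) : ∀ e ∈ e1 D r, e.1 < D.rank + D.nroots := by
  intro e he
  obtain ⟨x, hx, rfl⟩ := List.mem_map.1 he
  simp only [entries, torusEntries, chainEntries, List.mem_append, List.mem_cons, List.mem_flatMap,
    List.mem_map, List.mem_range, List.not_mem_nil, or_false] at hx
  rcases hx with ⟨i, hi, rfl | rfl⟩ | rfl | ⟨y, hy, q, hq, rfl⟩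
  · show D.rank + r < _; omega
  · show i < _; omega
  · show D.rank + r < _; omega
  · have := (((C.rows' hr).2 y hy).2.2.2.2.2 q hq).1
    show D.rank + q.1.1 < _
    omega

theorem wordE_bounds : ∀ w : List ℕ, (∀ r ∈ w, r < D.nroots) →
    ∀ e ∈ wordE D w, e.1 < D.rank + D.nroots ∧ e.2.1 < D.rank + D.nroots
  | [], _, e, he => absurd he (List.not_mem_nil)
  | r :: w, hw, e, he => by
    have hr := hw r List.mem_cons_self
    have ih := wordE_bounds w fun x hx => hw x (List.mem_cons_of_mem _ hx)
    simp only [wordE, List.mem_append] at he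
    rcases he with (he | he) | he
    · exact ⟨e1_row_lt C hr e he, e1_col_lt C hr e he⟩
    · exact ih e he
    · simp only [tmul, List.mem_flatMap, List.mem_map, List.mem_filter] at he
      obtain ⟨x, hx, f, ⟨hf, -⟩, rfl⟩ := he
      exact ⟨e1_row_lt C hr x hx, (ih f hf).2⟩

theorem tm_wordE : ∀ w : List ℕ, (∀ r ∈ w, r < D.nroots) →
    tm D k (wordE D w) = (chevRel C k).mat ((w.map fun r => (chevRel C k).xe r 1).prod) - 1
  | [], _ => by simp [wordE, tm_nil, Rel.mat_one]
  | r :: w, hw => by
    have hr := hw r List.mem_cons_self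
    rw [wordE, tm_append, tm_append, tm_tmul (e1_col_lt C hr), tm_e1 C hr,
      tm_wordE w (fun x hx => hw x (List.mem_cons_of_mem _ hx)), List.map_cons, List.prod_cons, Rel.mat_mul,
      Rel.mat_xe]
    noncomm_ring

include hm

theorem entry_zero_of_cert {allowed : List ℕ → Bool} {Y : Matrix D.Idx D.Idx k}
    (hY : ∀ w, allowed w = true → (∀ r ∈ w, r < D.nroots) →
      Commute ((chevRel C k).mat ((w.map fun r => (chevRel C k).xe r 1).prod)) Y)
    {g : ℕ} {cert : List (List ℕ × ℕ × ℕ × ℤ)} (h : chkCert D m allowed g cert = true) :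
    entryOf D Y (g * dimN D + topCode D) = 0 := by
  simp only [chkCert, Bool.and_eq_true, List.all_eq_true, nat_blt_iff] at h
  obtain ⟨h1, h2⟩ := h
  refine chkComb_spec hm h2 (fun key => entryOf D Y key) (by simp) ?_
  rw [List.map_flatMap, List.flatMap, List.sum_flatten]
  refine List.sum_eq_zero fun x hx => ?_
  simp only [List.map_map, List.mem_map, Function.comp_apply] at hx
  obtain ⟨⟨w, a, b, c⟩, he, rfl⟩ := hx
  obtain ⟨⟨⟨hw, hlt⟩, ha⟩, hb⟩ := h1 _ he
  obtain ⟨a0, rfl⟩ := exists_code D ha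
  obtain ⟨b0, rfl⟩ := exists_code D hb
  have hbd := wordE_bounds C w hlt
  have hcomm : tm D k (wordE D w) * Y - Y * tm D k (wordE D w) = 0 := by
    rw [tm_wordE C w hlt, sub_mul, mul_sub, (hY w hw hlt).eq]; simp
  have h0 := congrFun (congrFun hcomm a0) b0
  rw [Matrix.sub_apply, rowL_apply (fun e he => (hbd e he).2), colL_apply _ (fun e he => (hbd e he).1),
    Matrix.zero_apply] at h0
  have key : ((eqTerms D (wordE D w) (code D a0) (code D b0)).map fun q => (q.2 : k) • entryOf D Y q.1).sum = 0 := by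
    rw [eqTerms, List.map_append, List.sum_append, ← h0, sub_eq_add_neg]
    congr 1
    rw [neg_eq_neg_one_mul, ← List.sum_map_mul_left, List.map_map, List.map_map]
    refine congrArg _ (List.map_congr_left fun q _ => ?_)
    simp
  calc _ = ((eqTerms D (wordE D w) (code D a0) (code D b0)).map fun q =>
        (c : k) * ((q.2 : k) • entryOf D Y q.1)).sum := by
          refine congrArg _ (List.map_congr_left fun q _ => ?_)
          simp [mul_assoc]
    _ = 0 := by rw [List.sum_map_mul_left, key, mul_zero]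

omit hm in
/-- the powers of a root element -/
theorem xe_pow (r : ℕ) (t : k) : ∀ i : ℕ, (chevRel C k).xe r t ^ i = (chevRel C k).xe r ((i : k) * t)
  | 0 => by rw [pow_zero, Nat.cast_zero, zero_mul, (chevRel C k).xe_zero]
  | i + 1 => by rw [pow_succ, xe_pow r t i, (chevRel C k).xe_add', Nat.cast_succ, add_mul, one_mul]

variable {p : ℕ} [Fact p.Prime] [CharP k p] (hmp : m = min p 5)
include hmp

/-- the top entry of a trace along a root element -/
theorem trace_top_eq_zero {allowed : List ℕ → Bool} {Y : Matrix D.Idx D.Idx k}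
    (hY : ∀ w, allowed w = true → (∀ r ∈ w, r < D.nroots) →
      Commute ((chevRel C k).mat ((w.map fun r => (chevRel C k).xe r 1).prod)) Y)
    {r : ℕ} {certs : List (ℕ × List (List ℕ × ℕ × ℕ × ℤ))} (h : chkKillRoot D m allowed r certs = true)
    (t : k) {a0 : D.Idx} (ha0 : code D a0 = topCode D) :
    (∑ i ∈ Finset.range p, (chevRel C k).mat ((chevRel C k).xe r t ^ i) * Y *
      (chevRel C k).mat (((chevRel C k).xe r t ^ i)⁻¹)) a0 a0 = 0 := by
  simp only [chkKillRoot, Bool.and_eq_true, List.all_eq_true, nat_blt_iff, nat_ble_iff] at h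
  obtain ⟨⟨hr, hpos⟩, hcerts, hrow⟩ := h
  have hU : ∀ s : k, (chevRel C k).xe r s ∈ (chevRel C k).UP := fun s =>
    (chevRel C k).xe_mem_US (S := posSet D) (r := ⟨r, hr⟩) hpos s
  have hcol : ∀ g ∈ (chevRel C k).UP, ∀ b, (chevRel C k).mat g b a0 = if b = a0 then 1 else 0 := by
    intro g hg b
    obtain ⟨h1, h2⟩ := (chevRel C k).isUT_mat hg
    by_cases hb : b = a0
    · rw [if_pos hb, hb, h1]
    · rw [if_neg hb]
      refine h2 b a0 hb ?_
      have hn := C.nroots_eq
      have hl := C.simple_lt (i := 0) C.rank_pos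
      have htop : Rel.rk (D := D) a0 = D.nroots := by
        cases a0 with
        | inl i => simp only [code_inl, topCode] at ha0; omega
        | inr s =>
          simp only [code_inr, topCode] at ha0
          simp only [Rel.rk, Sum.elim_inr]
          split_ifs <;> omega
      rw [htop]
      exact (chevRel C k).rk_le b
  have hterm : ∀ i : ℕ, ((chevRel C k).mat ((chevRel C k).xe r t ^ i) * Y *
      (chevRel C k).mat (((chevRel C k).xe r t ^ i)⁻¹)) a0 a0 =
      Y a0 a0 + ∑ b, matOf D (entries D r) ((i : k) * t) a0 b * Y b a0 := by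
    intro i
    rw [xe_pow C, Matrix.mul_apply, Finset.sum_eq_single a0]
    · rw [hcol _ (inv_mem (hU _)), if_pos rfl, mul_one, (chevRel C k).mat_xe,
        xMat_eq D hr (C.neg_ne hr) (C.key_ne hr), Matrix.add_mul, Matrix.one_mul, Matrix.add_apply, Matrix.mul_apply]
    · intro b _ hb; rw [hcol _ (inv_mem (hU _)), if_neg hb, mul_zero]
    · simp
  rw [Matrix.sum_apply, Finset.sum_congr rfl (fun i _ => hterm i), Finset.sum_add_distrib, Finset.sum_const,
    Finset.card_range, nsmul_eq_mul, CharP.cast_eq_zero k p, zero_mul, zero_add, Finset.sum_comm]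
  refine Finset.sum_eq_zero fun b _ => ?_
  by_cases hY0 : Y b a0 = 0
  · simp [hY0]
  have key : ∀ L : List (ℕ × ℕ × ℕ × ℤ), (∀ e ∈ L, e.2.1 = topCode D → e.2.2.1 = code D b →
        zc m e.2.2.2 = true ∨ goodExp m e.1 = true) →
      ∑ i ∈ Finset.range p, matOf D L ((i : k) * t) a0 b = 0 := by
    intro L
    induction L with
    | nil => intro _; simp [matOf]
    | cons e L ih =>
      intro hL
      have hcons : ∀ i : ℕ, matOf D (e :: L) ((i : k) * t) a0 b =
        (if e.2.1 = code D a0 ∧ e.2.2.1 = code D b then (e.2.2.2 : k) * ((i : k) * t) ^ e.1 else 0) +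
          matOf D L ((i : k) * t) a0 b := fun i => by simp [matOf]
      simp only [hcons]
      rw [Finset.sum_add_distrib,
        ih (fun x hx => hL x (List.mem_cons_of_mem _ hx)), add_zero]
      by_cases hc : e.2.1 = code D a0 ∧ e.2.2.1 = code D b
      · simp only [if_pos hc]
        rcases hL e List.mem_cons_self (hc.1.trans ha0) hc.2 with hz | hg
        · simp [hm.1 _ hz]
        · rw [← Finset.mul_sum]
          simp only [mul_pow]
          rw [← Finset.sum_mul, sum_pow_eq_zero p (hmp ▸ hg), zero_mul, mul_zero]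
      · simp [hc]
  rw [← Finset.sum_mul, key (entries D r) ?_, zero_mul]
  intro e he hrow0 hcolb
  have := hrow e he
  simp only [Bool.or_eq_true, Bool.not_eq_true', List.any_eq_true, nat_beq_iff] at this
  rcases this with ((h1 | h1) | h1) | ⟨c, hc, hce⟩
  · rw [hrow0, Bool.eq_false_iff] at h1
    exact absurd (nat_beq_iff.2 rfl) h1
  · exact Or.inl h1
  · exact Or.inr h1
  · refine absurd ?_ hY0
    have h0 := entry_zero_of_cert C hm hY (hcerts c hc)
    rwa [hce, hcolb, ← ha0, entryOf_key] at h0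

variable {σ : k →+* k} {N : Subgroup ↥(D.group k)}
  (hcomm : ∀ x ∈ (chevRel C k).UP ⊓ rat D σ, ∀ y ∈ (chevRel C k).UP ⊓ rat D σ, x * y * x⁻¹ * y⁻¹ ∈ N)

omit hm hmp [Fact p.Prime] [CharP k p] in
theorem xe_mem_fixed {r : ℕ} (hr : r < D.nroots) (hpos : half D ≤ r) {t : k} (ht : σ t = t) :
    (chevRel C k).xe r t ∈ (chevRel C k).UP ⊓ rat D σ :=
  Subgroup.mem_inf.2 ⟨(chevRel C k).xe_mem_US (S := posSet D) (r := ⟨r, hr⟩) hpos t,
    mem_rat.2 ((sg_xe C σ r t).trans (by rw [ht]))⟩

include hcomm in
omit hmp [Fact p.Prime] [CharP k p] in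
/-- derived root subgroups lie in `N` -/
theorem der_go : ∀ (L : List (ℕ × ℕ × ℕ)) (M : ℕ), chkDerGo D m L M = true →
    (∀ r, M.testBit r = true → ∀ t : k, σ t = t → (chevRel C k).xe r t ∈ N) →
    ∀ r, (derMask L M).testBit r = true → ∀ t : k, σ t = t → (chevRel C k).xe r t ∈ N
  | [], M, _, hM => hM
  | (a, b, u) :: L, M, h, hM => by
    simp only [chkDerGo, Bool.and_eq_true, List.all_eq_true, nat_blt_iff, nat_ble_iff, Bool.not_eq_true',
      nat_beq_iff, Bool.or_eq_true, Bool.eq_false_iff, ne_eq] at h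
    obtain ⟨⟨⟨⟨⟨⟨⟨⟨ha, hb⟩, hap⟩, hbp⟩, hab⟩, hterms⟩, hone⟩, hu⟩, hrest⟩ := h
    refine der_go L _ hrest fun r hr => ?_
    rcases testBit_or_two_pow hr with h' | rfl
    · exact hM r h'
    intro v hv
    obtain ⟨e, he⟩ := List.length_eq_one_iff.1 hone
    have hemem : e ∈ D.commTerms a b ∧ e.1 = r := by
      have h1 : e ∈ (D.commTerms a b).filter fun c => Nat.beq c.1 r := he ▸ List.mem_singleton_self e
      rw [List.mem_filter, nat_beq_iff] at h1
      exact h1
    rcases hu e hemem.1 with h1 | ⟨hunit, hexp⟩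
    · exact absurd hemem.2 h1
    have hne := hm.2 _ hunit
    obtain ⟨s, t, hs, ht, hst⟩ : ∃ s t : k, σ s = s ∧ σ t = t ∧
        (e.2.1 : k) * (-s) ^ e.2.2.1 * t ^ e.2.2.2 = v := by
      rcases hexp with hi | hj
      · refine ⟨-(v / e.2.1), 1, by rw [map_neg, map_div₀, hv, map_intCast], map_one σ, ?_⟩
        rw [hi, one_pow, mul_one, neg_neg, pow_one, mul_div_cancel₀ _ hne]
      · refine ⟨-1, v / e.2.1, by rw [map_neg, map_one], by rw [map_div₀, hv, map_intCast], ?_⟩
        rw [hj, neg_neg, one_pow, mul_one, pow_one, mul_div_cancel₀ _ hne]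
    have hneg : b ≠ D.neg a := fun e' => by
      have h2 := C.neg_eq ha
      have h3 := C.nroots_eq
      omega
    have hW := (chevRel C k).xe_comm a b s t ha hb (fun e' => hab e'.symm) hneg
    have hWN : ((D.commWord k a b s t).map fun q => (chevRel C k).xe q.1 q.2).prod ∈ N := by
      have h2 := hcomm _ (inv_mem (xe_mem_fixed C hb hbp ht)) _ (inv_mem (xe_mem_fixed C ha hap hs))
      rw [inv_inv, inv_inv] at h2
      convert h2 using 1
      rw [mul_assoc _ ((chevRel C k).xe b t), hW]
      group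
    simp only [ChevalleyDatum.commWord, List.map_map] at hWN
    have hsplit : ∀ l : List (ℕ × ℤ × ℕ × ℕ), l.Sublist (D.commTerms a b) →
        ((l.filter fun c => Nat.beq c.1 r) = [e] → (l.map fun c => (chevRel C k).xe c.1
          ((c.2.1 : k) * (-s) ^ c.2.2.1 * t ^ c.2.2.2)).prod ∈ N → (chevRel C k).xe r v ∈ N) ∧
        ((l.filter fun c => Nat.beq c.1 r) = [] → (l.map fun c => (chevRel C k).xe c.1
          ((c.2.1 : k) * (-s) ^ c.2.2.1 * t ^ c.2.2.2)).prod ∈ N) := by
      intro l
      induction l with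
      | nil => exact fun _ => ⟨fun h => (List.cons_ne_nil _ _ h.symm).elim, fun _ => one_mem _⟩
      | cons c l ih =>
        intro hsub
        obtain ⟨ih1, ih2⟩ := ih ((List.sublist_cons_self c l).trans hsub)
        have hcm := hsub.subset List.mem_cons_self
        by_cases hc : c.1 = r
        · rw [List.filter_cons_of_pos (by rw [nat_beq_iff]; exact hc)]
          refine ⟨fun h1 h2 => ?_, fun h1 => (List.cons_ne_nil _ _ h1).elim⟩
          obtain ⟨rfl, h3⟩ := List.cons.inj h1
          rw [List.map_cons, List.prod_cons, hc, hst] at h2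
          exact (Subgroup.mul_mem_cancel_right N (ih2 h3)).1 h2
        · rw [List.filter_cons_of_neg (by rw [nat_beq_iff]; exact hc)]
          have hcN : (chevRel C k).xe c.1 ((c.2.1 : k) * (-s) ^ c.2.2.1 * t ^ c.2.2.2) ∈ N := by
            rcases hterms c hcm with (h1 | h1) | h1
            · exact absurd h1 hc
            · exact hM _ h1 _ (by simp [map_mul, map_pow, map_neg, hs, ht, map_intCast])
            · rw [hm.1 _ h1, zero_mul, zero_mul, (chevRel C k).xe_zero]; exact one_mem _
          simp only [List.map_cons, List.prod_cons]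
          exact ⟨fun h1 h2 => ih1 h1 ((Subgroup.mul_mem_cancel_left N hcN).1 h2),
            fun h1 => mul_mem hcN (ih2 h1)⟩
    exact (hsplit _ (List.Sublist.refl _)).1 he hWN

omit [Fact p.Prime] [CharP k p] hm hmp in
/-- a word of `N`-elements commutes with whatever `N` commutes with -/
theorem commute_word {Y : Matrix D.Idx D.Idx k} {M : ℕ}
    (hY : ∀ n ∈ N, Commute ((chevRel C k).mat n) Y)
    (hM : ∀ r, M.testBit r = true → ∀ t : k, σ t = t → (chevRel C k).xe r t ∈ N) (w : List ℕ)
    (hw : w.all M.testBit = true) :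
    Commute ((chevRel C k).mat ((w.map fun r => (chevRel C k).xe r 1).prod)) Y := by
  refine hY _ (list_prod_mem fun x hx => ?_)
  obtain ⟨r, hr, rfl⟩ := List.mem_map.1 hx
  exact hM r (List.all_eq_true.1 hw r hr) 1 (map_one σ)

/-- walking through the remaining roots -/
theorem kill_go {a0 : D.Idx} (ha0 : code D a0 = topCode D) {Y : Matrix D.Idx D.Idx k}
    (hY : ∀ n ∈ N, Commute ((chevRel C k).mat n) Y) :
    ∀ (L : List (ℕ × List (ℕ × List (List ℕ × ℕ × ℕ × ℤ)))) (M : ℕ), chkKillGo D m L M = true →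
      (∀ r, M.testBit r = true → ∀ t : k, σ t = t → (chevRel C k).xe r t ∈ N) →
      ¬ (chevRel C k).UP ⊓ rat D σ ≤ N →
      ∃ u ∈ (chevRel C k).UP ⊓ rat D σ, u ∉ N ∧
        (∑ i ∈ Finset.range p, (chevRel C k).mat (u ^ i) * Y * (chevRel C k).mat ((u ^ i)⁻¹)) a0 a0 = 0
  | [], M, h, hM, hne => by
    exfalso
    refine hne fun g hg => ?_
    simp only [chkKillGo, List.all_eq_true, List.mem_range, Bool.or_eq_true, nat_blt_iff] at h
    obtain ⟨hgU, hgr⟩ := Subgroup.mem_inf.1 hg
    obtain ⟨t, ht, rfl⟩ := exists_fixed_oprod C hgU hgr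
    have hn := C.nroots_eq
    refine list_prod_mem fun x hx => ?_
    obtain ⟨r, hr, rfl⟩ := List.mem_map.1 hx
    rw [List.mem_range'_1] at hr
    exact hM r ((h r (by omega)).resolve_left (by omega)) _ (ht r hr.1 (by omega))
  | (r, certs) :: L, M, h, hM, hne => by
    simp only [chkKillGo, Bool.and_eq_true] at h
    have hh := h.1
    simp only [chkKillRoot, Bool.and_eq_true, nat_blt_iff, nat_ble_iff] at hh
    by_cases hall : ∀ t : k, σ t = t → (chevRel C k).xe r t ∈ N
    · refine kill_go ha0 hY L _ h.2 (fun j hj => ?_) hne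
      rcases testBit_or_two_pow hj with h' | rfl
      · exact hM j h'
      · exact hall
    · push_neg at hall
      obtain ⟨t, ht, htN⟩ := hall
      exact ⟨_, xe_mem_fixed C hh.1.1 hh.1.2 ht, htN,
        trace_top_eq_zero C hm hmp (fun w hw _ => commute_word C hY hM w hw) h.1 t ha0⟩

include hcomm in
/-- the generic killing statement -/
theorem exists_kill {der : List (ℕ × ℕ × ℕ)} {L : List (ℕ × List (ℕ × List (List ℕ × ℕ × ℕ × ℤ)))}
    (h : chkKill D m der L = true) {a0 : D.Idx} (ha0 : code D a0 = topCode D) {Y : Matrix D.Idx D.Idx k}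
    (hY : ∀ n ∈ N, Commute ((chevRel C k).mat n) Y) (hne : ¬ (chevRel C k).UP ⊓ rat D σ ≤ N) :
    ∃ u ∈ (chevRel C k).UP ⊓ rat D σ, u ∉ N ∧
      (∑ i ∈ Finset.range p, (chevRel C k).mat (u ^ i) * Y * (chevRel C k).mat ((u ^ i)⁻¹)) a0 a0 = 0 := by
  simp only [chkKill, Bool.and_eq_true] at h
  exact kill_go C hm hmp ha0 hY L _ h.2 (der_go C hm hcomm der 0 h.1 (fun r hr => by simp at hr)) hne

end CfsgLib.Known.Overgroup
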