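import Cfsg.Agent.Lib.Known.Overgroup.DataKill

/-!
# The killing statement for `B₂` in characteristic two
-/

set_option autoImplicit false

namespace CfsgLib.Known.Overgroup

open Cfsg.Lie
open CfsgLib.Lie.Chev

theorem commB2_ab : chevB2.commTerms 5 4 = [(6, -1, 1, 1), (7, -1, 2, 1)] := by decide +kernel

theorem factsB2 : chevB2.nroots = 8 ∧ half chevB2 = 4 ∧ chevB2.neg 5 = 2 := by decide +kernel

variable {X : Aux} (C : Cert chevB2 X) {k : Type*} [Field k] [CharP k 2] {σ : k →+* k}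
  {N : Subgroup ↥(chevB2.group k)}
  (hcomm : ∀ x ∈ (chevRel C k).UP ⊓ rat chevB2 σ, ∀ y ∈ (chevRel C k).UP ⊓ rat chevB2 σ,
    x * y * x⁻¹ * y⁻¹ ∈ N)
include hcomm

/-- the commutator relation read in `N` -/
theorem rel_B2 {s t : k} (hs : σ s = s) (ht : σ t = t) :
    (chevRel C k).xe 6 (s * t) * (chevRel C k).xe 7 (s ^ 2 * t) ∈ N := by
  obtain ⟨hn, hh, hneg⟩ := factsB2
  have hW := (chevRel C k).xe_comm 5 4 s t (by omega) (by omega) (by omega) (by omega)
  have h2 := hcomm _ (inv_mem (xe_mem_fixed C (r := 4) (by omega) (by omega) ht)) _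
    (inv_mem (xe_mem_fixed C (r := 5) (by omega) (by omega) hs))
  rw [inv_inv, inv_inv] at h2
  have e : ((chevB2.commWord k 5 4 s t).map fun q => (chevRel C k).xe q.1 q.2).prod =
      ((chevRel C k).xe 4 t)⁻¹ * ((chevRel C k).xe 5 s)⁻¹ * (chevRel C k).xe 4 t * (chevRel C k).xe 5 s := by
    rw [mul_assoc _ ((chevRel C k).xe 4 t), hW]; group
  rw [← e] at h2
  simp only [ChevalleyDatum.commWord, commB2_ab, List.map_cons, List.map_nil, List.prod_cons, List.prod_nil,
    mul_one] at h2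
  convert h2 using 3 <;> simp [CharTwo.neg_eq] <;> ring

/-- the killing statement -/
theorem exists_kill_B2 {m : ℕ} (hm : ModeOK k m) (hmp : m = min 2 5) (hNS : N ≤ (chevRel C k).UP ⊓ rat chevB2 σ)
    (hidx : N.relIndex ((chevRel C k).UP ⊓ rat chevB2 σ) = 2) {a0 : chevB2.Idx}
    (ha0 : code chevB2 a0 = topCode chevB2) {Y : Matrix chevB2.Idx chevB2.Idx k}
    (hY : ∀ n ∈ N, Commute ((chevRel C k).mat n) Y) (hne : ¬ (chevRel C k).UP ⊓ rat chevB2 σ ≤ N) :
    ∃ u ∈ (chevRel C k).UP ⊓ rat chevB2 σ, u ∉ N ∧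
      (∑ i ∈ Finset.range 2, (chevRel C k).mat (u ^ i) * Y * (chevRel C k).mat ((u ^ i)⁻¹)) a0 a0 = 0 := by
  obtain ⟨hn, hh, -⟩ := factsB2
  have : Fact (Nat.Prime 2) := ⟨Nat.prime_two⟩
  have hm2 : m = 2 := by omega
  subst hm2
  obtain ⟨S, hS⟩ : ∃ S, S = (chevRel C k).UP ⊓ rat chevB2 σ := ⟨_, rfl⟩
  have htwo : ∀ x ∈ S, ∀ y ∈ S, x ∉ N → y ∉ N → x * y ∈ N := fun x hx y hy h1 h2 => by
    have h := Subgroup.mul_mem_iff_of_index_two (H := N.subgroupOf S) (hS ▸ hidx)
      (a := ⟨x, hx⟩) (b := ⟨y, hy⟩)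
    exact Subgroup.mem_subgroupOf.1 (h.2 ⟨fun e => absurd (Subgroup.mem_subgroupOf.1 e) h1,
      fun e => absurd (Subgroup.mem_subgroupOf.1 e) h2⟩)
  by_cases h6 : (chevRel C k).xe 6 1 ∈ N
  · -- all fixed elements of the roots 6, 7 are in `N`
    have hrel1 : ∀ t : k, σ t = t → (chevRel C k).xe 6 t * (chevRel C k).xe 7 t ∈ N := fun t ht => by
      simpa using rel_B2 C hcomm (s := 1) (map_one σ) ht
    have h7 : (chevRel C k).xe 7 1 ∈ N := (Subgroup.mul_mem_cancel_left N h6).1 (hrel1 1 (map_one σ))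
    have h6all : ∀ t : k, σ t = t → (chevRel C k).xe 6 t ∈ N := by
      intro t ht
      by_cases hF : ∀ s : k, σ s = s → s = 0 ∨ s = 1
      · rcases hF t ht with rfl | rfl
        · rw [(chevRel C k).xe_zero]; exact one_mem _
        · exact h6
      · push_neg at hF
        obtain ⟨s, hs, hs0, hs1⟩ := hF
        have hc : s + s ^ 2 ≠ 0 := by
          intro h
          have e : s * (1 + s) = 0 := by rw [← h]; ring
          rcases mul_eq_zero.1 e with h' | h'
          · exact hs0 h'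
          · exact hs1 (CharTwo.add_eq_zero.1 h').symm
        have key : ∀ u : k, σ u = u → (chevRel C k).xe 6 ((s + s ^ 2) * u) ∈ N := by
          intro u hu
          have h1 := rel_B2 C hcomm hs hu
          have h2 := hrel1 (s ^ 2 * u) (by rw [map_mul, map_pow, hs, hu])
          have h3 := mul_mem h1 (inv_mem h2)
          rw [mul_inv_rev, ← mul_assoc, mul_inv_cancel_right, ← (chevRel C k).xe_neg, (chevRel C k).xe_add',
            CharTwo.neg_eq] at h3
          rwa [add_mul]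
        have := key (t / (s + s ^ 2)) (by rw [map_div₀, map_add, map_pow, hs, ht])
        rwa [mul_div_cancel₀ _ hc] at this
    refine kill_go C hm hmp ha0 hY killB2_2 _ chkKillGoB2_2 (fun r hr t ht => ?_) hne
    rcases testBit_or_two_pow hr with h | rfl
    · rw [Nat.testBit_two_pow, decide_eq_true_iff] at h
      subst h
      exact h6all t ht
    · exact (Subgroup.mul_mem_cancel_left N (h6all t ht)).1 (hrel1 t ht)
  · -- then `x₇(1)` is outside, and `x₆(1) x₇(1)` inside
    have h7 : (chevRel C k).xe 7 1 ∉ N := fun h =>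
      h6 ((Subgroup.mul_mem_cancel_right N h).1 (by simpa using rel_B2 C hcomm (s := 1) (map_one σ) (map_one σ)))
    have m6 := xe_mem_fixed C (σ := σ) (r := 6) (by omega) (by omega) (map_one σ)
    have m7 := xe_mem_fixed C (σ := σ) (r := 7) (by omega) (by omega) (map_one σ)
    refine ⟨_, m7, h7, trace_top_eq_zero C hm hmp (fun w hw _ => ?_) chkKillB2_2_seven 1 ha0⟩
    rw [decide_eq_true_iff] at hw
    subst hw
    refine hY _ ?_
    simpa using htwo _ (hS ▸ m6) _ (hS ▸ m7) h6 h7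

end CfsgLib.Known.Overgroup
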