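import Cfsg.Agent.Lib.Known.Overgroup.Trace
import Cfsg.Agent.Lib.Known.Overgroup.DataScalar
import Cfsg.Agent.Lib.Known.Overgroup.DataKill
import Cfsg.Agent.Lib.Known.Overgroup.Descent

/-!
# Finite groups containing the root elements of a finite field

A finite subgroup `H` of a Chevalley group whose root parameters form the finite field `K` consists of
points fixed by the Frobenius map of `K`.
-/

set_option autoImplicit false

namespace CfsgLib.Known.Overgroup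

open Cfsg.Lie (ChevalleyDatum)
open CfsgLib.Lie.Chev
open scoped Matrix Pointwise

variable {D : ChevalleyDatum} {X : Aux} (C : Cert D X) {k : Type*} [Field k]

/-- matrices of the elements of `H` -/
def rho (H : Subgroup ↥(D.group k)) : ↥H →* Matrix D.Idx D.Idx k :=
  (Units.coeHom _).comp ((D.group k).subtype.comp H.subtype)

/-- matrices of their images -/
def rho' (H : Subgroup ↥(D.group k)) (σ : k →+* k) : ↥H →* Matrix D.Idx D.Idx k :=
  (Units.coeHom _).comp ((D.group k).subtype.comp ((sg D σ).comp H.subtype))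

include C

theorem rho_apply (H : Subgroup ↥(D.group k)) (g : ↥H) : rho H g = (chevRel C k).mat (g : ↥(D.group k)) := rfl

theorem rho'_apply (H : Subgroup ↥(D.group k)) (σ : k →+* k) (g : ↥H) :
    rho' H σ g = (chevRel C k).mat (sg D σ (g : ↥(D.group k))) := rfl

/-- at a normalising element of `B` the top entry of `σ(m) m⁻¹` is one -/
theorem top_entry_eq_one {H : Subgroup ↥(D.group k)} {K : Subfield k}
    (hK : ∀ r, r < D.nroots → ∀ t, (chevRel C k).xe r t ∈ H ↔ t ∈ K) {σ : k →+* k} (hσ : ∀ t ∈ K, σ t = t)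
    {mo : ℕ} (hmo : ModeOK k mo) {exc : List ℕ} {W : List (ℕ × ℕ × ℕ)} (hdesc : chkDesc D mo exc W = true)
    (hexc : D.nroots - 1 ∈ exc) {a0 : D.Idx} (ha0 : code D a0 = topCode D) {m : ↥(D.group k)} (hm : m ∈ H)
    (hB : m ∈ (chevRel C k).BS) :
    ((chevRel C k).mat (sg D σ m) * (chevRel C k).mat m⁻¹) a0 a0 = 1 := by
  have hn := C.nroots_eq
  have hpos : 0 < D.nroots := (Nat.zero_le _).trans_lt (C.simple_lt (i := 0) C.rank_pos)
  obtain ⟨θ, hθ⟩ : ∃ θ : Fin D.nroots, (θ : ℕ) = D.nroots - 1 := ⟨⟨D.nroots - 1, by omega⟩, rfl⟩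
  have hθp : half D ≤ (θ : ℕ) := by omega
  have hθe : (θ : ℕ) ∈ exc := hθ ▸ hexc
  obtain rfl : a0 = Sum.inr θ := code_injective D (by rw [ha0, code_inr, hθ]; rfl)
  obtain ⟨u, hu, t, ht, rfl⟩ := (chevRel C k).exists_of_mem_BS hB
  obtain ⟨a, hmon, ha⟩ := (chevRel C k).exists_mat_HS ht
  have hconj : u * t * (chevRel C k).xe θ 1 * (u * t)⁻¹ = (chevRel C k).xe θ (a θ) := by
    rw [show u * t * (chevRel C k).xe θ 1 * (u * t)⁻¹ = u * (t * (chevRel C k).xe θ 1 * t⁻¹) * u⁻¹ by group,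
      (hmon θ).2.2.2 1, mul_one, Equiv.Perm.coe_one, id_eq, ← exc_central C hmo hdesc hθe _ hu,
      mul_inv_cancel_right]
  have haK : a θ ∈ K := by
    rw [← hK θ θ.2, ← hconj]
    exact mul_mem (mul_mem hm ((hK θ θ.2 1).2 K.one_mem)) (inv_mem hm)
  have hM := (chevRel C k).isTri_mul ((chevRel C k).isUT_mat hu).2 ((chevRel C k).isTri_mat_HS ht)
  have hmm : (chevRel C k).mat (u * t) (Sum.inr θ) (Sum.inr θ) = a θ := by
    rw [(chevRel C k).mat_mul, hM.2, ((chevRel C k).isUT_mat hu).1, one_mul, ha, Matrix.diagonal_apply_eq]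
    rfl
  have hi := (chevRel C k).isTri_mat_BS (inv_mem hB)
  have hσm : (chevRel C k).mat (sg D σ (u * t)) = ((chevRel C k).mat (u * t)).map σ := sg_val σ (u * t)
  have hs : Rel.IsTri ((chevRel C k).mat (sg D σ (u * t))) := fun x y hxy hle => by
    rw [hσm, Matrix.map_apply, (chevRel C k).isTri_mat_BS hB x y hxy hle, map_zero]
  have hinv : ((chevRel C k).mat (u * t) * (chevRel C k).mat (u * t)⁻¹) (Sum.inr θ) (Sum.inr θ) = 1 := by
    rw [← (chevRel C k).mat_mul, mul_inv_cancel, (chevRel C k).mat_one, Matrix.one_apply_eq]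
  rw [((chevRel C k).isTri_mul ((chevRel C k).isTri_mat_BS hB) hi).2, hmm] at hinv
  rw [((chevRel C k).isTri_mul hs hi).2, hσm, Matrix.map_apply, hmm, hσ _ haK, hinv]

set_option synthInstance.maxHeartbeats 400000 in
/-- the main statement, from certificates -/
theorem le_rat_of_data (p : ℕ) [Fact p.Prime] [CharP k p] {H : Subgroup ↥(D.group k)} [Finite H] {K : Subfield k}
    (hK : ∀ r, r < D.nroots → ∀ t, (chevRel C k).xe r t ∈ H ↔ t ∈ K) (σ : k →+* k)
    (hσ : ∀ t, σ t = t ↔ t ∈ K) (hkey : chkKeyInj D X = true)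
    {exc : List ℕ} {W : List (ℕ × ℕ × ℕ)} (hdesc : chkDesc D (min p 5) exc W = true) (htop : D.nroots - 1 ∈ exc)
    (hexc : ∀ e ∈ H, e ∈ (chevRel C k).US {r : Fin D.nroots | (r : ℕ) ∈ exc} → e ∈ rat D σ)
    {L : List (ℕ × ℕ × ℕ)} {Sp : List (List ℕ × ℕ × ℕ)} {Tp : List (List ℕ × ℕ)}
    (hscal : chkScalar D (min p 5) L Sp Tp = true)
    (hkill : ∀ N : Subgroup ↥(D.group k), N ≤ (chevRel C k).UP ⊓ rat D σ →
      N.relIndex ((chevRel C k).UP ⊓ rat D σ) = p →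
      (∀ x ∈ (chevRel C k).UP ⊓ rat D σ, ∀ y ∈ (chevRel C k).UP ⊓ rat D σ, x * y * x⁻¹ * y⁻¹ ∈ N) →
      ∀ a0 : D.Idx, code D a0 = topCode D → ∀ Y : Matrix D.Idx D.Idx k,
        (∀ n ∈ N, Commute ((chevRel C k).mat n) Y) → ¬ (chevRel C k).UP ⊓ rat D σ ≤ N →
        ∃ u ∈ (chevRel C k).UP ⊓ rat D σ, u ∉ N ∧
          (∑ i ∈ Finset.range p, (chevRel C k).mat (u ^ i) * Y * (chevRel C k).mat ((u ^ i)⁻¹)) a0 a0 = 0) :
    H ≤ rat D σ := by
  classical
  have hm : ModeOK k (min p 5) := modeOK_of_char k p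
  have hL : ∀ (r : ℕ) (t : k), r < D.nroots → σ t = t → (chevRel C k).xe r t ∈ H :=
    fun r t hr ht => (hK r hr t).2 ((hσ t).1 ht)
  have hdes : H ⊓ (chevRel C k).UP ≤ rat D σ := inf_UP_le_rat C hm hkey hdesc σ hL hexc
  obtain ⟨S₀, hS₀⟩ : ∃ S₀, S₀ = (chevRel C k).UP ⊓ rat D σ := ⟨_, rfl⟩
  have hS₀H : S₀ ≤ H := fun g hg => by
    rw [hS₀] at hg
    exact mem_of_fixed_UP C hL hg.1 hg.2
  obtain ⟨S, hS⟩ : ∃ S : Subgroup ↥H, S = S₀.subgroupOf H := ⟨_, rfl⟩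
  obtain ⟨H₀, hH₀⟩ : ∃ H₀ : Subgroup ↥H, H₀ = (rat D σ).subgroupOf H := ⟨_, rfl⟩
  have hmemS : ∀ g : ↥H, g ∈ S ↔ (g : ↥(D.group k)) ∈ (chevRel C k).UP := fun g => by
    rw [hS, Subgroup.mem_subgroupOf, hS₀]
    exact ⟨fun h => h.1, fun h => ⟨h, hdes ⟨g.2, h⟩⟩⟩
  have hmem₀ : ∀ g : ↥H, g ∈ H₀ ↔ sg D σ (g : ↥(D.group k)) = g := fun g => by
    rw [hH₀, Subgroup.mem_subgroupOf, mem_rat]
  have hSH : S ≤ H₀ := fun g hg => (hmem₀ g).2 (hdes ⟨g.2, (hmemS g).1 hg⟩)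
  have hpS : IsPGroup p S := fun g => by
    obtain ⟨e, he⟩ := exists_pow_eq_one C p ((hmemS g).1 g.2)
    exact ⟨e, Subtype.ext (Subtype.ext (by simpa using he))⟩
  have hnormB : ∀ g : ↥H, (∀ s ∈ S, g * s * g⁻¹ ∈ S) → (g : ↥(D.group k)) ∈ (chevRel C k).BS := fun g hg =>
    mem_BS_of_conj C fun i => by
      have hx : (⟨(chevRel C k).xe (D.simple i) 1, hL _ _ (C.simple_lt i.2) (map_one σ)⟩ : ↥H) ∈ S :=
        (hmemS _).2 ((chevRel C k).xe_mem_US (S := posSet D) (r := (chevRel C k).sroot i)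
          ((chevRel C k).sroot_pos i) 1)
      exact (hmemS _).1 (hg _ hx)
  -- `S` is a Sylow subgroup
  obtain ⟨P, hSP⟩ := hpS.exists_le_sylow
  have hP : (P : Subgroup ↥H) = S := by
    by_contra hne
    have : Group.IsNilpotent P := P.2.isNilpotent
    have hlt : S.subgroupOf P < ⊤ :=
      lt_top_iff_ne_top.2 fun h => hne (le_antisymm (Subgroup.subgroupOf_eq_top.1 h) hSP)
    obtain ⟨g, hg, hgn⟩ := SetLike.exists_of_lt (Group.normalizerCondition_of_isNilpotent _ hlt)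
    refine hgn (Subgroup.mem_subgroupOf.2 ((hmemS _).2 ?_))
    obtain ⟨e, he⟩ := P.2 g
    refine mem_UP_of_pow C p (e := e) (hnormB g fun s hs => ?_) ?_
    · exact (Subgroup.mem_normalizer_iff.1 hg ⟨s, hSP hs⟩).1 hs
    · simpa using congrArg (fun x : P => ((x : ↥H) : ↥(D.group k))) he
  have hindex : ¬ p ∣ H₀.index := fun h =>
    P.not_dvd_index (hP.symm ▸ h.trans (Subgroup.index_dvd_of_le hSH))
  have hagree : ∀ h ∈ H₀, rho' H σ h = rho H h := fun h hh => by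
    rw [rho_apply C, rho'_apply C, (hmem₀ h).1 hh]
  obtain ⟨a0, ha0⟩ := exists_code D (top_lt C)
  let χ : Matrix D.Idx D.Idx k →ₗ[k] k := Matrix.entryLinearMap k k a0 a0
  have hkt : KillsTraces p (rho H) χ S := by
    intro N hNS hidx _ hcomm Y hY
    obtain ⟨N', hN'⟩ : ∃ N', N' = N.map H.subtype := ⟨_, rfl⟩
    have hmap : S.map H.subtype = S₀ := hS ▸ Subgroup.map_subgroupOf_eq_of_le hS₀H
    have h1 : N' ≤ S₀ := hN' ▸ hmap ▸ Subgroup.map_mono hNS
    have h2 : N'.relIndex S₀ = p := by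
      rw [hN', ← hmap, Subgroup.relIndex_map_map_of_injective _ _ H.subtype_injective, hidx]
    have h3 : ∀ x ∈ S₀, ∀ y ∈ S₀, x * y * x⁻¹ * y⁻¹ ∈ N' := fun x hx y hy => by
      rw [← hmap] at hx hy
      obtain ⟨x', hx', rfl⟩ := hx
      obtain ⟨y', hy', rfl⟩ := hy
      rw [hN']
      exact ⟨_, hcomm x' hx' y' hy', by simp⟩
    have h4 : ∀ n ∈ N', Commute ((chevRel C k).mat n) Y := fun n hn => by
      rw [hN'] at hn
      obtain ⟨n', hn', rfl⟩ := hn
      exact hY n' hn'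
    have h5 : ¬ S₀ ≤ N' := fun h => by
      rw [Subgroup.relIndex_eq_one.2 h] at h2
      exact (Fact.out : p.Prime).one_lt.ne h2
    rw [hS₀] at h1 h2 h3 h5
    obtain ⟨u, hu, huN, hu0⟩ := hkill N' h1 h2 h3 a0 ha0 Y h4 h5
    rw [← hS₀] at hu
    refine ⟨⟨u, hS₀H hu⟩, hS ▸ Subgroup.mem_subgroupOf.2 hu, fun h => huN (hN' ▸ ⟨_, h, rfl⟩), ?_⟩
    exact hu0
  have : Fintype (↥H ⧸ H₀) := Fintype.ofFinite _
  have hfix : ∀ x : ↥H ⧸ H₀, (∀ s ∈ S, s • x = x) → χ (phi (rho H) (rho' H σ) H₀ hagree x) = 1 := by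
    intro x
    induction x using QuotientGroup.induction_on with
    | H h =>
      intro hx
      have hin : ∀ s ∈ S, h⁻¹ * s * h ∈ H₀ := fun s hs => by
        have e : ((s⁻¹ * h : ↥H) : ↥H ⧸ H₀) = (h : ↥H ⧸ H₀) := hx s⁻¹ (inv_mem hs)
        rw [QuotientGroup.eq] at e
        convert e using 1; group
      obtain ⟨Q, hQ⟩ : ∃ Q : Sylow p ↥H, Q = h⁻¹ • P := ⟨_, rfl⟩
      have hQmem : ∀ y, y ∈ (Q : Subgroup ↥H) ↔ h * y * h⁻¹ ∈ S := fun y => by
        rw [hQ, Sylow.coe_subgroup_smul, Subgroup.mem_pointwise_smul_iff_inv_smul_mem, hP]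
        simp [MulAut.smul_def]
      have hQle : (Q : Subgroup ↥H) ≤ H₀ := fun y hy => by
        have := hin _ ((hQmem y).1 hy)
        convert this using 1; group
      obtain ⟨g, hg⟩ := MulAction.exists_smul_eq ↥H₀ (P.subtype (hP.symm ▸ hSH)) (Q.subtype hQle)
      have hcoset : (h : ↥H ⧸ H₀) = ((h * g : ↥H) : ↥H ⧸ H₀) := by
        rw [QuotientGroup.eq, inv_mul_cancel_left]; exact g.2
      rw [hcoset]
      refine top_entry_eq_one C hK (fun t ht => (hσ t).2 ht) hm hdesc htop ha0 (h * g : ↥H).2 (hnormB (h * (g : ↥H)) fun s hs => ?_)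
      have hsP : (⟨s, hSH hs⟩ : ↥H₀) ∈ (P.subtype (hP.symm ▸ hSH) : Subgroup ↥H₀) :=
        Subgroup.mem_subgroupOf.2 (show s ∈ (P : Subgroup ↥H) from hP.symm ▸ hs)
      have h1 := Subgroup.smul_mem_pointwise_smul _ (MulAut.conj g) _ hsP
      rw [← Sylow.coe_subgroup_smul] at h1
      change _ ∈ ((g • P.subtype _ : Sylow p ↥H₀) : Subgroup ↥H₀) at h1
      rw [hg] at h1
      have h2 := (hQmem _).1 (Subgroup.mem_subgroupOf.1 h1)
      simp only [MulAut.smul_def, MulAut.conj_apply, Subgroup.coe_mul, InvMemClass.coe_inv] at h2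
      convert h2 using 1; group
  have hne := trace_ne_zero p (rho H) (rho' H σ) H₀ hagree hpS hSH χ hkt hindex hfix
  obtain ⟨T, hT⟩ : ∃ T, T = trace (rho H) (rho' H σ) H₀ hagree := ⟨_, rfl⟩
  rw [← hT] at hne
  have hint : ∀ g : ↥H, rho' H σ g * T = T * rho H g := fun g => hT ▸ trace_intertwines _ _ _ hagree g
  have hcomm : ∀ r, r < D.nroots → D.x k r 1 * T = T * D.x k r 1 := fun r hr => by
    have h := hint ⟨(chevRel C k).xe r 1, hL r 1 hr (map_one σ)⟩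
    rw [rho_apply C, rho'_apply C] at h
    simp only [sg_xe C, map_one, Rel.mat_xe] at h
    exact h
  obtain ⟨a1, ha1, hscalar⟩ := eq_scalar_of_commute C hm hscal T hcomm
  have ha10 : a1 = a0 := code_injective D (ha1.trans ha0.symm)
  subst ha10
  have hne' : T a1 a1 ≠ 0 := hne
  intro g hg
  have h := hint ⟨g, hg⟩
  rw [hscalar, Algebra.mul_smul_comm, mul_one, Algebra.smul_mul_assoc, one_mul] at h
  exact Subtype.ext (Units.ext ((smul_right_injective _ hne') h))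

end CfsgLib.Known.Overgroup
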