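import Cfsg.Agent.Lib.Known.Overgroup.DataParams

/-!
# The exceptional central elements

Elements of the central root groups that lie in a group with a field `K` of parameters have parameters in `K`.
-/

set_option autoImplicit false

namespace CfsgLib.Known.Overgroup

open Cfsg.Lie
open CfsgLib.Lie.Chev
open scoped Matrix

/-- the pair argument for `B₂` in characteristic two, in any group with such relations -/
theorem pair_mem_field {k : Type*} [Field k] [CharP k 2] {G : Type*} [Group G] (H : Subgroup G) (K : Subfield k)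
    (A B M L : k → G) (hMadd : ∀ x y, M x * M y = M (x + y)) (hLadd : ∀ x y, L x * L y = L (x + y))
    (hAM : ∀ x y, Commute (A x) (M y)) 
    (hBL : ∀ x y, Commute (B x) (L y)) (hML : ∀ x y, Commute (M x) (L y))
    (hrel : ∀ t u, B u * A t = A t * B u * (M (t * u) * L (t ^ 2 * u)))
    (na nb : G) (hna : na ∈ H) (hnb : nb ∈ H) (hbM : ∀ x, nb * M x * nb⁻¹ = A x) (hbL : ∀ x, nb * L x * nb⁻¹ = L x)
    (haM : ∀ x, na * M x * na⁻¹ = M x) (haL : ∀ x, na * L x * na⁻¹ = B x) (hA1 : A 1 ∈ H) (hB1 : B 1 ∈ H)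
    (hKM : ∀ x, M x ∈ H ↔ x ∈ K) (hKL : ∀ x, L x ∈ H ↔ x ∈ K) {t f : k} (he : M t * L f ∈ H) :
    t ∈ K ∧ f ∈ K := by
  have conj2 : ∀ g a b : G, g * (a * b) * g⁻¹ = (g * a * g⁻¹) * (g * b * g⁻¹) := fun g a b => by group
  -- commutators give the pairs `M (x u) L (x² u)`
  have hW : ∀ x u y z : k, A x * L y ∈ H → M z * B u ∈ H → M (x * u) * L (x ^ 2 * u) ∈ H := by
    intro x u y z h1 h2
    have h := mul_mem (mul_mem (mul_mem (inv_mem h2) (inv_mem h1)) h2) h1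
    have e : (M z * B u)⁻¹ * (A x * L y)⁻¹ * (M z * B u) * (A x * L y) = M (x * u) * L (x ^ 2 * u) := by
      have c1 : Commute (M z) (A x * L y) := ((hAM x z).symm).mul_right (hML z y)
      have c2 : Commute (L y) (M (x * u) * L (x ^ 2 * u)) :=
        ((hML (x * u) y).symm).mul_right (show L y * L (x ^ 2 * u) = L (x ^ 2 * u) * L y by
          rw [hLadd, hLadd, add_comm])
      calc (M z * B u)⁻¹ * (A x * L y)⁻¹ * (M z * B u) * (A x * L y)
          = (B u)⁻¹ * ((M z)⁻¹ * (A x * L y)⁻¹ * M z) * B u * (A x * L y) := by group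
        _ = (B u)⁻¹ * (A x * L y)⁻¹ * (B u * A x) * L y := by
            rw [mul_assoc (M z)⁻¹, ← (c1.inv_right).eq, inv_mul_cancel_left]; simp only [mul_assoc]
        _ = (B u)⁻¹ * (L y)⁻¹ * (B u * ((M (x * u) * L (x ^ 2 * u)) * L y)) := by
            rw [hrel, mul_inv_rev]; simp only [mul_assoc, inv_mul_cancel_left]
        _ = (L y)⁻¹ * ((M (x * u) * L (x ^ 2 * u)) * L y) := by
            rw [mul_assoc, ← mul_assoc (L y)⁻¹, ← ((hBL u y).inv_right).eq, mul_assoc, inv_mul_cancel_left]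
        _ = M (x * u) * L (x ^ 2 * u) := by rw [← c2.eq, inv_mul_cancel_left]
    exact e ▸ h
  have hprod : ∀ a b c d : k, (M a * L b) * (M c * L d) = M (a + c) * L (b + d) := fun a b c d => by
    rw [mul_assoc, ← mul_assoc (L b), ← (hML c b).eq, mul_assoc, hLadd, ← mul_assoc, hMadd]
  have hB1' : ∀ z, M z * B 1 ∈ H ↔ M z ∈ H := fun z => Subgroup.mul_mem_cancel_right H hB1
  have hM0 : M 0 = 1 := by simpa using hMadd 0 0
  have hL0 : L 0 = 1 := by simpa using hLadd 0 0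
  have h1 : A t * L f ∈ H := by
    have h := mul_mem (mul_mem hnb he) (inv_mem hnb)
    rwa [conj2, hbM, hbL] at h
  have hP : M t * L (t ^ 2) ∈ H := by
    have h := hW t 1 f 0 h1 (by rw [hM0, one_mul]; exact hB1)
    rwa [mul_one, mul_one] at h
  have hQ : M t * B (t ^ 2) ∈ H := by
    have h := mul_mem (mul_mem hna hP) (inv_mem hna)
    rwa [conj2, haM, haL] at h
  have hP' : A t * L (t ^ 2) ∈ H := by
    have h := mul_mem (mul_mem hnb hP) (inv_mem hnb)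
    rwa [conj2, hbM, hbL] at h
  have hR : M (t ^ 2) * L (t ^ 2) ∈ H := by
    have h := hW 1 (t ^ 2) 0 t (by rw [hL0, mul_one]; exact hA1) hQ
    rwa [one_mul, one_pow, one_mul] at h
  have hS : M (t * t ^ 2) * L (t ^ 2 * t ^ 2) ∈ H := hW t (t ^ 2) (t ^ 2) t hP' hQ
  have ha : t ^ 2 + t ∈ K := by
    have h := mul_mem hR hP
    rw [hprod, CharTwo.add_self_eq_zero, hL0, mul_one, hKM] at h
    exact h
  have hat : (t ^ 2 + t) * t ∈ K := by
    have h := mul_mem hR hS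
    rw [hprod] at h
    have hL' : L (t ^ 2 + t ^ 2 * t ^ 2) ∈ H := by
      rw [hKL, show t ^ 2 + t ^ 2 * t ^ 2 = (t ^ 2 + t) ^ 2 by
        rw [add_pow_char]; ring]
      exact K.pow_mem ha 2
    rw [Subgroup.mul_mem_cancel_right H hL', hKM] at h
    convert h using 1; ring
  have ht : t ∈ K := by
    by_cases h0 : t ^ 2 + t = 0
    · have e : t * (t + 1) = 0 := by rw [← h0]; ring
      rcases mul_eq_zero.1 e with h | h
      · rw [h]; exact K.zero_mem
      · rw [CharTwo.add_eq_zero.1 h]; exact K.one_mem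
    · have := K.div_mem hat ha
      rwa [mul_div_cancel_left₀ _ h0] at this
  refine ⟨ht, ?_⟩
  have h := (Subgroup.mul_mem_cancel_left H ((hKM t).2 ht)).1 he
  exact (hKL f).1 h

section
variable {D : ChevalleyDatum} {X : Aux} (C : Cert D X) {k : Type*} [Field k]
include C

theorem mem_US_single {a : ℕ} {g : ↥(D.group k)}
    (hg : g ∈ (chevRel C k).US {r : Fin D.nroots | (r : ℕ) ∈ [a]}) : ∃ t, g = (chevRel C k).xe a t := by
  induction hg using Subgroup.closure_induction with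
  | one => exact ⟨0, ((chevRel C k).xe_zero a).symm⟩
  | mem y hy =>
    obtain ⟨r, hr, t, rfl⟩ := hy
    exact ⟨t, by rw [List.mem_singleton.1 hr]⟩
  | mul x y _ _ ihx ihy =>
    obtain ⟨s, rfl⟩ := ihx
    obtain ⟨t, rfl⟩ := ihy
    exact ⟨s + t, (chevRel C k).xe_add' _ _ _⟩
  | inv x _ ih =>
    obtain ⟨s, rfl⟩ := ih
    exact ⟨-s, ((chevRel C k).xe_neg _ _).symm⟩

theorem mem_US_pair {a b : ℕ} (hcomm : ∀ x y, Commute ((chevRel C k).xe a x) ((chevRel C k).xe b y))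
    {g : ↥(D.group k)} (hg : g ∈ (chevRel C k).US {r : Fin D.nroots | (r : ℕ) ∈ [a, b]}) :
    ∃ t f, g = (chevRel C k).xe a t * (chevRel C k).xe b f := by
  induction hg using Subgroup.closure_induction with
  | one => exact ⟨0, 0, by rw [(chevRel C k).xe_zero, (chevRel C k).xe_zero, one_mul]⟩
  | mem y hy =>
    obtain ⟨r, hr, t, rfl⟩ := hy
    rcases List.mem_cons.1 hr with h | h
    · exact ⟨t, 0, by rw [h, (chevRel C k).xe_zero, mul_one]⟩
    · exact ⟨0, t, by rw [List.mem_singleton.1 h, (chevRel C k).xe_zero, one_mul]⟩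
  | mul x y _ _ ihx ihy =>
    obtain ⟨s, u, rfl⟩ := ihx
    obtain ⟨t, v, rfl⟩ := ihy
    exact ⟨s + t, u + v, by
      rw [← (chevRel C k).xe_add', ← (chevRel C k).xe_add', mul_assoc, ← mul_assoc ((chevRel C k).xe b u),
        ← (hcomm t u).eq]
      simp only [mul_assoc]⟩
  | inv x _ ih =>
    obtain ⟨s, u, rfl⟩ := ih
    exact ⟨-s, -u, by rw [(chevRel C k).xe_neg, (chevRel C k).xe_neg, mul_inv_rev, ((hcomm s u).inv_inv).eq]⟩

/-- root elements whose commutator terms all vanish commute -/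
theorem commute_of_zc {m : ℕ} (hm : ModeOK k m) {r s : ℕ} (hr : r < D.nroots) (hs : s < D.nroots) (hne : s ≠ r)
    (hneg : s ≠ D.neg r) (h : ((D.commTerms r s).all fun c => zc m c.2.1) = true) (x y : k) :
    Commute ((chevRel C k).xe r x) ((chevRel C k).xe s y) := by
  have hW := (chevRel C k).xe_comm r s x y hr hs hne hneg
  show _ = _
  rw [hW]
  refine (mul_eq_left.2 (List.prod_eq_one fun g hg => ?_)).symm
  simp only [ChevalleyDatum.commWord, List.map_map, List.mem_map, Function.comp_apply] at hg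
  obtain ⟨c, hc, rfl⟩ := hg
  rw [hm.1 _ (List.all_eq_true.1 h c hc), zero_mul, zero_mul, (chevRel C k).xe_zero]

variable {H : Subgroup ↥(D.group k)} {K : Subfield k}
  (hK : ∀ r, r < D.nroots → ∀ t, (chevRel C k).xe r t ∈ H ↔ t ∈ K) {σ : k →+* k} (hσ : ∀ t ∈ K, σ t = t)
include hK hσ

theorem exc_single {a : ℕ} (ha : a < D.nroots) :
    ∀ e ∈ H, e ∈ (chevRel C k).US {r : Fin D.nroots | (r : ℕ) ∈ [a]} → e ∈ rat D σ := by
  intro e he hU
  obtain ⟨t, rfl⟩ := mem_US_single C hU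
  rw [mem_rat, sg_xe C, hσ t ((hK a ha t).1 he)]

omit hσ in
/-- conjugation by simple reflections, in characteristic two -/
theorem pair_conj [CharP k 2] : ∀ (l : List ℕ), (l.all fun i => Nat.blt i D.rank) = true → ∀ r s, r < D.nroots →
    s < D.nroots → ∀ t f, (chevRel C k).xe r t * (chevRel C k).xe s f ∈ H →
      (chevRel C k).xe (l.foldl (fun x i => X.w i x) r) t *
        (chevRel C k).xe (l.foldl (fun x i => X.w i x) s) f ∈ H
  | [], _, _, _, _, _, _, _, h => h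
  | i :: l, hl, r, s, hr, hs, t, f, h => by
    simp only [List.all_cons, Bool.and_eq_true, nat_blt_iff] at hl
    refine pair_conj l hl.2 _ _ (C.w_lt hl.1 hr) (C.w_lt hl.1 hs) t f ?_
    have h1 : HasOnes C H := fun r hr => (hK r hr 1).2 K.one_mem
    have h2 := mul_mem (mul_mem (ne_mem C h1 ⟨i, hl.1⟩) h) (inv_mem (ne_mem C h1 ⟨i, hl.1⟩))
    have hone : ∀ a b : ℕ, ((X.eta a b : ℤ) : k) = 1 := fun a b => by
      rcases X.eta_or a b with h | h <;> simp [h, CharTwo.neg_eq]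
    rw [show ∀ g a b : ↥(D.group k), g * (a * b) * g⁻¹ = (g * a * g⁻¹) * (g * b * g⁻¹) from fun g a b => by group,
      conj_ne_xe C h1 ⟨i, hl.1⟩ r hr, conj_ne_xe C h1 ⟨i, hl.1⟩ s hs, hone, hone, one_mul, one_mul] at h2
    exact h2

omit hσ in
/-- the pair argument inside the group -/
theorem pair_mem [CharP k 2] {a b m L ia ib : ℕ} {c₁ c₂ : ℤ} (hlt : a < D.nroots ∧ b < D.nroots ∧ m < D.nroots ∧ L < D.nroots)
    (hia : ia < D.rank) (hib : ib < D.rank)
    (hw : X.w ia m = m ∧ X.w ia L = b ∧ X.w ib m = a ∧ X.w ib L = L)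
    (hab : D.commTerms a b = [(m, c₁, 1, 1), (L, c₂, 2, 1)]) (hc : (c₁ : k) = 1 ∧ (c₂ : k) = 1)
    (hne : b ≠ a ∧ b ≠ D.neg a)
    (hz : ([(a, m), (a, L), (b, m), (b, L), (m, L)].all fun q =>
      !Nat.beq q.2 q.1 && !Nat.beq q.2 (D.neg q.1) && (D.commTerms q.1 q.2).all fun c => zc 2 c.2.1) = true)
    {t f : k} (he : (chevRel C k).xe m t * (chevRel C k).xe L f ∈ H) : t ∈ K ∧ f ∈ K := by
  have : Fact (Nat.Prime 2) := ⟨Nat.prime_two⟩
  have hm2 : ModeOK k 2 := modeOK_of_char k 2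
  obtain ⟨ha, hb, hm, hL⟩ := hlt
  have h1 : HasOnes C H := fun r hr => (hK r hr 1).2 K.one_mem
  simp only [List.all_cons, List.all_nil, Bool.and_true, Bool.and_eq_true, Bool.not_eq_true', Bool.eq_false_iff,
    ne_eq, nat_beq_iff] at hz
  obtain ⟨⟨⟨n1, g1⟩, z1⟩, ⟨⟨n2, g2⟩, z2⟩, ⟨⟨n3, g3⟩, z3⟩, ⟨⟨n4, g4⟩, z4⟩, ⟨⟨n5, g5⟩, z5⟩⟩ := hz
  have hone : ∀ a b : ℕ, ((X.eta a b : ℤ) : k) = 1 := fun a b => by
    rcases X.eta_or a b with h | h <;> simp [h, CharTwo.neg_eq]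
  have hconj : ∀ i (hi : i < D.rank) r, r < D.nroots → ∀ x, (chevRel C k).ne (D.simple i) 1 * (chevRel C k).xe r x *
      ((chevRel C k).ne (D.simple i) 1)⁻¹ = (chevRel C k).xe (X.w i r) x := fun i hi r hr x => by
    rw [conj_ne_xe C h1 ⟨i, hi⟩ r hr, hone, one_mul]
  refine pair_mem_field H K ((chevRel C k).xe a) ((chevRel C k).xe b) ((chevRel C k).xe m) ((chevRel C k).xe L)
    (fun x y => (chevRel C k).xe_add' _ _ _) (fun x y => (chevRel C k).xe_add' _ _ _)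
    (commute_of_zc C hm2 ha hm n1 g1 z1) (commute_of_zc C hm2 hb hL n4 g4 z4)
    (commute_of_zc C hm2 hm hL n5 g5 z5) (fun x u => ?_)
    _ _ (ne_mem C h1 ⟨ia, hia⟩) (ne_mem C h1 ⟨ib, hib⟩)
    (fun x => (hconj ib hib m hm x).trans (by rw [hw.2.2.1]))
    (fun x => (hconj ib hib L hL x).trans (by rw [hw.2.2.2]))
    (fun x => (hconj ia hia m hm x).trans (by rw [hw.1]))
    (fun x => (hconj ia hia L hL x).trans (by rw [hw.2.1]))
    (h1 a ha) (h1 b hb) (hK m hm) (hK L hL) he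
  have hW := (chevRel C k).xe_comm a b x u ha hb hne.1 hne.2
  simp only [ChevalleyDatum.commWord, hab, List.map_cons, List.map_nil, List.prod_cons, List.prod_nil, mul_one,
    hc.1, hc.2, CharTwo.neg_eq, pow_one, one_mul] at hW
  exact hW

end

variable {k : Type*} [Field k]

theorem exc_B2 [CharP k 2] {H : Subgroup ↥(chevB2.group k)} {K : Subfield k}
    (hK : ∀ r, r < chevB2.nroots → ∀ t, (chevRel certB2 k).xe r t ∈ H ↔ t ∈ K) {σ : k →+* k}
    (hσ : ∀ t ∈ K, σ t = t) :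
    ∀ e ∈ H, e ∈ (chevRel certB2 k).US {r : Fin chevB2.nroots | (r : ℕ) ∈ [6, 7]} → e ∈ rat chevB2 σ := by
  intro e he hU
  have : Fact (Nat.Prime 2) := ⟨Nat.prime_two⟩
  obtain ⟨hn, hr, e54, hw, hne, hz, hcomm⟩ : chevB2.nroots = 8 ∧ chevB2.rank = 2 ∧
      chevB2.commTerms 5 4 = [(6, -1, 1, 1), (7, -1, 2, 1)] ∧
      (auxB2.w 0 6 = 6 ∧ auxB2.w 0 7 = 4 ∧ auxB2.w 1 6 = 5 ∧ auxB2.w 1 7 = 7) ∧ chevB2.neg 5 ≠ 4 ∧
      ([(5, 6), (5, 7), (4, 6), (4, 7), (6, 7)].all fun q =>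
        !Nat.beq q.2 q.1 && !Nat.beq q.2 (chevB2.neg q.1) &&
          (chevB2.commTerms q.1 q.2).all fun c => zc 2 c.2.1) = true ∧
      (chevB2.neg 6 ≠ 7 ∧ ((chevB2.commTerms 6 7).all fun c => zc 2 c.2.1) = true) := by decide +kernel
  obtain ⟨t, f, rfl⟩ := mem_US_pair certB2 (commute_of_zc certB2 (modeOK_of_char k 2) (by omega) (by omega)
    (by omega) (Ne.symm hcomm.1) hcomm.2) hU
  obtain ⟨ht, hf⟩ := pair_mem certB2 hK (ia := 0) (ib := 1) (a := 5) (b := 4) (by omega) (by omega) (by omega) hw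
    e54 (by simp [CharTwo.neg_eq]) ⟨by omega, Ne.symm hne⟩ hz he
  rw [mem_rat, map_mul, sg_xe certB2, sg_xe certB2, hσ t ht, hσ f hf]

theorem exc_F4 [CharP k 2] {H : Subgroup ↥(chevF4.group k)} {K : Subfield k}
    (hK : ∀ r, r < chevF4.nroots → ∀ t, (chevRel certF4 k).xe r t ∈ H ↔ t ∈ K) {σ : k →+* k}
    (hσ : ∀ t ∈ K, σ t = t) :
    ∀ e ∈ H, e ∈ (chevRel certF4 k).US {r : Fin chevF4.nroots | (r : ℕ) ∈ [44, 47]} → e ∈ rat chevF4 σ := by
  intro e he hU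
  have : Fact (Nat.Prime 2) := ⟨Nat.prime_two⟩
  obtain ⟨hn, hr, e54, hw, hne, hz, hcomm, hseq, hf1, hf2⟩ : chevF4.nroots = 48 ∧ chevF4.rank = 4 ∧
      chevF4.commTerms 27 25 = [(28, -1, 1, 1), (30, -1, 2, 1)] ∧
      (auxF4.w 1 28 = 28 ∧ auxF4.w 1 30 = 25 ∧ auxF4.w 2 28 = 27 ∧ auxF4.w 2 30 = 30) ∧ chevF4.neg 27 ≠ 25 ∧
      ([(27, 28), (27, 30), (25, 28), (25, 30), (28, 30)].all fun q =>
        !Nat.beq q.2 q.1 && !Nat.beq q.2 (chevF4.neg q.1) &&
          (chevF4.commTerms q.1 q.2).all fun c => zc 2 c.2.1) = true ∧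
      (chevF4.neg 44 ≠ 47 ∧ ((chevF4.commTerms 44 47).all fun c => zc 2 c.2.1) = true) ∧
      (([0, 1, 3, 2, 1, 0, 2, 3] : List ℕ).all fun i => Nat.blt i chevF4.rank) = true ∧
      ([0, 1, 3, 2, 1, 0, 2, 3] : List ℕ).foldl (fun x i => auxF4.w i x) 44 = 28 ∧
      ([0, 1, 3, 2, 1, 0, 2, 3] : List ℕ).foldl (fun x i => auxF4.w i x) 47 = 30 := by decide +kernel
  obtain ⟨t, f, rfl⟩ := mem_US_pair certF4 (commute_of_zc certF4 (modeOK_of_char k 2) (by omega) (by omega)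
    (by omega) (Ne.symm hcomm.1) hcomm.2) hU
  have h := pair_conj certF4 hK _ hseq 44 47 (by omega) (by omega) t f he
  rw [hf1, hf2] at h
  obtain ⟨ht, hf⟩ := pair_mem certF4 hK (ia := 1) (ib := 2) (a := 27) (b := 25) (by omega) (by omega) (by omega) hw
    e54 (by simp [CharTwo.neg_eq]) ⟨by omega, Ne.symm hne⟩ hz h
  rw [mem_rat, map_mul, sg_xe certF4, sg_xe certF4, hσ t ht, hσ f hf]

theorem exc_G2 [CharP k 3] {H : Subgroup ↥(chevG2.group k)} {K : Subfield k}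
    (hK : ∀ r, r < chevG2.nroots → ∀ t, (chevRel certG2 k).xe r t ∈ H ↔ t ∈ K) {σ : k →+* k}
    (hσ : ∀ t ∈ K, σ t = t) :
    ∀ e ∈ H, e ∈ (chevRel certG2 k).US {r : Fin chevG2.nroots | (r : ℕ) ∈ [9, 11]} → e ∈ rat chevG2 σ := by
  intro e he hU
  have : Fact (Nat.Prime 3) := ⟨Nat.prime_three⟩
  obtain ⟨hn, hr, hw, hneg, h69, h610, h911⟩ : chevG2.nroots = 12 ∧ chevG2.rank = 2 ∧
      (auxG2.w 1 9 = 9 ∧ auxG2.w 1 11 = 10) ∧ chevG2.neg 6 = 5 ∧ chevG2.commTerms 6 9 = [] ∧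
      chevG2.commTerms 6 10 = [(11, 1, 1, 1)] ∧
      (chevG2.neg 9 ≠ 11 ∧ ((chevG2.commTerms 9 11).all fun c => zc 3 c.2.1) = true) := by decide +kernel
  obtain ⟨t, f, rfl⟩ := mem_US_pair certG2 (commute_of_zc certG2 (modeOK_of_char k 3) (by omega) (by omega)
    (by omega) (Ne.symm h911.1) h911.2) hU
  have h1 : HasOnes certG2 H := fun r hr => (hK r hr 1).2 K.one_mem
  have hne1 := ne_mem certG2 h1 ⟨1, by omega⟩
  have h := mul_mem (mul_mem hne1 he) (inv_mem hne1)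
  rw [show ∀ g a b : ↥(chevG2.group k), g * (a * b) * g⁻¹ = (g * a * g⁻¹) * (g * b * g⁻¹) from
    fun g a b => by group, conj_ne_xe certG2 h1 ⟨1, by omega⟩ 9 (by omega),
    conj_ne_xe certG2 h1 ⟨1, by omega⟩ 11 (by omega), hw.1, hw.2] at h
  obtain ⟨g, hg⟩ : ∃ g, g = (chevRel certG2 k).xe 6 1 := ⟨_, rfl⟩
  obtain ⟨x, hx⟩ : ∃ x, x = (auxG2.eta 1 9 : k) * t := ⟨_, rfl⟩
  obtain ⟨y, hy⟩ : ∃ y, y = (auxG2.eta 1 11 : k) * f := ⟨_, rfl⟩
  rw [← hx, ← hy] at h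
  have c9 : Commute g ((chevRel certG2 k).xe 9 x) := hg ▸ commute_of_zc certG2 (modeOK_of_char k 3) (by omega)
    (by omega) (by omega) (by omega) (by rw [h69]; rfl) 1 x
  have c10 := (chevRel certG2 k).xe_comm 6 10 1 y (by omega) (by omega) (by omega) (by omega)
  simp only [ChevalleyDatum.commWord, h610, List.map_cons, List.map_nil, List.prod_cons, List.prod_nil,
    mul_one, Int.cast_one, pow_one, one_mul, neg_mul] at c10
  rw [← hg] at c10
  have hgH : g ∈ H := hg ▸ h1 6 (by omega)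
  have h2 := mul_mem (mul_mem (mul_mem (inv_mem h) (inv_mem hgH)) h) hgH
  have e2 : ((chevRel certG2 k).xe 9 x * (chevRel certG2 k).xe 10 y)⁻¹ * g⁻¹ *
      ((chevRel certG2 k).xe 9 x * (chevRel certG2 k).xe 10 y) * g = (chevRel certG2 k).xe 11 (-y) := by
    rw [mul_assoc, mul_assoc ((chevRel certG2 k).xe 9 x) ((chevRel certG2 k).xe 10 y) g, c10]
    simp only [mul_assoc]
    rw [← mul_assoc ((chevRel certG2 k).xe 9 x) g, ← c9.eq]
    group
  rw [e2, hK 11 (by omega)] at h2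
  have hyK : y ∈ K := by simpa using K.neg_mem h2
  have hη : ∀ i s, ((auxG2.eta i s : ℤ) : k) ∈ K := fun i s => intCast_mem K _
  have hf : f ∈ K := by
    have := K.mul_mem (hη 1 11) hyK
    rwa [hy, ← mul_assoc, auxG2.eta_sq_cast, one_mul] at this
  have ht : t ∈ K := (hK 9 (by omega) t).1
    ((Subgroup.mul_mem_cancel_right H ((hK 11 (by omega) f).2 hf)).1 he)
  rw [mem_rat, map_mul, sg_xe certG2, sg_xe certG2, hσ t ht, hσ f hf]

end CfsgLib.Known.Overgroup
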