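import Cfsg.Agent.Lib.Known.Overgroup.DataParams

/-!
# The parameters form a field, type by type
-/

set_option autoImplicit false

namespace CfsgLib.Known.Overgroup

open Cfsg.Lie
open CfsgLib.Lie.Chev
open scoped Matrix

section
variable {D : ChevalleyDatum} {X : Aux} (C : Cert D X) {k : Type*} [Field k] (p : ℕ) [Fact p.Prime] [CharP k p]
  {H : Subgroup ↥(D.group k)} (h1 : HasOnes C H)
include C p h1

omit h1 in
theorem hdiv_of_ne_two {r : ℕ} (hp : p ≠ 2) (x : k) (hx : (2 : k) * x ∈ par C H r) :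
    x ∈ par C H r := by
  refine par_of_unit C p (c := 2) (fun h => hp ?_) (by exact_mod_cast hx)
  have : ((2 : ℕ) : k) = 0 := by exact_mod_cast h
  exact ((Nat.prime_dvd_prime_iff_eq (Fact.out : p.Prime) Nat.prime_two).1 ((CharP.cast_eq_zero_iff k p 2).1 this))

omit p [Fact p.Prime] [CharP k p] h1 in
theorem par_sub {r : ℕ} {s t : k} (hs : s ∈ par C H r) (ht : t ∈ par C H r) : s - t ∈ par C H r := by
  rw [sub_eq_add_neg]; exact par_add C hs (par_neg C ht)

/-- one orbit, with a single-term commutator relation -/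
theorem field_laced [Finite H] {rep a b u : ℕ} {L : List (ℕ × ℕ)} (hL : chkOrbGo D X L (2 ^ rep) = true)
    (hcov : ((List.range D.nroots).all fun r => (orbMask X L (2 ^ rep)).testBit r) = true)
    {c : ℤ} (hrep : rep < D.nroots) (ha : a < D.nroots) (hb : b < D.nroots) (hu : u < D.nroots) (hne : b ≠ a)
    (hneg : b ≠ D.neg a) (hterms : D.commTerms a b = [(u, c, 1, 1)]) (hc : c = 1 ∨ c = -1) :
    ∃ K : Subfield k, Finite K ∧ ∀ r, r < D.nroots → ∀ t, (chevRel C k).xe r t ∈ H ↔ t ∈ K := by
  have hall : ∀ r, r < D.nroots → par C H r = par C H rep := fun r hr =>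
    orbit C h1 hL (by simp only [List.all_eq_true, List.mem_range] at hcov; exact hcov r hr)
  refine exists_field C h1 hrep hall fun s hs t ht => ?_
  rw [← hall u hu]
  exact par_of_single C ha hb hne hneg hterms p (by rcases hc with rfl | rfl <;> simp)
    (by rw [hall a ha]; exact hs) (by rw [hall b hb]; exact ht)

/-- the relations of a short root `a` and a long root `b` -/
theorem doubly {a b m L : ℕ} {c₁ c₂ : ℤ} (ha : a < D.nroots) (hb : b < D.nroots) (hne : b ≠ a)
    (hneg : b ≠ D.neg a) (hterms : D.commTerms a b = [(m, c₁, 1, 1), (L, c₂, 2, 1)]) (hc₁ : c₁ = 1 ∨ c₁ = -1)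
    (hc₂ : c₂ = 1 ∨ c₂ = -1) (hlong : par C H b = par C H L) (hshort : par C H a = par C H m) :
    par C H b ⊆ par C H a ∧ ∀ s ∈ par C H a, s ^ 2 ∈ par C H b := by
  have h : ∀ s ∈ par C H a, ∀ t ∈ par C H b,
      (chevRel C k).xe m ((c₁ : k) * (-s) * t) * (chevRel C k).xe L ((c₂ : k) * (-s) ^ 2 * t) ∈ H := by
    intro s hs t ht
    have h := wordProd_mem C ha hb hne hneg hs ht
    simpa [ChevalleyDatum.commWord, hterms, mul_assoc] using h
  refine ⟨fun t ht => ?_, fun s hs => ?_⟩
  · have h' := h 1 (h1 a ha) t ht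
    have hL' : (c₂ : k) * (-1 : k) ^ 2 * t ∈ par C H L := by
      rw [← hlong, neg_one_sq, mul_one]; exact par_zsmul C ht c₂
    have hm' : (c₁ : k) * (-1) * t ∈ par C H m := (Subgroup.mul_mem_cancel_right H hL').1 h'
    rw [← hshort] at hm'
    have := par_of_unit C p (c := c₁) (by rcases hc₁ with rfl | rfl <;> simp)
      (show (c₁ : k) * t ∈ par C H a by
        have e := par_neg C hm'
        rwa [mul_neg, mul_one, neg_mul, neg_neg] at e)
    exact this
  · have h' := h s hs 1 (h1 b hb)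
    have hm' : (c₁ : k) * (-s) * 1 ∈ par C H m := by
      rw [← hshort, mul_one, mul_neg]; exact par_neg C (par_zsmul C hs c₁)
    have hL' : (c₂ : k) * (-s) ^ 2 * 1 ∈ par C H L := (Subgroup.mul_mem_cancel_left H hm').1 h'
    rw [← hlong, mul_one, neg_sq] at hL'
    exact par_of_unit C p (by rcases hc₂ with rfl | rfl <;> simp) hL'

end

variable {k : Type*} [Field k]

theorem field_F4 (p : ℕ) [Fact p.Prime] [CharP k p] {H : Subgroup ↥(chevF4.group k)} [Finite H] (h1 : HasOnes certF4 H) :
    ∃ K : Subfield k, Finite K ∧ ∀ r, r < chevF4.nroots → ∀ t, (chevRel certF4 k).xe r t ∈ H ↔ t ∈ K := by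
  obtain ⟨hn, e1, e2, e3⟩ : chevF4.nroots = 48 ∧ chevF4.commTerms 33 27 = [(34, -1, 1, 1)] ∧
      chevF4.commTerms 27 25 = [(28, -1, 1, 1), (30, -1, 2, 1)] ∧
      (chevF4.neg 33 = 14 ∧ chevF4.neg 27 = 20) := by decide +kernel
  have hmask : ∀ r : Fin 48, ((orbMask auxF4 orbF4_1 (2 ^ 47)).testBit r ||
      (orbMask auxF4 orbF4_2 (2 ^ 44)).testBit r) = true := by decide +kernel
  have hl : ∀ r, (orbMask auxF4 orbF4_1 (2 ^ 47)).testBit r = true → par certF4 H r = par certF4 H 47 := fun r hr =>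
    orbit certF4 h1 chkOrbF4_1 hr
  have hs : ∀ r, (orbMask auxF4 orbF4_2 (2 ^ 44)).testBit r = true → par certF4 H r = par certF4 H 44 := fun r hr =>
    orbit certF4 h1 chkOrbF4_2 hr
  have hsr : ∀ r, r = 33 ∨ r = 27 ∨ r = 34 ∨ r = 28 → par certF4 H r = par certF4 H 44 := by
    intro r hr
    exact hs r (by rcases hr with rfl | rfl | rfl | rfl <;> decide +kernel)
  have hlr : ∀ r, r = 25 ∨ r = 30 → par certF4 H r = par certF4 H 47 := by
    intro r hr
    exact hl r (by rcases hr with rfl | rfl <;> decide +kernel)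
  have hmulB : ∀ s ∈ par certF4 H 44, ∀ t ∈ par certF4 H 44, s * t ∈ par certF4 H 44 := fun s hs' t ht => by
    rw [← hsr 34 (by simp)]
    exact par_of_single certF4 (by omega) (by omega) (by omega) (by omega) e1 p (by simp)
      (by rw [hsr 33 (by simp)]; exact hs') (by rw [hsr 27 (by simp)]; exact ht)
  obtain ⟨hAB, hsq⟩ := doubly certF4 p h1 (a := 27) (b := 25) (by omega) (by omega) (by omega) (by omega) e2
    (Or.inr rfl) (Or.inr rfl) (by rw [hlr 25 (by simp), hlr 30 (by simp)]) (by rw [hsr 27 (by simp), hsr 28 (by simp)])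
  rw [hlr 25 (by simp), hsr 27 (by simp)] at hAB
  rw [hlr 25 (by simp), hsr 27 (by simp)] at hsq
  have hAB' := eq_of_sq p (par_finite certF4 (r := 44) (by omega)) hAB (h1 47 (by omega))
    (fun _ hx _ hy => par_add certF4 hx hy) (fun hp x hx => hdiv_of_ne_two certF4 p hp x hx)
    (fun _ hx _ hy => par_sub certF4 hx hy) hsq
  refine exists_field certF4 h1 (rep := 44) (by omega) (fun r hr => ?_) hmulB
  rcases (Bool.or_eq_true _ _).mp (hmask ⟨r, by omega⟩) with h | h
  · rw [hl r h, hAB']
  · exact hs r h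

theorem field_B2 (p : ℕ) [Fact p.Prime] [CharP k p] {H : Subgroup ↥(chevB2.group k)} [Finite H] (h1 : HasOnes certB2 H) :
    ∃ K : Subfield k, Finite K ∧ ∀ r, r < chevB2.nroots → ∀ t, (chevRel certB2 k).xe r t ∈ H ↔ t ∈ K := by
  obtain ⟨hn, e56, e54, e45, hneg, hw, hsimp, hc⟩ : chevB2.nroots = 8 ∧
      chevB2.commTerms 5 6 = [(7, 2, 1, 1)] ∧ chevB2.commTerms 5 4 = [(6, -1, 1, 1), (7, -1, 2, 1)] ∧
      chevB2.commTerms 4 5 = [(6, 1, 1, 1), (7, -1, 1, 2)] ∧
      (chevB2.neg 5 = 2 ∧ chevB2.neg 4 = 3 ∧ chevB2.neg 6 = 1) ∧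
      (auxB2.w 0 6 = 6 ∧ auxB2.w 0 7 = 4) ∧ chevB2.simple 0 = 5 ∧
      (chevB2.commTerms 6 5 = [(7, -2, 1, 1)] ∧ chevB2.commTerms 6 7 = []) := by decide +kernel
  have hrank : 0 < chevB2.rank := certB2.rank_pos
  have hmask : ∀ r : Fin 8, ((orbMask auxB2 orbB2_1 (2 ^ 7)).testBit r ||
      (orbMask auxB2 orbB2_2 (2 ^ 6)).testBit r) = true := by decide +kernel
  have hl : ∀ r, (orbMask auxB2 orbB2_1 (2 ^ 7)).testBit r = true → par certB2 H r = par certB2 H 7 := fun r hr =>
    orbit certB2 h1 chkOrbB2_1 hr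
  have hs : ∀ r, (orbMask auxB2 orbB2_2 (2 ^ 6)).testBit r = true → par certB2 H r = par certB2 H 6 := fun r hr =>
    orbit certB2 h1 chkOrbB2_2 hr
  have h5 : par certB2 H 5 = par certB2 H 6 := hs 5 (by decide +kernel)
  have h4 : par certB2 H 4 = par certB2 H 7 := hl 4 (by decide +kernel)
  obtain ⟨hAB, hsq⟩ := doubly certB2 p h1 (a := 5) (b := 4) (by omega) (by omega) (by omega) (by omega) e54
    (Or.inr rfl) (Or.inr rfl) h4 h5
  rw [h4, h5] at hAB hsq
  have hAB' := eq_of_sq p (par_finite certB2 (r := 6) (by omega)) hAB (h1 7 (by omega))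
    (fun _ hx _ hy => par_add certB2 hx hy) (fun hp x hx => hdiv_of_ne_two certB2 p hp x hx)
    (fun _ hx _ hy => par_sub certB2 hx hy) hsq
  refine exists_field certB2 h1 (rep := 6) (by omega) (fun r hr => ?_) ?_
  · rcases (Bool.or_eq_true _ _).mp (hmask ⟨r, by omega⟩) with h | h
    · rw [hl r h, hAB']
    · exact hs r h
  by_cases hp : p = 2
  · subst hp
    have h20 : (2 : k) = 0 := CharTwo.two_eq_zero
    have hone : ∀ i s, ((auxB2.eta i s : ℤ) : k) = 1 := fun i s => by
      rcases auxB2.eta_or i s with h | h <;> simp [h, CharTwo.neg_eq]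
    -- membership of the pairs
    obtain ⟨P, hP⟩ : ∃ P : k → Prop, P = fun m => ∀ r ∈ par certB2 H 6,
        (chevRel certB2 k).xe 6 (r * m) * (chevRel certB2 k).xe 7 (r ^ 2 * m) ∈ H := ⟨_, rfl⟩
    have hbase : ∀ t ∈ par certB2 H 6, P t := by
      rw [hP]
      intro t ht r hr
      have h := wordProd_mem certB2 (r := 5) (s := 4) (by omega) (by omega) (by omega) (by omega)
        (t := r) (u := t) (by rw [h5]; exact hr) (by rw [h4, hAB']; exact ht)
      simp only [ChevalleyDatum.commWord, e54, List.map_cons, List.map_nil, List.prod_cons, List.prod_nil,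
        mul_one] at h
      convert h using 3 <;> simp [CharTwo.neg_eq]
    have c56 : ∀ x y : k, (chevRel certB2 k).xe 6 x * (chevRel certB2 k).xe 5 y =
        (chevRel certB2 k).xe 5 y * (chevRel certB2 k).xe 6 x := fun x y => by
      have h := (chevRel certB2 k).xe_comm 5 6 y x (by omega) (by omega) (by omega) (by omega)
      simp only [ChevalleyDatum.commWord, e56, List.map_cons, List.map_nil, List.prod_cons, List.prod_nil,
        mul_one] at h
      rw [show ((2 : ℤ) : k) = 0 by exact_mod_cast h20, zero_mul, zero_mul, (chevRel certB2 k).xe_zero, mul_one] at h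
      exact h
    have c67 : ∀ x y : k, (chevRel certB2 k).xe 7 y * (chevRel certB2 k).xe 6 x =
        (chevRel certB2 k).xe 6 x * (chevRel certB2 k).xe 7 y := fun x y => by
      have h := (chevRel certB2 k).xe_comm 6 7 x y (by omega) (by omega) (by omega) (by omega)
      simpa [ChevalleyDatum.commWord, hc.2] using h
    have hstep : ∀ m, P m → ∀ s ∈ par certB2 H 6, P (s ^ 2 * m) := by
      rw [hP]
      intro m hm r hr r' hr'
      have hn5 := ne_mem certB2 h1 ⟨0, hrank⟩
      have hx := mul_mem (mul_mem hn5 (hm r hr)) (inv_mem hn5)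
      rw [← mul_assoc, show ∀ g a b : ↥(chevB2.group k), g * a * b * g⁻¹ = (g * a * g⁻¹) * (g * b * g⁻¹) from
        fun g a b => by group, conj_ne_xe certB2 h1 ⟨0, hrank⟩ 6 (by omega),
        conj_ne_xe certB2 h1 ⟨0, hrank⟩ 7 (by omega), hw.1, hw.2, hone, hone, one_mul, one_mul] at hx
      have h5r : (chevRel certB2 k).xe 5 r' ∈ H := show r' ∈ par certB2 H 5 by rw [h5]; exact hr'
      have hW := mul_mem (mul_mem (mul_mem (inv_mem hx) (inv_mem h5r)) hx) h5r
      have hrel := (chevRel certB2 k).xe_comm 5 4 r' (r ^ 2 * m) (by omega) (by omega) (by omega) (by omega)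
      simp only [ChevalleyDatum.commWord, e54, List.map_cons, List.map_nil, List.prod_cons, List.prod_nil,
        mul_one] at hrel
      have e : ((chevRel certB2 k).xe 6 (r * m) * (chevRel certB2 k).xe 4 (r ^ 2 * m))⁻¹ *
          ((chevRel certB2 k).xe 5 r')⁻¹ *
          ((chevRel certB2 k).xe 6 (r * m) * (chevRel certB2 k).xe 4 (r ^ 2 * m)) * (chevRel certB2 k).xe 5 r' =
          (chevRel certB2 k).xe 6 (r' * (r ^ 2 * m)) * (chevRel certB2 k).xe 7 (r' ^ 2 * (r ^ 2 * m)) := by
        have hcomm : ((chevRel certB2 k).xe 6 (r * m))⁻¹ * ((chevRel certB2 k).xe 5 r')⁻¹ *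
            (chevRel certB2 k).xe 6 (r * m) = ((chevRel certB2 k).xe 5 r')⁻¹ := by
          rw [mul_assoc, inv_mul_eq_iff_eq_mul, inv_mul_eq_iff_eq_mul, ← mul_assoc, ← c56, mul_inv_cancel_right]
        rw [mul_inv_rev]
        rw [show ∀ a b c d : ↥(chevB2.group k), a⁻¹ * b⁻¹ * c⁻¹ * (b * a) * d = a⁻¹ * (b⁻¹ * c⁻¹ * b) * a * d from
          fun a b c d => by group, hcomm, mul_assoc _ ((chevRel certB2 k).xe 4 _), hrel]
        simp only [mul_assoc, inv_mul_cancel_left]
        congr 2 <;> simp [CharTwo.neg_eq]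
      rw [e] at hW
      exact hW
    obtain ⟨E, hE⟩ : ∃ E : Set k, E = {m | P m} := ⟨_, rfl⟩
    have hsqA : ∀ s ∈ par certB2 H 6, ∃ s' ∈ par certB2 H 6, s' ^ 2 = s := by
      have hfin : Finite (par certB2 H 6) := par_finite certB2 (by omega)
      have hbij : Function.Bijective (fun s : par certB2 H 6 => (⟨(s : k) ^ 2, hAB' ▸ hsq s s.2⟩ : par certB2 H 6)) :=
        Finite.injective_iff_bijective.1 fun a b h => Subtype.ext (by
          have h0 : ((a : k) - b) ^ 2 = 0 := by
            rw [sub_pow_char, show (a : k) ^ 2 = (b : k) ^ 2 from congrArg Subtype.val h, sub_self]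
          exact sub_eq_zero.1 (pow_eq_zero_iff two_ne_zero |>.1 h0))
      intro s hs'
      obtain ⟨s', e⟩ := hbij.2 ⟨s, hs'⟩
      exact ⟨s', s'.2, congrArg Subtype.val e⟩
    intro s hs' t ht
    by_cases htriv : ∀ r ∈ par certB2 H 6, r = 0 ∨ r = 1
    · rcases htriv s hs' with rfl | rfl
      · rw [zero_mul]; exact par_zero certB2 6
      · rw [one_mul]; exact ht
    push_neg at htriv
    obtain ⟨r₀, hr₀, hr0, hr1⟩ := htriv
    have hc0 : r₀ ^ 2 + r₀ ≠ 0 := fun h => by
      have e : r₀ * (r₀ + 1) = 0 := by rw [← h]; ring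
      rcases mul_eq_zero.1 e with h' | h'
      · exact hr0 h'
      · exact hr1 (CharTwo.add_eq_zero.1 h')
    obtain ⟨s', hs'', rfl⟩ := hsqA s hs'
    have hmul : ∀ m, P m → (r₀ ^ 2 + r₀) * m ∈ par certB2 H 6 := by
      intro m hm
      obtain ⟨r₁, hr₁, e⟩ := hsqA r₀ hr₀
      have hm' : P (r₀ * m) := e ▸ hstep m hm r₁ hr₁
      rw [hP] at hm hm'
      have a1 := hm r₀ hr₀
      have a2 := hm' 1 (h1 6 (by omega))
      rw [one_mul, one_pow, one_mul] at a2
      have a3 := mul_mem a1 (inv_mem a2)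
      rw [mul_inv_rev, ← (chevRel certB2 k).xe_neg, ← (chevRel certB2 k).xe_neg, ← mul_assoc,
        mul_assoc ((chevRel certB2 k).xe 6 (r₀ * m)), (chevRel certB2 k).xe_add', mul_assoc,
        c67, ← mul_assoc, (chevRel certB2 k).xe_add', add_neg_cancel, (chevRel certB2 k).xe_zero, one_mul] at a3
      rw [← hAB']
      show (chevRel certB2 k).xe 7 _ ∈ H
      convert a3 using 2
      rw [CharTwo.neg_eq]; ring
    have hPst : P (s' ^ 2 * t) := hstep t (hbase t ht) s' hs''
    -- the set of admissible `m` is not larger than the parameter set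
    have hfinA : Finite (par certB2 H 6) := par_finite certB2 (by omega)
    obtain ⟨e, he⟩ : ∃ e : par certB2 H 6 → par certB2 H 6, e = fun x => ⟨_, hmul x (hbase x x.2)⟩ := ⟨_, rfl⟩
    have hsurj : Function.Surjective e := (Finite.injective_iff_surjective.1 fun a b h => by
      rw [he] at h
      exact Subtype.ext (mul_left_cancel₀ hc0 (congrArg Subtype.val h)))
    obtain ⟨x, hx⟩ := hsurj ⟨_, hmul _ hPst⟩
    rw [he] at hx
    have := mul_left_cancel₀ hc0 (congrArg Subtype.val hx)
    rw [← this]; exact x.2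
  · intro s hs' t ht
    have h2 : ((2 : ℤ) : k) ≠ 0 := fun h => hp
      ((Nat.prime_dvd_prime_iff_eq (Fact.out : p.Prime) Nat.prime_two).1
        ((CharP.cast_eq_zero_iff k p 2).1 (by exact_mod_cast h)))
    exact hAB (par_of_single certB2 (r := 5) (s := 6) (by omega) (by omega) (by omega) (by omega) e56 p h2
      (by rw [h5]; exact hs') ht)

theorem field_G2 (p : ℕ) [Fact p.Prime] [CharP k p] {H : Subgroup ↥(chevG2.group k)} [Finite H] (h1 : HasOnes certG2 H) :
    ∃ K : Subfield k, Finite K ∧ ∀ r, r < chevG2.nroots → ∀ t, (chevRel certG2 k).xe r t ∈ H ↔ t ∈ K := by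
  obtain ⟨hn, e610, e76, e89, e68, e69, hneg, hsimp, hcart⟩ : chevG2.nroots = 12 ∧
      chevG2.commTerms 6 10 = [(11, 1, 1, 1)] ∧
      chevG2.commTerms 7 6 = [(8, -1, 1, 1), (9, 1, 2, 1), (10, 1, 3, 1), (11, 1, 3, 2)] ∧
      chevG2.commTerms 8 9 = [(11, 3, 1, 1)] ∧ chevG2.commTerms 6 8 = [] ∧ chevG2.commTerms 6 9 = [] ∧
      (chevG2.neg 6 = 5 ∧ chevG2.neg 7 = 4 ∧ chevG2.neg 8 = 3 ∧ chevG2.neg 9 = 2 ∧ chevG2.neg 10 = 1) ∧
      (chevG2.rank = 2 ∧ chevG2.simple 1 = 6) ∧ (chevG2.cartan 1 8 = 1 ∧ chevG2.cartan 1 9 = 0) := by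
    decide +kernel
  have hmask : ∀ r : Fin 12, ((orbMask auxG2 orbG2_1 (2 ^ 11)).testBit r ||
      (orbMask auxG2 orbG2_2 (2 ^ 9)).testBit r) = true := by decide +kernel
  have hl : ∀ r, (orbMask auxG2 orbG2_1 (2 ^ 11)).testBit r = true → par certG2 H r = par certG2 H 11 := fun r hr =>
    orbit certG2 h1 chkOrbG2_1 hr
  have hs : ∀ r, (orbMask auxG2 orbG2_2 (2 ^ 9)).testBit r = true → par certG2 H r = par certG2 H 9 := fun r hr =>
    orbit certG2 h1 chkOrbG2_2 hr
  have h6 : par certG2 H 6 = par certG2 H 11 := hl 6 (by decide +kernel)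
  have h10 : par certG2 H 10 = par certG2 H 11 := hl 10 (by decide +kernel)
  have hneg6 : par certG2 H 5 = par certG2 H 11 := hl 5 (by decide +kernel)
  have h7 : par certG2 H 7 = par certG2 H 9 := hs 7 (by decide +kernel)
  have h8 : par certG2 H 8 = par certG2 H 9 := hs 8 (by decide +kernel)
  have hmulA : ∀ s ∈ par certG2 H 11, ∀ t ∈ par certG2 H 11, s * t ∈ par certG2 H 11 := fun s hs' t ht =>
    par_of_single certG2 (r := 6) (s := 10) (by omega) (by omega) (by omega) (by omega) e610 p (by simp)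
      (by rw [h6]; exact hs') (by rw [h10]; exact ht)
  obtain ⟨K, hK⟩ := exists_subfield _ (par_finite certG2 (H := H) (r := 11) (by omega)) (h1 11 (by omega))
    (fun _ hx _ hy => par_add certG2 hx hy) (fun _ hx => par_neg certG2 hx) hmulA
  have hmemK : ∀ x, x ∈ K ↔ x ∈ par certG2 H 11 := fun x => by rw [← SetLike.mem_coe, hK]
  have hint : ∀ c : ℤ, (c : k) ∈ K := fun c => intCast_mem K c
  -- commutators of `x_a(s)` and `x_b(t)`
  have hrel : ∀ s ∈ par certG2 H 7, ∀ t ∈ par certG2 H 6,
      (chevRel certG2 k).xe 8 (s * t) * (chevRel certG2 k).xe 9 (s ^ 2 * t) *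
        ((chevRel certG2 k).xe 10 (-(s ^ 3 * t)) * (chevRel certG2 k).xe 11 (-(s ^ 3 * t ^ 2))) ∈ H := by
    intro s hs' t ht
    have h := wordProd_mem certG2 (by omega) (by omega) (by omega) (by omega) hs' ht
    simp only [ChevalleyDatum.commWord, e76, List.map_cons, List.map_nil, List.prod_cons, List.prod_nil,
      mul_one] at h
    rw [show ((-1 : ℤ) : k) * (-s) ^ 1 * t ^ 1 = s * t by push_cast; ring,
      show ((1 : ℤ) : k) * (-s) ^ 2 * t ^ 1 = s ^ 2 * t by push_cast; ring,
      show ((1 : ℤ) : k) * (-s) ^ 3 * t ^ 1 = -(s ^ 3 * t) by push_cast; ring,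
      show ((1 : ℤ) : k) * (-s) ^ 3 * t ^ 2 = -(s ^ 3 * t ^ 2) by push_cast; ring] at h
    rwa [mul_assoc]
  -- long parameters are short parameters
  have hAB : par certG2 H 11 ⊆ par certG2 H 9 := by
    intro t ht
    by_cases htriv : ∀ c ∈ K, c = 0 ∨ c = 1
    · rcases htriv t ((hmemK t).2 ht) with rfl | rfl
      · exact par_zero certG2 9
      · exact h1 9 (by omega)
    push_neg at htriv
    obtain ⟨c, hc, hc0, hc1⟩ := htriv
    obtain ⟨t', ht', rfl⟩ : ∃ t', t' ∈ K ∧ t = (c - 1) * t' :=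
      ⟨t / (c - 1), K.div_mem ((hmemK t).2 ht) (K.sub_mem hc K.one_mem), by
        rw [mul_div_cancel₀]; exact sub_ne_zero.2 hc1⟩
    have hw := hrel 1 (h1 7 (by omega)) t' (by rw [h6]; exact (hmemK t').1 ht')
    simp only [one_pow, one_mul] at hw
    have hlong : (chevRel certG2 k).xe 10 (-t') * (chevRel certG2 k).xe 11 (-t' ^ 2) ∈ H := by
      refine mul_mem (show -t' ∈ par certG2 H 10 by rw [h10]; exact (hmemK _).1 (K.neg_mem ht'))
        (show -t' ^ 2 ∈ par certG2 H 11 from (hmemK _).1 (K.neg_mem (K.pow_mem ht' 2)))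
    have hw' := (Subgroup.mul_mem_cancel_right H hlong).1 hw
    have hb : 1 < chevG2.rank := by omega
    have hne : ∀ u, u ∈ K → (chevRel certG2 k).ne (chevG2.simple 1) u ∈ H := fun u hu => by
      rw [hsimp.2]
      refine mul_mem (mul_mem (show u ∈ par certG2 H 6 by rw [h6]; exact (hmemK u).1 hu) ?_)
        (show u ∈ par certG2 H 6 by rw [h6]; exact (hmemK u).1 hu)
      show (-u⁻¹) ∈ par certG2 H (chevG2.neg 6)
      rw [hneg.1, hneg6]
      exact (hmemK _).1 (K.neg_mem (K.inv_mem hu))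
    have hh : (chevRel certG2 k).he (chevG2.simple 1) c ∈ H := mul_mem (hne c hc) (hne _ (K.neg_mem K.one_mem))
    have hmon := (chevRel certG2 k).isMon_he_simple ⟨1, hb⟩ hc0
    have h8c := (hmon ⟨8, by omega⟩).2.2.2 t'
    have h9c := (hmon ⟨9, by omega⟩).2.2.2 t'
    simp only [Equiv.Perm.coe_one, id_eq, hcart.1, hcart.2, zpow_one, zpow_zero, one_mul] at h8c h9c
    have := mul_mem (mul_mem (mul_mem hh hw') (inv_mem hh)) (inv_mem hw')
    rw [show ∀ g a b : ↥(chevG2.group k), g * (a * b) * g⁻¹ = (g * a * g⁻¹) * (g * b * g⁻¹) from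
      fun g a b => by group, h8c, h9c, mul_inv_rev, ← mul_assoc, mul_inv_cancel_right,
      ← (chevRel certG2 k).xe_neg, (chevRel certG2 k).xe_add'] at this
    rw [← h8]
    show (chevRel certG2 k).xe 8 _ ∈ H
    convert this using 2
    ring
  have hall : ∀ r, r < chevG2.nroots → par certG2 H r = par certG2 H 11 := by
    have hBA : par certG2 H 9 ⊆ par certG2 H 11 := by
      intro s hs'
      by_cases hp : p = 3
      · subst hp
        have h30 : (3 : k) = 0 := by exact_mod_cast CharP.cast_eq_zero k 3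
        have hw := hrel s (by rw [h7]; exact hs') 1 (by rw [h6]; exact h1 11 (by omega))
        simp only [mul_one, one_pow] at hw
        have hx6 : (chevRel certG2 k).xe 6 1 ∈ H := h1 6 (by omega)
        have e := mul_mem (mul_mem (mul_mem hx6 hw) (inv_mem hx6)) (inv_mem hw)
        have comm : ∀ r, r = 8 ∨ r = 9 → ∀ x, (chevRel certG2 k).xe 6 1 * (chevRel certG2 k).xe r x =
            (chevRel certG2 k).xe r x * (chevRel certG2 k).xe 6 1 := fun r hr x => by
          have h := (chevRel certG2 k).xe_comm 6 r 1 x (by omega) (by omega) (by omega)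
            (by rcases hr with rfl | rfl <;> omega)
          rcases hr with rfl | rfl <;> simp [ChevalleyDatum.commWord, e68, e69] at h <;> exact h.symm
        have hx10 := (chevRel certG2 k).xe_comm 6 10 1 (-s ^ 3) (by omega) (by omega) (by omega) (by omega)
        simp only [ChevalleyDatum.commWord, e610, List.map_cons, List.map_nil, List.prod_cons, List.prod_nil,
          mul_one, Int.cast_one, pow_one, one_mul] at hx10
        obtain ⟨z, hz⟩ : ∃ z, z = (chevRel certG2 k).xe 11 (-s ^ 3) := ⟨_, rfl⟩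
        have hmemU : ∀ r, 6 ≤ r → r < 12 → ∀ y, (chevRel certG2 k).xe r y ∈ (chevRel certG2 k).UP := fun r h6r hr y =>
          (chevRel certG2 k).xe_mem_US (S := posSet chevG2) (r := ⟨r, by omega⟩)
            (show half chevG2 ≤ r by simp only [half, hn]; omega) y
        have hzc : ∀ g ∈ (chevRel certG2 k).UP, z * g = g * z := fun g hg =>
          hz ▸ exc_central certG2 (modeOK_of_char k 3) chkDescG2_3 (r := 11) (by simp) _ hg
        have hx10' : (chevRel certG2 k).xe 6 1 * (chevRel certG2 k).xe 10 (-s ^ 3) =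
            (chevRel certG2 k).xe 10 (-s ^ 3) * (chevRel certG2 k).xe 6 1 * z := by
          rw [hx10, mul_assoc, hz, (chevRel certG2 k).xe_add',
            show -(1 : k) * -s ^ 3 + -s ^ 3 = 0 by ring, (chevRel certG2 k).xe_zero, mul_one]
        obtain ⟨g, hg⟩ : ∃ g, g = (chevRel certG2 k).xe 6 1 := ⟨_, rfl⟩
        rw [← hg] at hx10' e
        have key : ∀ a b c : ↥(chevG2.group k), g * a = a * g → g * b = b * g → g * c = c * g * z →
            g * (a * b * (c * z)) = a * b * (c * z) * (g * z) := fun a b c ha hb hc => by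
          simp only [← mul_assoc]
          rw [ha, mul_assoc a g b, hb, ← mul_assoc a b g, mul_assoc (a * b) g c, hc]
          simp only [mul_assoc]
          rw [← mul_assoc z g z, hzc g (hg ▸ hmemU 6 le_rfl (by omega) 1), mul_assoc g z z]
        rw [← hz, key _ _ _ (hg ▸ comm 8 (Or.inl rfl) s) (hg ▸ comm 9 (Or.inr rfl) (s ^ 2)) hx10',
          show ∀ W a b : ↥(chevG2.group k), W * (a * b) * a⁻¹ * W⁻¹ = W * (a * b * a⁻¹) * W⁻¹ from
            fun W a b => by group, ← hzc g (hg ▸ hmemU 6 le_rfl (by omega) 1), mul_inv_cancel_right,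
          ← hzc _ (mul_mem (mul_mem (hmemU 8 (by omega) (by omega) _) (hmemU 9 (by omega) (by omega) _))
            (mul_mem (hmemU 10 (by omega) (by omega) _) (hz ▸ hmemU 11 (by omega) (by omega) _))),
          mul_inv_cancel_right, hz] at e
        have h3 : s ^ 3 ∈ K := (hmemK _).2 (by simpa using par_neg certG2 (show -s ^ 3 ∈ par certG2 H 11 from e))
        -- Frobenius is bijective on the finite field
        have hfinK : Finite K := Set.finite_coe_iff.2 (show (K : Set k).Finite from hK ▸ par_finite certG2 (by omega))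
        have hbij : Function.Bijective (fun x : K => x ^ 3) :=
          Finite.injective_iff_bijective.1 fun a b h => Subtype.ext (by
            have h0 : ((a : k) - b) ^ 3 = 0 := by
              rw [sub_pow_char, show (a : k) ^ 3 = (b : k) ^ 3 from congrArg Subtype.val h, sub_self]
            exact sub_eq_zero.1 (pow_eq_zero_iff (by norm_num) |>.1 h0))
        obtain ⟨x, hx⟩ := hbij.2 ⟨s ^ 3, h3⟩
        have hxs : (x : k) = s := by
          have h0 : ((x : k) - s) ^ 3 = 0 := by
            rw [sub_pow_char, show (x : k) ^ 3 = s ^ 3 from congrArg Subtype.val hx, sub_self]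
          exact sub_eq_zero.1 (pow_eq_zero_iff (by norm_num) |>.1 h0)
        exact hxs ▸ (hmemK _).1 x.2
      · have h3 : ((3 : ℤ) : k) ≠ 0 := fun h => hp
          ((Nat.prime_dvd_prime_iff_eq (Fact.out : p.Prime) Nat.prime_three).1
            ((CharP.cast_eq_zero_iff k p 3).1 (by exact_mod_cast h)))
        simpa using par_of_single certG2 (r := 8) (s := 9) (by omega) (by omega) (by omega) (by omega) e89 p h3
          (by rw [h8]; exact hs') (h1 9 (by omega))
    intro r hr
    rcases (Bool.or_eq_true _ _).mp (hmask ⟨r, by omega⟩) with h | h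
    · exact hl r h
    · rw [hs r h]; exact Set.Subset.antisymm hBA hAB
  exact exists_field certG2 h1 (rep := 11) (by omega) hall hmulA

/-- the parameters form a field -/
theorem field_all (p : ℕ) [Fact p.Prime] [CharP k p] {D : ChevalleyDatum}
    (hD : D ∈ [chevG2, chevB2, chevD4, chevF4, chevE6, chevE7, chevE8]) {X : Aux} (C : Cert D X)
    {H : Subgroup ↥(D.group k)} [Finite H] (h1 : HasOnes C H) :
    ∃ K : Subfield k, Finite K ∧ ∀ r, r < D.nroots → ∀ t, (chevRel C k).xe r t ∈ H ↔ t ∈ K := by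
  simp only [List.mem_cons, List.not_mem_nil, or_false] at hD
  rcases hD with rfl | rfl | rfl | rfl | rfl | rfl | rfl
  · exact field_G2 p h1
  · exact field_B2 p h1
  · exact field_laced certD4 p h1 chkOrbD4_1 coverD4 (a := 18) (b := 14) (u := 19) (c := -1) (by decide +kernel)
      (by decide +kernel) (by decide +kernel) (by decide +kernel) (by decide) (by decide +kernel)
      (by decide +kernel) (Or.inr rfl)
  · exact field_F4 p h1
  · exact field_laced certE6 p h1 chkOrbE6_1 coverE6 (a := 56) (b := 42) (u := 57) (c := -1) (by decide +kernel)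
      (by decide +kernel) (by decide +kernel) (by decide +kernel) (by decide) (by decide +kernel)
      (by decide +kernel) (Or.inr rfl)
  · exact field_laced certE7 p h1 chkOrbE7_1 coverE7 (a := 93) (b := 73) (u := 94) (c := -1) (by decide +kernel)
      (by decide +kernel) (by decide +kernel) (by decide +kernel) (by decide) (by decide +kernel)
      (by decide +kernel) (Or.inr rfl)
  · exact field_laced certE8 p h1 chkOrbE8_1 coverE8 (a := 162) (b := 135) (u := 163) (c := -1) (by decide +kernel)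
      (by decide +kernel) (by decide +kernel) (by decide +kernel) (by decide) (by decide +kernel)
      (by decide +kernel) (Or.inr rfl)

end CfsgLib.Known.Overgroup
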