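import Cfsg.Agent.Lib.Known.Overgroup.Main
import Cfsg.Agent.Lib.Known.Overgroup.Types
import Cfsg.Agent.Lib.Known.Overgroup.Special
import Cfsg.Agent.Lib.Known.Overgroup.KillB2

/-!
# Finite subgroups containing all `x_r(1)`
-/

set_option autoImplicit false

namespace CfsgLib.Known.Overgroup

open Cfsg.Lie
open CfsgLib.Lie.Chev
open scoped Matrix

variable {k : Type*} [Field k]

/-- the exceptional central elements in a group with a field of parameters are fixed -/
def ExcOK {D : ChevalleyDatum} {X : Aux} (C : Cert D X) (k : Type*) [Field k] (exc : List ℕ) : Prop :=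
  ∀ (H : Subgroup ↥(D.group k)) (K : Subfield k), (∀ r, r < D.nroots → ∀ t, (chevRel C k).xe r t ∈ H ↔ t ∈ K) →
    ∀ σ : k →+* k, (∀ t ∈ K, σ t = t) →
      ∀ e ∈ H, e ∈ (chevRel C k).US {r : Fin D.nroots | (r : ℕ) ∈ exc} → e ∈ rat D σ

/-- the top entry kills the traces -/
def KillOK {D : ChevalleyDatum} {X : Aux} (C : Cert D X) (k : Type*) [Field k] (p : ℕ) : Prop :=
  ∀ (σ : k →+* k) (N : Subgroup ↥(D.group k)), N ≤ (chevRel C k).UP ⊓ rat D σ →
    N.relIndex ((chevRel C k).UP ⊓ rat D σ) = p →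
    (∀ x ∈ (chevRel C k).UP ⊓ rat D σ, ∀ y ∈ (chevRel C k).UP ⊓ rat D σ, x * y * x⁻¹ * y⁻¹ ∈ N) →
    ∀ a0 : D.Idx, code D a0 = topCode D → ∀ Y : Matrix D.Idx D.Idx k,
      (∀ n ∈ N, Commute ((chevRel C k).mat n) Y) → ¬ (chevRel C k).UP ⊓ rat D σ ≤ N →
      ∃ u ∈ (chevRel C k).UP ⊓ rat D σ, u ∉ N ∧
        (∑ i ∈ Finset.range p, (chevRel C k).mat (u ^ i) * Y * (chevRel C k).mat ((u ^ i)⁻¹)) a0 a0 = 0

theorem killOK_of_chk {D : ChevalleyDatum} {X : Aux} (C : Cert D X) (p : ℕ) [Fact p.Prime] [CharP k p] {m : ℕ}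
    (hmp : m = min p 5) {der : List (ℕ × ℕ × ℕ)} {L : List (ℕ × List (ℕ × List (List ℕ × ℕ × ℕ × ℤ)))}
    (h : chkKill D m der L = true) : KillOK C k p :=
  fun _ _ _ _ hcomm _ ha0 _ hY hne =>
    exists_kill C (hmp ▸ modeOK_of_char k p) hmp hcomm h ha0 hY hne

/-- all that is needed for a type in a characteristic -/
def DataOK {D : ChevalleyDatum} {X : Aux} (C : Cert D X) (k : Type*) [Field k] (p : ℕ) : Prop :=
  chkKeyInj D X = true ∧ ∃ exc W L S T, chkDesc D (min p 5) exc W = true ∧ D.nroots - 1 ∈ exc ∧ ExcOK C k exc ∧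
    chkScalar D (min p 5) L S T = true ∧ KillOK C k p

theorem excOK_top {D : ChevalleyDatum} {X : Aux} (C : Cert D X) {a : ℕ} (ha : a < D.nroots) : ExcOK C k [a] :=
  fun _ _ hK _ hσ => exc_single C hK hσ ha

theorem dataG2 (p : ℕ) [Fact p.Prime] [CharP k p] : DataOK certG2 k p := by
  refine ⟨keyInjG2, ?_⟩
  rcases mode_cases p with h | h | h
  · obtain rfl : p = 2 := by omega
    exact ⟨[11], _, _, _, _, chkDescG2_2, by decide +kernel, (excOK_top certG2 (by decide +kernel)), scalarG2_2, (killOK_of_chk certG2 2 rfl chkKillG2_2)⟩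
  · obtain rfl : p = 3 := by omega
    exact ⟨[9, 11], _, _, _, _, chkDescG2_3, by decide +kernel, (fun _ _ hK _ hσ => exc_G2 hK hσ), scalarG2_3, (killOK_of_chk certG2 3 rfl chkKillG2_3)⟩
  · exact ⟨[11], _, _, _, _, by rw [h]; exact chkDescG2_5, by decide +kernel, (excOK_top certG2 (by decide +kernel)), by rw [h]; exact scalarG2_5, (killOK_of_chk certG2 p h.symm chkKillG2_5)⟩

theorem dataB2 (p : ℕ) [Fact p.Prime] [CharP k p] : DataOK certB2 k p := by
  refine ⟨keyInjB2, ?_⟩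
  rcases mode_cases p with h | h | h
  · obtain rfl : p = 2 := by omega
    exact ⟨[6, 7], _, _, _, _, chkDescB2_2, by decide +kernel, (fun _ _ hK _ hσ => exc_B2 hK hσ), scalarB2_2, (fun _ _ hNS hidx hcomm _ ha0 _ hY hne => exists_kill_B2 certB2 hcomm (modeOK_of_char k 2) rfl hNS hidx ha0 hY hne)⟩
  · obtain rfl : p = 3 := by omega
    exact ⟨[7], _, _, _, _, chkDescB2_3, by decide +kernel, (excOK_top certB2 (by decide +kernel)), scalarB2_3, (killOK_of_chk certB2 3 rfl chkKillB2_3)⟩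
  · exact ⟨[7], _, _, _, _, by rw [h]; exact chkDescB2_5, by decide +kernel, (excOK_top certB2 (by decide +kernel)), by rw [h]; exact scalarB2_5, (killOK_of_chk certB2 p h.symm chkKillB2_5)⟩

theorem dataD4 (p : ℕ) [Fact p.Prime] [CharP k p] : DataOK certD4 k p := by
  refine ⟨keyInjD4, ?_⟩
  rcases mode_cases p with h | h | h
  · obtain rfl : p = 2 := by omega
    exact ⟨[23], _, _, _, _, chkDescD4_2, by decide +kernel, (excOK_top certD4 (by decide +kernel)), scalarD4_2, (killOK_of_chk certD4 2 rfl chkKillD4_2)⟩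
  · obtain rfl : p = 3 := by omega
    exact ⟨[23], _, _, _, _, chkDescD4_3, by decide +kernel, (excOK_top certD4 (by decide +kernel)), scalarD4_3, (killOK_of_chk certD4 3 rfl chkKillD4_3)⟩
  · exact ⟨[23], _, _, _, _, by rw [h]; exact chkDescD4_5, by decide +kernel, (excOK_top certD4 (by decide +kernel)), by rw [h]; exact scalarD4_5, (killOK_of_chk certD4 p h.symm chkKillD4_5)⟩

theorem dataF4 (p : ℕ) [Fact p.Prime] [CharP k p] : DataOK certF4 k p := by
  refine ⟨keyInjF4, ?_⟩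
  rcases mode_cases p with h | h | h
  · obtain rfl : p = 2 := by omega
    exact ⟨[44, 47], _, _, _, _, chkDescF4_2, by decide +kernel, (fun _ _ hK _ hσ => exc_F4 hK hσ), scalarF4_2, (killOK_of_chk certF4 2 rfl chkKillF4_2)⟩
  · obtain rfl : p = 3 := by omega
    exact ⟨[47], _, _, _, _, chkDescF4_3, by decide +kernel, (excOK_top certF4 (by decide +kernel)), scalarF4_3, (killOK_of_chk certF4 3 rfl chkKillF4_3)⟩
  · exact ⟨[47], _, _, _, _, by rw [h]; exact chkDescF4_5, by decide +kernel, (excOK_top certF4 (by decide +kernel)), by rw [h]; exact scalarF4_5, (killOK_of_chk certF4 p h.symm chkKillF4_5)⟩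

theorem dataE6 (p : ℕ) [Fact p.Prime] [CharP k p] : DataOK certE6 k p := by
  refine ⟨keyInjE6, ?_⟩
  rcases mode_cases p with h | h | h
  · obtain rfl : p = 2 := by omega
    exact ⟨[71], _, _, _, _, chkDescE6_2, by decide +kernel, (excOK_top certE6 (by decide +kernel)), scalarE6_2, (killOK_of_chk certE6 2 rfl chkKillE6_2)⟩
  · obtain rfl : p = 3 := by omega
    exact ⟨[71], _, _, _, _, chkDescE6_3, by decide +kernel, (excOK_top certE6 (by decide +kernel)), scalarE6_3, (killOK_of_chk certE6 3 rfl chkKillE6_3)⟩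
  · exact ⟨[71], _, _, _, _, by rw [h]; exact chkDescE6_5, by decide +kernel, (excOK_top certE6 (by decide +kernel)), by rw [h]; exact scalarE6_5, (killOK_of_chk certE6 p h.symm chkKillE6_5)⟩

theorem dataE7 (p : ℕ) [Fact p.Prime] [CharP k p] : DataOK certE7 k p := by
  refine ⟨keyInjE7, ?_⟩
  rcases mode_cases p with h | h | h
  · obtain rfl : p = 2 := by omega
    exact ⟨[125], _, _, _, _, chkDescE7_2, by decide +kernel, (excOK_top certE7 (by decide +kernel)), scalarE7_2, (killOK_of_chk certE7 2 rfl chkKillE7_2)⟩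
  · obtain rfl : p = 3 := by omega
    exact ⟨[125], _, _, _, _, chkDescE7_3, by decide +kernel, (excOK_top certE7 (by decide +kernel)), scalarE7_3, (killOK_of_chk certE7 3 rfl chkKillE7_3)⟩
  · exact ⟨[125], _, _, _, _, by rw [h]; exact chkDescE7_5, by decide +kernel, (excOK_top certE7 (by decide +kernel)), by rw [h]; exact scalarE7_5, (killOK_of_chk certE7 p h.symm chkKillE7_5)⟩

theorem dataE8 (p : ℕ) [Fact p.Prime] [CharP k p] : DataOK certE8 k p := by
  refine ⟨keyInjE8, ?_⟩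
  rcases mode_cases p with h | h | h
  · obtain rfl : p = 2 := by omega
    exact ⟨[239], _, _, _, _, chkDescE8_2, by decide +kernel, (excOK_top certE8 (by decide +kernel)), scalarE8_2, (killOK_of_chk certE8 2 rfl chkKillE8_2)⟩
  · obtain rfl : p = 3 := by omega
    exact ⟨[239], _, _, _, _, chkDescE8_3, by decide +kernel, (excOK_top certE8 (by decide +kernel)), scalarE8_3, (killOK_of_chk certE8 3 rfl chkKillE8_3)⟩
  · exact ⟨[239], _, _, _, _, by rw [h]; exact chkDescE8_5, by decide +kernel, (excOK_top certE8 (by decide +kernel)), by rw [h]; exact scalarE8_5, (killOK_of_chk certE8 p h.symm chkKillE8_5)⟩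

/-- finite subgroups containing all `x_r(1)` lie between the groups of a finite field and of its fixed points -/
theorem rational_of_cert {D : ChevalleyDatum} {X : Aux} (C : Cert D X) (p : ℕ) [Fact p.Prime] [CharP k p]
    (hdata : DataOK C k p) {H : Subgroup ↥(D.group k)} [Finite H] {K : Subfield k} [Finite K]
    (hK : ∀ r, r < D.nroots → ∀ t, (chevRel C k).xe r t ∈ H ↔ t ∈ K) :
    ∃ f : ℕ, Nat.card K = p ^ f ∧ (∀ x : k, x ^ p ^ f = x ↔ x ∈ K) ∧
      ∀ g ∈ H, ∀ i j : D.Idx, ((g : GL D.Idx k) : Matrix D.Idx D.Idx k) i j ^ p ^ f =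
        ((g : GL D.Idx k) : Matrix D.Idx D.Idx k) i j := by
  obtain ⟨f, -, hcard, hf⟩ := exists_frob p K
  obtain ⟨hkey, exc, W, L, S, T, hdesc, htop, hexc, hscal, hkill⟩ := hdata
  have hσ : ∀ t, iterateFrobenius k p f t = t ↔ t ∈ K := fun t => by rw [iterateFrobenius_def]; exact hf t
  have h := le_rat_of_data C p hK (iterateFrobenius k p f) hσ hkey hdesc htop
    (hexc H K hK _ fun t ht => (hσ t).2 ht) hscal (hkill _)
  refine ⟨f, hcard, hf, fun g hg i j => ?_⟩
  have e := congrArg (fun x : ↥(D.group k) => ((x : GL D.Idx k) : Matrix D.Idx D.Idx k) i j) (h hg)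
  simp only [MonoidHom.id_apply, sg_val, Matrix.map_apply, iterateFrobenius_def] at e
  exact e

/-- the same for a member of the list -/
theorem rational_of_ones {D : ChevalleyDatum}
    (hD : D ∈ [chevG2, chevB2, chevD4, chevF4, chevE6, chevE7, chevE8]) {X : Aux} (C : Cert D X) (p : ℕ)
    [Fact p.Prime] [CharP k p] {H : Subgroup ↥(D.group k)} [Finite H]
    (h1 : ∀ r, r < D.nroots → xG C k r 1 ∈ H) :
    ∃ f : ℕ, ∃ K : Subfield k, Finite K ∧ Nat.card K = p ^ f ∧ (∀ x : k, x ^ p ^ f = x ↔ x ∈ K) ∧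
      (∀ r, r < D.nroots → ∀ t, xG C k r t ∈ H ↔ t ∈ K) ∧
      ∀ g ∈ H, ∀ i j : D.Idx, ((g : GL D.Idx k) : Matrix D.Idx D.Idx k) i j ^ p ^ f =
        ((g : GL D.Idx k) : Matrix D.Idx D.Idx k) i j := by
  simp only [List.mem_cons, List.not_mem_nil, or_false] at hD
  rcases hD with rfl | rfl | rfl | rfl | rfl | rfl | rfl
  · obtain ⟨K, hKfin, hK⟩ := field_all p (by simp) certG2 (H := H) h1
    obtain ⟨f, e1, e2, e3⟩ := rational_of_cert certG2 p (dataG2 p) hK
    exact ⟨f, K, hKfin, e1, e2, hK, e3⟩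
  · obtain ⟨K, hKfin, hK⟩ := field_all p (by simp) certB2 (H := H) h1
    obtain ⟨f, e1, e2, e3⟩ := rational_of_cert certB2 p (dataB2 p) hK
    exact ⟨f, K, hKfin, e1, e2, hK, e3⟩
  · obtain ⟨K, hKfin, hK⟩ := field_all p (by simp) certD4 (H := H) h1
    obtain ⟨f, e1, e2, e3⟩ := rational_of_cert certD4 p (dataD4 p) hK
    exact ⟨f, K, hKfin, e1, e2, hK, e3⟩
  · obtain ⟨K, hKfin, hK⟩ := field_all p (by simp) certF4 (H := H) h1
    obtain ⟨f, e1, e2, e3⟩ := rational_of_cert certF4 p (dataF4 p) hK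
    exact ⟨f, K, hKfin, e1, e2, hK, e3⟩
  · obtain ⟨K, hKfin, hK⟩ := field_all p (by simp) certE6 (H := H) h1
    obtain ⟨f, e1, e2, e3⟩ := rational_of_cert certE6 p (dataE6 p) hK
    exact ⟨f, K, hKfin, e1, e2, hK, e3⟩
  · obtain ⟨K, hKfin, hK⟩ := field_all p (by simp) certE7 (H := H) h1
    obtain ⟨f, e1, e2, e3⟩ := rational_of_cert certE7 p (dataE7 p) hK
    exact ⟨f, K, hKfin, e1, e2, hK, e3⟩
  · obtain ⟨K, hKfin, hK⟩ := field_all p (by simp) certE8 (H := H) h1
    obtain ⟨f, e1, e2, e3⟩ := rational_of_cert certE8 p (dataE8 p) hK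
    exact ⟨f, K, hKfin, e1, e2, hK, e3⟩

end CfsgLib.Known.Overgroup
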