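import Cfsg.Agent.Lib.Known.Overgroup.Checks

/-!
# Endomorphisms of the adjoint module commuting with all `x_r(1)` are scalars
-/

set_option autoImplicit false

namespace CfsgLib.Known.Overgroup

open Cfsg.Lie (ChevalleyDatum)
open CfsgLib.Lie.Chev
open scoped Matrix

/-- number of the highest root coordinate -/
def topCode (D : ChevalleyDatum) : ℕ := D.rank + (D.nroots - 1)

/-- number of coordinates -/
def dimN (D : ChevalleyDatum) : ℕ := D.rank + D.nroots

/-- a row of a list of entries -/
def rowL (L : List (ℕ × ℕ × ℤ)) (a : ℕ) : List (ℕ × ℤ) :=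
  (L.filter fun e => Nat.beq e.1 a).map fun e => (e.2.1, e.2.2)

/-- a column of a list of entries -/
def colL (L : List (ℕ × ℕ × ℤ)) (b : ℕ) : List (ℕ × ℤ) :=
  (L.filter fun e => Nat.beq e.2.1 b).map fun e => (e.1, e.2.2)

/-- `x_r(1)` fixes the highest root vector -/
def fixesTop (D : ChevalleyDatum) (m r : ℕ) : Bool := (colL (e1 D r) (topCode D)).all fun q => zc m q.2

/-- the coordinates which vanish on the vectors fixed by the stabiliser of the highest root vector -/
def chkFixGo (D : ChevalleyDatum) (m : ℕ) : List (ℕ × ℕ × ℕ) → ℕ → Bool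
  | [], M => (List.range (dimN D)).all fun j => Nat.blt j D.rank || M.testBit j
  | (r, a, c) :: L, M =>
    Nat.blt r D.nroots && Nat.blt a (dimN D) && fixesTop D m r &&
      chkComb m M.testBit (rowL (e1 D r) a) c && chkFixGo D m L (M ||| 2 ^ c)

/-- the fixed-space certificate -/
def chkFix (D : ChevalleyDatum) (m : ℕ) (L : List (ℕ × ℕ × ℕ)) : Bool :=
  chkFixGo D m L (2 ^ topCode D) && (List.range D.rank).all fun i => fixesTop D m (D.simple i)

/-- apply `x_r(1) - 1` to an integer combination of coordinate vectors -/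
def appV (D : ChevalleyDatum) (r : ℕ) (v : List (ℕ × ℤ)) : List (ℕ × ℤ) :=
  v.flatMap fun q => (colL (e1 D r) q.1).map fun q' => (q'.1, q.2 * q'.2)

/-- apply a list of operators, the first one first -/
def opsV (D : ChevalleyDatum) (ops : List ℕ) (b : ℕ) : List (ℕ × ℤ) := ops.foldl (fun v r => appV D r v) [(b, 1)]

/-- spanning certificate -/
def chkSpanGo (D : ChevalleyDatum) (m : ℕ) : List (List ℕ × ℕ × ℕ) → ℕ → Bool
  | [], M => (List.range (dimN D)).all fun j => M.testBit j
  | (ops, b, c) :: L, M =>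
    (ops.all fun r => Nat.blt r D.nroots) && M.testBit b &&
      chkComb m M.testBit (opsV D ops b) c && chkSpanGo D m L (M ||| 2 ^ c)

/-- the highest root vector is in the sum of the images of the `x_r(1) - 1` -/
def chkTop (D : ChevalleyDatum) (m : ℕ) (T : List (List ℕ × ℕ)) : Bool :=
  (T.all fun q => !q.1.isEmpty && q.1.all fun r => Nat.blt r D.nroots) &&
    chkComb m (fun _ => false) (T.flatMap fun q => opsV D q.1 q.2) (topCode D)

/-- the whole certificate -/
def chkScalar (D : ChevalleyDatum) (m : ℕ) (L : List (ℕ × ℕ × ℕ)) (S : List (List ℕ × ℕ × ℕ))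
    (T : List (List ℕ × ℕ)) : Bool :=
  chkFix D m L && chkSpanGo D m S (2 ^ topCode D) && chkTop D m T

theorem testBit_or_two_pow {M c j : ℕ} (h : (M ||| 2 ^ c).testBit j = true) : M.testBit j = true ∨ j = c := by
  rw [Nat.testBit_or, Bool.or_eq_true, Nat.testBit_two_pow, decide_eq_true_iff] at h
  exact h.imp id Eq.symm

variable {D : ChevalleyDatum} {X : Aux} (C : Cert D X) {k : Type*} [Field k] {m : ℕ} (hm : ModeOK k m)

/-- the combination as a vector -/
def vecOf (D : ChevalleyDatum) (k : Type*) [Field k] (v : List (ℕ × ℤ)) : D.Idx → k :=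
  (v.map fun q => (q.2 : k) • bv D k q.1).sum

include C

theorem e1_mulVec_bv {r : ℕ} (hr : r < D.nroots) (j : ℕ) :
    tm D k (e1 D r) *ᵥ bv D k j = vecOf D k (colL (e1 D r) j) := by
  by_cases hj : j < D.rank + D.nroots
  · rw [tm_mulVec_bv hj, vecOf, colL, List.map_map]
    rfl
  · have h1 : bv D k j = 0 := funext fun a => if_neg (fun e : code D a = j => hj (e ▸ code_lt D a))
    have h2 : colL (e1 D r) j = [] := by
      rw [colL, List.map_eq_nil_iff, List.filter_eq_nil_iff]
      exact fun e he h => hj (nat_beq_iff.1 h ▸ e1_col_lt C hr e he)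
    rw [h1, h2, Matrix.mulVec_zero]; rfl

theorem appV_spec {r : ℕ} (hr : r < D.nroots) (v : List (ℕ × ℤ)) :
    vecOf D k (appV D r v) = tm D k (e1 D r) *ᵥ vecOf D k v := by
  induction v with
  | nil => simp [appV, vecOf]
  | cons q v ih =>
    have e : appV D r (q :: v) = (colL (e1 D r) q.1).map (fun q' => (q'.1, q.2 * q'.2)) ++ appV D r v :=
      List.flatMap_cons
    simp only [vecOf] at ih ⊢
    rw [e, List.map_append, List.sum_append, ih, List.map_cons, List.sum_cons, Matrix.mulVec_add,
      Matrix.mulVec_smul, e1_mulVec_bv C hr]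
    congr 1
    rw [vecOf, List.smul_sum, List.map_map, List.map_map]
    refine congrArg _ (List.map_congr_left fun x _ => ?_)
    simp [mul_smul]

/-- the fixed vectors of all the `x_r(1)` -/
def fixAll (D : ChevalleyDatum) (k : Type*) [Field k] : Submodule k (D.Idx → k) :=
  ⨅ r : Fin D.nroots, LinearMap.ker (Matrix.mulVecLin (tm D k (e1 D r)))

omit C in
theorem mem_fixAll {v : D.Idx → k} : v ∈ fixAll D k ↔ ∀ r : Fin D.nroots, tm D k (e1 D r) *ᵥ v = 0 := by
  simp [fixAll, Submodule.mem_iInf]

include hm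

theorem mulVec_top_of_fixesTop {r : ℕ} (hr : r < D.nroots) (h : fixesTop D m r = true) :
    tm D k (e1 D r) *ᵥ bv D k (topCode D) = 0 := by
  rw [e1_mulVec_bv C hr]
  refine List.sum_eq_zero fun x hx => ?_
  obtain ⟨q, hq, rfl⟩ := List.mem_map.1 hx
  rw [hm.1 _ (List.all_eq_true.1 h q hq), zero_smul]

omit hm in
theorem top_lt : topCode D < D.rank + D.nroots := by
  have := C.nroots_eq
  have := C.simple_lt (i := 0) C.rank_pos
  simp only [topCode]; omega

omit C in
theorem fix_go : ∀ (L : List (ℕ × ℕ × ℕ)) (M : ℕ), chkFixGo D m L M = true → ∀ z : D.Idx → k,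
    (∀ r, r < D.nroots → fixesTop D m r = true → tm D k (e1 D r) *ᵥ z = 0) →
    (∀ j, M.testBit j = true → coord z j = 0) → ∀ s : Fin D.nroots, z (Sum.inr s) = 0
  | [], M, h, z, _, hM, s => by
    simp only [chkFixGo, List.all_eq_true, List.mem_range, Bool.or_eq_true, nat_blt_iff] at h
    rw [← coord_code z (Sum.inr s)]
    refine hM _ ((h _ (code_lt D _)).resolve_left ?_)
    rw [code_inr]; omega
  | (r, a, c) :: L, M, h, z, hz, hM, s => by
    simp only [chkFixGo, Bool.and_eq_true, nat_blt_iff] at h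
    obtain ⟨⟨⟨⟨hr, ha⟩, hf⟩, hc⟩, hrest⟩ := h
    refine fix_go L _ hrest z hz (fun j hj => ?_) s
    rcases testBit_or_two_pow hj with h' | rfl
    · exact hM j h'
    · obtain ⟨a0, rfl⟩ := exists_code D ha
      refine chkComb_spec hm hc (fun i => coord z i) hM ?_
      have := congrFun (hz r hr hf) a0
      rw [tm_mulVec_apply] at this
      exact this

theorem span_go (W : Submodule k (D.Idx → k))
    (hW : ∀ r, r < D.nroots → ∀ w ∈ W, tm D k (e1 D r) *ᵥ w ∈ W) :
    ∀ (L : List (List ℕ × ℕ × ℕ)) (M : ℕ), chkSpanGo D m L M = true →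
      (∀ j, M.testBit j = true → bv D k j ∈ W) → W = ⊤
  | [], M, h, hM => by
    simp only [chkSpanGo, List.all_eq_true, List.mem_range] at h
    rw [eq_top_iff]
    intro v _
    rw [pi_eq_sum_univ v]
    refine Submodule.sum_mem _ fun a _ => Submodule.smul_mem _ _ ?_
    have := hM _ (h _ (code_lt D a))
    rw [bv_code] at this
    convert this using 1
    funext b
    simp [Pi.single_apply, eq_comm]
  | (ops, b, c) :: L, M, h, hM => by
    simp only [chkSpanGo, Bool.and_eq_true, List.all_eq_true, nat_blt_iff] at h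
    obtain ⟨⟨⟨hops, hb⟩, hc⟩, hrest⟩ := h
    refine span_go W hW L _ hrest fun j hj => ?_
    rcases testBit_or_two_pow hj with h' | rfl
    · exact hM j h'
    · have hv : vecOf D k (opsV D ops b) ∈ W := by
        have key : ∀ (o : List ℕ), (∀ r ∈ o, r < D.nroots) → ∀ v, vecOf D k v ∈ W →
            vecOf D k (o.foldl (fun v r => appV D r v) v) ∈ W := by
          intro o
          induction o with
          | nil => intro _ v hv; exact hv
          | cons r o ih =>
            intro ho v hv
            refine ih (fun x hx => ho x (List.mem_cons_of_mem _ hx)) _ ?_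
            rw [appV_spec C (ho r List.mem_cons_self)]
            exact hW r (ho r List.mem_cons_self) _ hv
        exact key ops hops _ (by simpa [vecOf] using hM b hb)
      rw [← Submodule.Quotient.mk_eq_zero]
      refine chkComb_spec hm hc (fun i => (Submodule.Quotient.mk (bv D k i) : (D.Idx → k) ⧸ W))
        (fun i hi => (Submodule.Quotient.mk_eq_zero W).2 (hM i hi)) ?_
      have h0 := (Submodule.Quotient.mk_eq_zero W).2 hv
      rw [← h0, vecOf, ← Submodule.mkQ_apply, map_list_sum, List.map_map]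
      rfl

/-- commuting with all `x_r(1)` forces a scalar -/
theorem eq_scalar_of_commute {L : List (ℕ × ℕ × ℕ)} {S : List (List ℕ × ℕ × ℕ)} {Tp : List (List ℕ × ℕ)}
    (h : chkScalar D m L S Tp = true) (T : Matrix D.Idx D.Idx k)
    (hT : ∀ r, r < D.nroots → D.x k r 1 * T = T * D.x k r 1) :
    ∃ a0 : D.Idx, code D a0 = topCode D ∧ T = T a0 a0 • 1 := by
  simp only [chkScalar, chkFix, Bool.and_eq_true, List.all_eq_true, List.mem_range] at h
  obtain ⟨⟨⟨hF, hsimple⟩, hS⟩, hTp⟩ := h
  obtain ⟨a0, ha0⟩ := exists_code D (top_lt C)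
  refine ⟨a0, ha0, ?_⟩
  obtain ⟨lam, hlam⟩ : ∃ lam, lam = T a0 a0 := ⟨_, rfl⟩
  rw [← hlam]
  have hE : ∀ r, r < D.nroots → tm D k (e1 D r) * T = T * tm D k (e1 D r) := fun r hr => by
    rw [tm_e1 C hr, sub_mul, mul_sub, hT r hr, one_mul, mul_one]
  have hEv : ∀ r, r < D.nroots → ∀ w, tm D k (e1 D r) *ᵥ (T *ᵥ w - lam • w) =
      T *ᵥ (tm D k (e1 D r) *ᵥ w) - lam • (tm D k (e1 D r) *ᵥ w) := fun r hr w => by
    rw [Matrix.mulVec_sub, Matrix.mulVec_smul, Matrix.mulVec_mulVec, Matrix.mulVec_mulVec, hE r hr]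
  obtain ⟨z, hz⟩ : ∃ z, z = T *ᵥ bv D k (topCode D) - lam • bv D k (topCode D) := ⟨_, rfl⟩
  have hz0 : ∀ r, r < D.nroots → fixesTop D m r = true → tm D k (e1 D r) *ᵥ z = 0 := fun r hr hf => by
    rw [hz, hEv r hr, mulVec_top_of_fixesTop C hm hr hf, Matrix.mulVec_zero, smul_zero, sub_zero]
  have hzs : ∀ s, z (Sum.inr s) = 0 := by
    refine fix_go hm L _ hF z hz0 fun j hj => ?_
    rw [Nat.testBit_two_pow, decide_eq_true_iff] at hj
    rw [← hj, ← ha0, coord_code, hz, ← ha0, bv_code, Matrix.mulVec_single_one, Pi.sub_apply, Pi.smul_apply,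
      Pi.single_eq_same, smul_eq_mul, mul_one, Matrix.col_apply, hlam, sub_self]
  have hzx : ∀ r : Fin D.nroots, (tm D k (e1 D r) *ᵥ z) =
      fun a => if a = Sum.inr r then - ∑ i : Fin D.rank, (D.cartan i r : k) * z (Sum.inl i) else 0 := by
    intro r
    funext a
    rw [tm_e1 C r.2, Matrix.sub_mulVec, Matrix.one_mulVec, Pi.sub_apply]
    simp only [Matrix.mulVec, dotProduct, Fintype.sum_sum_type, hzs, mul_zero, Finset.sum_const_zero, add_zero]
    cases a with
    | inl i =>
      rw [if_neg (by simp)]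
      simp only [C.xM_inl_inl r.2, ite_mul, one_mul, zero_mul, Finset.sum_ite_eq, Finset.mem_univ, if_true, sub_self]
    | inr u =>
      rw [hzs, sub_zero]
      simp only [C.xM_inr_inl r.2, Sum.inr.injEq]
      by_cases hu : u = r
      · subst hu; simp [← Finset.sum_neg_distrib]
      · have : (u : ℕ) ≠ r := fun e => hu (Fin.ext e)
        simp [hu, this]
  have hzf : z ∈ fixAll D k := by
    refine mem_fixAll.2 fun r => ?_
    rw [hzx r]
    funext a
    rw [Pi.zero_apply]
    split_ifs with ha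
    · rw [neg_eq_zero]
      have hs : ∀ j : Fin D.rank, ∑ i : Fin D.rank, (D.cartan i (D.simple j) : k) * z (Sum.inl i) = 0 := fun j => by
        have h1 := congrFun (hz0 _ (C.simple_lt j.2) (hsimple j j.2)) (Sum.inr ⟨D.simple j, C.simple_lt j.2⟩)
        rw [hzx ⟨D.simple j, C.simple_lt j.2⟩] at h1
        simp only [if_true, Pi.zero_apply] at h1
        rw [neg_eq_zero] at h1
        exact h1
      rw [Finset.sum_congr rfl (fun i _ => by rw [C.cartan_eq r.2 i.2])]
      push_cast
      simp only [Finset.sum_mul, mul_assoc]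
      rw [Finset.sum_comm]
      refine Finset.sum_eq_zero fun j hj => ?_
      rw [← Finset.mul_sum, hs ⟨j, Finset.mem_range.1 hj⟩, mul_zero]
    · rfl
  obtain ⟨Lz, hLz⟩ : ∃ Lz, Lz = Matrix.mulVecLin T - lam • (LinearMap.id : (D.Idx → k) →ₗ[k] D.Idx → k) :=
    ⟨_, rfl⟩
  have hLzv : ∀ w, Lz w = T *ᵥ w - lam • w := fun w => by simp [hLz]
  have hW0 : Submodule.comap Lz (fixAll D k) = ⊤ := by
    refine span_go C hm _ (fun r hr w hw => ?_) S _ hS fun j hj => ?_
    · rw [Submodule.mem_comap, hLzv, ← hEv r hr, ← hLzv, mem_fixAll.1 hw ⟨r, hr⟩]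
      exact zero_mem _
    · rw [Nat.testBit_two_pow, decide_eq_true_iff] at hj
      rw [← hj, Submodule.mem_comap, hLzv, ← hz]
      exact hzf
  have himg : ∀ r, r < D.nroots → ∀ w, Lz (tm D k (e1 D r) *ᵥ w) = 0 := fun r hr w => by
    rw [hLzv, ← hEv r hr, ← hLzv]
    exact mem_fixAll.1 (show Lz w ∈ fixAll D k by rw [← Submodule.mem_comap, hW0]; exact Submodule.mem_top) ⟨r, hr⟩
  have htop : Lz (bv D k (topCode D)) = 0 := by
    simp only [chkTop, Bool.and_eq_true, List.all_eq_true, Bool.not_eq_true', nat_blt_iff] at hTp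
    refine chkComb_spec hm hTp.2 (fun i => Lz (bv D k i)) (by simp) ?_
    rw [List.map_flatMap]
    simp only [List.flatMap]
    rw [List.sum_flatten]
    refine List.sum_eq_zero fun x hx => ?_
    simp only [List.map_map, List.mem_map, Function.comp_apply] at hx
    obtain ⟨q, hq, rfl⟩ := hx
    obtain ⟨hne, hops⟩ := hTp.1 q hq
    have e : ((opsV D q.1 q.2).map fun i => (i.2 : k) • Lz (bv D k i.1)).sum = Lz (vecOf D k (opsV D q.1 q.2)) := by
      rw [vecOf, map_list_sum, List.map_map]
      refine congrArg _ (List.map_congr_left fun i _ => ?_)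
      rw [Function.comp_apply, map_smul]
    rw [e, opsV, ← List.dropLast_concat_getLast (show q.1 ≠ [] by
      intro h; rw [h] at hne; exact Bool.noConfusion hne), List.foldl_concat,
      appV_spec C (hops _ (List.getLast_mem _))]
    exact himg _ (hops _ (List.getLast_mem _)) _
  have hW1 : LinearMap.ker Lz = ⊤ := by
    refine span_go C hm _ (fun r hr w _ => himg r hr w) S _ hS fun j hj => ?_
    rw [Nat.testBit_two_pow, decide_eq_true_iff] at hj
    rw [← hj]; exact htop
  ext a b
  have := congrFun (show Lz (Pi.single b 1) = 0 by rw [← LinearMap.mem_ker, hW1]; exact Submodule.mem_top) a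
  rw [hLzv, Pi.sub_apply, Pi.zero_apply, sub_eq_zero, Matrix.mulVec_single_one] at this
  simpa [Matrix.one_apply, Pi.single_apply, eq_comm] using this

end CfsgLib.Known.Overgroup
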