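import Cfsg.Agent.Lib.PGroups.Breadth

/-!
# The twisted relative trace

Two matrix representations of a finite group `H` agreeing on a subgroup `H₀`: the sum of `ρ'(h) ρ(h)⁻¹`
over `H / H₀` intertwines them, and is detected by a functional killing relative traces from maximal
subgroups of a Sylow subgroup.
-/

set_option autoImplicit false

namespace CfsgLib.Known.Overgroup

open scoped Pointwise

variable {k : Type*} [Field k] (p : ℕ) [Fact p.Prime] {M : Type*} [Ring M] [Algebra k M]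
  {H : Type*} [Group H] [Finite H]

/-- a functional killing the trace from every normal subgroup of index `p` -/
def KillsTraces (ρ : H →* M) (χ : M →ₗ[k] k) (S : Subgroup H) : Prop :=
  ∀ N : Subgroup H, N ≤ S → N.relIndex S = p → (∀ s ∈ S, ∀ n ∈ N, s * n * s⁻¹ ∈ N) →
    (∀ x ∈ S, ∀ y ∈ S, x * y * x⁻¹ * y⁻¹ ∈ N) → ∀ Y : M, (∀ n ∈ N, Commute (ρ n) Y) →
      ∃ u ∈ S, u ∉ N ∧ χ (∑ i ∈ Finset.range p, ρ (u ^ i) * Y * ρ (u ^ i)⁻¹) = 0

omit [Finite H] in
/-- in a `p`-group every proper subgroup is inside a normal subgroup of index `p`, containing all commutators -/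
theorem exists_maximal {S : Subgroup H} [Finite S] (hS : IsPGroup p S) {K : Subgroup H} (hK : K ≤ S)
    (hne : K ≠ S) : ∃ N : Subgroup H, K ≤ N ∧ N ≤ S ∧ N.relIndex S = p ∧ (∀ s ∈ S, ∀ n ∈ N, s * n * s⁻¹ ∈ N) ∧
      ∀ x ∈ S, ∀ y ∈ S, x * y * x⁻¹ * y⁻¹ ∈ N := by
  have hne' : K.subgroupOf S ≠ ⊤ := fun h => hne (le_antisymm hK (Subgroup.subgroupOf_eq_top.1 h))
  obtain ⟨N, hKN, hidx⟩ := CfsgLib.PGroups.Breadth.exists_maximal hS hne'
  have hnorm : N.Normal := CfsgLib.PGroups.Breadth.normal_of_index hS hidx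
  refine ⟨N.map S.subtype, fun x hx => ⟨⟨x, hK hx⟩, hKN (Subgroup.mem_subgroupOf.2 hx), rfl⟩,
    Subgroup.map_subtype_le N, ?_, ?_, ?_⟩
  · rw [Subgroup.relIndex, Subgroup.subgroupOf, Subgroup.comap_map_eq_self_of_injective S.subtype_injective, hidx]
  · rintro s hs _ ⟨n, hn, rfl⟩
    exact ⟨⟨s, hs⟩ * n * ⟨s, hs⟩⁻¹, hnorm.conj_mem n hn _, rfl⟩
  · intro x hx y hy
    refine ⟨⟨x, hx⟩ * ⟨y, hy⟩ * ⟨x, hx⟩⁻¹ * ⟨y, hy⟩⁻¹, ?_, rfl⟩
    have hcard : Nat.card (S ⧸ N) = p := hidx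
    have : IsCyclic (S ⧸ N) := isCyclic_of_prime_card hcard
    rw [SetLike.mem_coe, ← QuotientGroup.eq_one_iff, QuotientGroup.mk_mul, QuotientGroup.mk_mul, QuotientGroup.mk_mul,
      QuotientGroup.mk_inv, QuotientGroup.mk_inv,
      show ((⟨x, hx⟩ : S) : S ⧸ N) * ((⟨y, hy⟩ : S) : S ⧸ N) = ((⟨y, hy⟩ : S) : S ⧸ N) * ((⟨x, hx⟩ : S) : S ⧸ N)
        from IsCyclic.commGroup.mul_comm _ _]
    group

variable (ρ ρ' : H →* M) (H₀ : Subgroup H) (hagree : ∀ h ∈ H₀, ρ' h = ρ h)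
include hagree

/-- the summand -/
def phi : H ⧸ H₀ → M :=
  Quotient.lift (fun h => ρ' h * ρ h⁻¹) fun a b hab => by
    have h : a⁻¹ * b ∈ H₀ := QuotientGroup.leftRel_apply.1 hab
    show ρ' a * ρ a⁻¹ = ρ' b * ρ b⁻¹
    rw [show b = a * (a⁻¹ * b) by group, map_mul ρ', mul_inv_rev a (a⁻¹ * b), map_mul ρ, hagree _ h,
      mul_assoc, ← mul_assoc (ρ (a⁻¹ * b)), ← map_mul, mul_inv_cancel, map_one, one_mul]

omit [Finite H] in
theorem phi_smul (g : H) (x : H ⧸ H₀) :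
    phi ρ ρ' H₀ hagree (g • x) = ρ' g * phi ρ ρ' H₀ hagree x * ρ g⁻¹ := by
  induction x using QuotientGroup.induction_on with
  | H a =>
    show ρ' (g * a) * ρ (g * a)⁻¹ = ρ' g * (ρ' a * ρ a⁻¹) * ρ g⁻¹
    rw [map_mul, mul_inv_rev, map_mul]; simp only [mul_assoc]

/-- the trace -/
noncomputable def trace [Fintype (H ⧸ H₀)] : M := ∑ x : H ⧸ H₀, phi ρ ρ' H₀ hagree x

omit [Finite H] in
theorem trace_intertwines [Fintype (H ⧸ H₀)] (g : H) :
    ρ' g * trace ρ ρ' H₀ hagree = trace ρ ρ' H₀ hagree * ρ g := by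
  have e : trace ρ ρ' H₀ hagree = ρ' g * trace ρ ρ' H₀ hagree * ρ g⁻¹ := by
    simp only [trace, Finset.mul_sum, Finset.sum_mul, ← phi_smul ρ ρ' H₀ hagree]
    exact (Equiv.sum_comp (MulAction.toPerm g) (fun x => phi ρ ρ' H₀ hagree x)).symm
  conv_rhs => rw [e]
  rw [mul_assoc, ← map_mul, inv_mul_cancel, map_one, mul_one]

variable {S : Subgroup H} (hS : IsPGroup p S) (hS₀ : S ≤ H₀) (χ : M →ₗ[k] k)
  (hkill : KillsTraces p ρ χ S)
include hS hS₀ hkill

/-- an invariant set without fixed points contributes nothing -/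
theorem sum_moving_eq_zero (P : Finset (H ⧸ H₀)) (hinv : ∀ s ∈ S, ∀ x ∈ P, s • x ∈ P)
    (hmov : ∀ x ∈ P, ∃ s ∈ S, s • x ≠ x) : χ (∑ x ∈ P, phi ρ ρ' H₀ hagree x) = 0 := by
  classical
  induction P using Finset.strongInduction with
  | _ P ih =>
    by_cases hP : P = ∅
    · simp [hP]
    obtain ⟨x, hx⟩ := Finset.nonempty_iff_ne_empty.2 hP
    obtain ⟨K, hK⟩ : ∃ K, K = MulAction.stabilizer H x ⊓ S := ⟨_, rfl⟩
    have hKne : K ≠ S := by
      intro h
      obtain ⟨s, hs, hne⟩ := hmov x hx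
      rw [← h, hK] at hs
      exact hne hs.1
    obtain ⟨N, hKN, hNS, hidx, hnorm, hcomm⟩ := exists_maximal p hS (hK ▸ inf_le_right) hKne
    obtain ⟨O, hO⟩ : ∃ O, O = P.filter fun y => ∃ n ∈ N, n • x = y := ⟨_, rfl⟩
    have hOmem : ∀ {y}, y ∈ O ↔ ∃ n ∈ N, n • x = y := fun {y} => by
      rw [hO, Finset.mem_filter]
      exact ⟨fun h => h.2, fun ⟨n, hn, h⟩ => ⟨h ▸ hinv n (hNS hn) x hx, n, hn, h⟩⟩
    have hYc : ∀ n ∈ N, Commute (ρ n) (∑ y ∈ O, phi ρ ρ' H₀ hagree y) := by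
      intro n hn
      have e : ∑ y ∈ O, phi ρ ρ' H₀ hagree y = ρ n * (∑ y ∈ O, phi ρ ρ' H₀ hagree y) * ρ n⁻¹ := by
        rw [Finset.mul_sum, Finset.sum_mul]
        refine Finset.sum_bij' (fun y _ => n⁻¹ • y) (fun y _ => n • y) (fun y hy => ?_) (fun y hy => ?_)
          (fun y _ => smul_inv_smul n y) (fun y _ => inv_smul_smul n y) (fun y _ => ?_)
        · obtain ⟨m, hm, rfl⟩ := hOmem.1 hy
          exact hOmem.2 ⟨n⁻¹ * m, mul_mem (inv_mem hn) hm, mul_smul _ _ _⟩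
        · obtain ⟨m, hm, rfl⟩ := hOmem.1 hy
          exact hOmem.2 ⟨n * m, mul_mem hn hm, mul_smul _ _ _⟩
        · conv_lhs => rw [← smul_inv_smul n y, phi_smul, hagree n (hS₀ (hNS hn))]
      show ρ n * _ = _ * ρ n
      conv_rhs => rw [e]
      rw [mul_assoc, ← map_mul, inv_mul_cancel, map_one, mul_one]
    obtain ⟨u, huS, huN, hu0⟩ := hkill N hNS hidx hnorm hcomm _ hYc
    -- the orbit as the union of the translates of `O`
    have hpow : ∀ d : ℕ, u ^ d ∈ N → p ∣ d := by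
      intro d hd
      have hN' : (N.subgroupOf S).Normal := ⟨fun n hn g => hnorm g g.2 n hn⟩
      have hcard : Nat.card (S ⧸ N.subgroupOf S) = p := hidx
      have hne1 : ((⟨u, huS⟩ : S) : S ⧸ N.subgroupOf S) ≠ 1 := by
        rw [Ne, QuotientGroup.eq_one_iff]; exact huN
      have hord : orderOf ((⟨u, huS⟩ : S) : S ⧸ N.subgroupOf S) = p :=
        ((Nat.dvd_prime (Fact.out : p.Prime)).1 (hcard ▸ orderOf_dvd_natCard _)).resolve_left
          (by rw [orderOf_eq_one_iff]; exact hne1)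
      rw [← hord]
      refine orderOf_dvd_of_pow_eq_one ?_
      rw [← QuotientGroup.mk_pow, QuotientGroup.eq_one_iff]
      exact hd
    have hsurj : ∀ s ∈ S, ∃ i < p, (u ^ i)⁻¹ * s ∈ N := by
      intro s hs
      have hN' : (N.subgroupOf S).Normal := ⟨fun n hn g => hnorm g g.2 n hn⟩
      have hcard : Nat.card (S ⧸ N.subgroupOf S) = p := hidx
      have hne1 : ((⟨u, huS⟩ : S) : S ⧸ N.subgroupOf S) ≠ 1 := by
        rw [Ne, QuotientGroup.eq_one_iff]; exact huN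
      have htop := zpowers_eq_top_of_prime_card hcard hne1
      have hmem : ((⟨s, hs⟩ : S) : S ⧸ N.subgroupOf S) ∈
          Subgroup.zpowers ((⟨u, huS⟩ : S) : S ⧸ N.subgroupOf S) := htop ▸ Subgroup.mem_top _
      rw [← mem_powers_iff_mem_zpowers, mem_powers_iff_mem_range_orderOf, Finset.mem_image] at hmem
      obtain ⟨i, hi, e⟩ := hmem
      refine ⟨i, (Finset.mem_range.1 hi).trans_le
        (Nat.le_of_dvd (Fact.out : p.Prime).pos (hcard ▸ orderOf_dvd_natCard _)), ?_⟩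
      rw [← QuotientGroup.mk_pow, QuotientGroup.eq] at e
      exact e
    obtain ⟨T, hT⟩ : ∃ T, T = (Finset.range p).biUnion fun i => O.image (u ^ i • ·) := ⟨_, rfl⟩
    have hTmem : ∀ {y}, y ∈ T ↔ ∃ s ∈ S, s • x = y := fun {y} => by
      rw [hT, Finset.mem_biUnion]
      constructor
      · rintro ⟨i, -, hy⟩
        obtain ⟨z, hz, rfl⟩ := Finset.mem_image.1 hy
        obtain ⟨n, hn, rfl⟩ := hOmem.1 hz
        exact ⟨u ^ i * n, mul_mem (pow_mem huS i) (hNS hn), mul_smul _ _ _⟩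
      · rintro ⟨s, hs, rfl⟩
        obtain ⟨i, hi, hn⟩ := hsurj s hs
        exact ⟨i, Finset.mem_range.2 hi, Finset.mem_image.2 ⟨_, hOmem.2 ⟨_, hn, rfl⟩, by
          rw [← mul_smul, mul_inv_cancel_left]⟩⟩
    have hdisj : ((Finset.range p : Finset ℕ) : Set ℕ).PairwiseDisjoint fun i => O.image (u ^ i • ·) := by
      intro i hi j hj hij
      rw [Function.onFun, Finset.disjoint_left]
      intro y hy hy'
      obtain ⟨z, hz, rfl⟩ := Finset.mem_image.1 hy
      obtain ⟨z', hz', e⟩ := Finset.mem_image.1 hy'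
      obtain ⟨n, hn, rfl⟩ := hOmem.1 hz
      obtain ⟨n', hn', rfl⟩ := hOmem.1 hz'
      rw [smul_smul, smul_smul] at e
      have hK' : (u ^ i * n)⁻¹ * (u ^ j * n') ∈ N := hKN (by
        rw [hK]
        exact Subgroup.mem_inf.2 ⟨MulAction.mem_stabilizer_iff.2 (by rw [mul_smul, e, inv_smul_smul]),
          mul_mem (inv_mem (mul_mem (pow_mem huS i) (hNS hn))) (mul_mem (pow_mem huS j) (hNS hn'))⟩)
      have h2 : (u ^ i)⁻¹ * u ^ j ∈ N := by
        have := mul_mem (mul_mem hn hK') (inv_mem hn')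
        convert this using 1; group
      simp only [Finset.coe_range, Set.mem_Iio] at hi hj
      rcases le_total i j with h | h
      · rw [← Nat.add_sub_cancel' h, pow_add, inv_mul_cancel_left] at h2
        have := Nat.eq_zero_of_dvd_of_lt (hpow _ h2) (by omega)
        omega
      · have h3 := inv_mem h2
        rw [mul_inv_rev, inv_inv, ← Nat.add_sub_cancel' h, pow_add, inv_mul_cancel_left] at h3
        have := Nat.eq_zero_of_dvd_of_lt (hpow _ h3) (by omega)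
        omega
    have hTP : T ⊆ P := fun y hy => by
      obtain ⟨s, hs, rfl⟩ := hTmem.1 hy
      exact hinv s hs x hx
    have hxT : x ∈ T := hTmem.2 ⟨1, one_mem _, one_smul _ _⟩
    have hsumT : χ (∑ y ∈ T, phi ρ ρ' H₀ hagree y) = 0 := by
      rw [hT, Finset.sum_biUnion hdisj, ← hu0]
      refine congrArg _ (Finset.sum_congr rfl fun i _ => ?_)
      rw [Finset.sum_image (fun a _ b _ h => MulAction.injective _ h), Finset.mul_sum, Finset.sum_mul]
      exact Finset.sum_congr rfl fun y _ => by rw [phi_smul, hagree _ (hS₀ (pow_mem huS i))]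
    rw [← Finset.sum_sdiff hTP, map_add, hsumT, add_zero]
    refine ih (P \ T) ?_ (fun s hs y hy => ?_) fun y hy => hmov y (Finset.mem_sdiff.1 hy).1
    · exact Finset.sdiff_ssubset hTP ⟨x, hxT⟩
    · obtain ⟨hy1, hy2⟩ := Finset.mem_sdiff.1 hy
      refine Finset.mem_sdiff.2 ⟨hinv s hs y hy1, fun h => hy2 ?_⟩
      obtain ⟨s', hs', e⟩ := hTmem.1 h
      exact hTmem.2 ⟨s⁻¹ * s', mul_mem (inv_mem hs) hs', by rw [mul_smul, e, inv_smul_smul]⟩

/-- the functional detects the trace: it counts the fixed cosets, a number prime to `p` -/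
theorem trace_ne_zero [CharP k p] [Fintype (H ⧸ H₀)] (hindex : ¬ p ∣ H₀.index)
    (hfix : ∀ x : H ⧸ H₀, (∀ s ∈ S, s • x = x) → χ (phi ρ ρ' H₀ hagree x) = 1) :
    χ (trace ρ ρ' H₀ hagree) ≠ 0 := by
  classical
  have hmod := hS.card_modEq_card_fixedPoints (H ⧸ H₀)
  obtain ⟨Fx, hFx⟩ : ∃ Fx, Fx = (Finset.univ : Finset (H ⧸ H₀)).filter fun x => ∀ s ∈ S, s • x = x := ⟨_, rfl⟩
  have hcard : Nat.card (MulAction.fixedPoints S (H ⧸ H₀)) = Fx.card := by
    rw [← Nat.card_eq_finsetCard]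
    refine Nat.card_congr (Equiv.subtypeEquivRight fun x => ?_)
    rw [hFx, Finset.mem_filter]
    exact ⟨fun h => ⟨Finset.mem_univ _, fun s hs => h ⟨s, hs⟩⟩, fun h s => h.2 s s.2⟩
  have hχ : χ (trace ρ ρ' H₀ hagree) = (Fx.card : k) := by
    rw [trace, ← Finset.sum_sdiff (Finset.subset_univ Fx), map_add,
      sum_moving_eq_zero p ρ ρ' H₀ hagree hS hS₀ χ hkill, zero_add, map_sum,
      Finset.sum_congr rfl (fun x hx => hfix x (by rw [hFx, Finset.mem_filter] at hx; exact hx.2))]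
    · simp
    · intro s hs x hx
      rw [Finset.mem_sdiff, hFx, Finset.mem_filter] at hx ⊢
      refine ⟨Finset.mem_univ _, fun h => hx.2 ⟨Finset.mem_univ _, fun t ht => ?_⟩⟩
      have := h.2 (s * t * s⁻¹) (mul_mem (mul_mem hs ht) (inv_mem hs))
      rwa [← mul_smul, inv_mul_cancel_right, mul_smul, smul_left_cancel_iff] at this
    · intro x hx
      by_contra hcon
      simp only [Finset.mem_sdiff, hFx, Finset.mem_filter, Finset.mem_univ, true_and] at hx
      exact hx fun s hs => not_not.1 fun h => hcon ⟨s, hs, h⟩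
  rw [hχ, Ne, CharP.cast_eq_zero_iff k p]
  intro hdvd
  refine hindex (Nat.modEq_zero_iff_dvd.1 (hmod.trans ?_))
  rw [hcard]
  exact Nat.modEq_zero_iff_dvd.2 hdvd

end CfsgLib.Known.Overgroup
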